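import Cfsg.Agent.Cit.Nil.RFour.Gen_m3
import Cfsg.Agent.ThreePrime.Pump
import Cfsg.Agent.Lib.ThompsonPQ
import Cfsg.Agent.Cit.Nil.Comp.MThreeAbs
import Cfsg.Agent.Cit.Nil.LO.FormQ_m3
import Cfsg.Agent.PLocal.SubnormalCore
import Cfsg.Agent.S1303
import Cfsg.Agent.KFacts.RgdFld.Two_m3
import Cfsg.Agent.Cit.Comp
import Cfsg.Agent.S0215
import Cfsg.Agent.TwoFusion.Isolated
import Cfsg.Agent.SignalizersComponents.CompBasic
import Cfsg.Agent.Cit.OneComp_m3
import Cfsg.Agent.Lib.PComponents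
import Cfsg.Agent.Cit.OmB3.Torus_m3
import Cfsg.Agent.SignalizersComponents.QsBasic
import Cfsg.Agent.SignalizersComponents.DistinctComponents
import Cfsg.Agent.TwoFusion.StronglyEmbeddedBasic
import Cfsg.Agent.UGT.U2.FOne.NatJ_m3
import Cfsg.Agent.Cit.TyTrans_m3
import Cfsg.Agent.ONType.CzIso
import Cfsg.Agent.FixBN.ReduceMain_m3
import Cfsg.Agent.FastGrp
import Cfsg.Agent.Prune
set_option linter.all false

section
prune_inst 0x7ffcfefbaff8bddeffff7e7ffffddfffb9fcffffffdffbfbfffdfbffffff6b67ffe5fbafffecd8ffdef6e2b4b0f87b53f9ffc67fef6bdc7ffffd5ff45ffbff9fffffbfad51feb8be1ffe6ffffbf37fee7f3fffffffffffffffffffffffffffffffffffffffff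

-- part: Cit/Nil/Three/Inst
section
prune_inst 0x100001005000100000000000000004001000000000400000200000000008000080000000000000001000800000000020028800000010000000000000000000000000020000400000000000000001180c00000000000000000000000000000000000000000
set_option linter.all false
open scoped Cfsg.Agent.FastGrp

-- part: Cit/Nil/Three/Base
section
/-!
# S1309, node (n2) THREE PROPAGATION, part I: inside `C(a)`

Blueprint: helper472 #17340 (n2), helper981 #17955 (0).

* `Over MM a` : `MM` are the members over the central involution `a` of `G` (= `C(a)`), `O(G) = 1`;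
* `Cc MM a K c` : `c` of odd order normalises `K`, is not trivial on `K`, centralises `R = C_P(K)`, `P = O₂(G)`;
* `Over.comm_R` : the odd elements of `J` sn `C(s)` (`K ≤ J`, `16 ∤ |J|`) normalise `K` and centralise `R`;
* `Over.le_sup` : `P ≤ K R`.
-/

set_option autoImplicit false
set_option linter.style.haveILetI false
set_option linter.unusedSectionVars false

namespace Cfsg.Agent.Cit.Nil.Three

open Subgroup Cfsg Cit RTwo

variable {G : Type*} [Group G]

/-! ### elements of odd order -/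

theorem comm_of_pow_two {d k : G} (ho : Odd (orderOf d)) {n : ℕ} (h : Commute (d ^ 2 ^ n) k) : Commute d k := by
  have h1 : Nat.Coprime (2 ^ n) (orderOf d) := (Nat.coprime_two_left.2 ho).pow_left n
  obtain ⟨m, hm⟩ := exists_pow_eq_self_of_coprime h1
  rw [← hm]
  exact h.pow_left m

/-- an element of odd order acting as an inner automorphism centralises -/
theorem comm_of_odd_inn {d k z : G} (hz : z * z = 1) (ho : Odd (orderOf d)) (hdz : d * z = z * d)
    (h : d * k * d⁻¹ = k ∨ d * k * d⁻¹ = z * k) : d * k = k * d := by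
  refine (comm_of_pow_two ho (n := 1) ?_).eq
  have h1 : d * (d * k * d⁻¹) * d⁻¹ = k := by
    rcases h with h | h
    · rw [h, h]
    · rw [h]
      calc d * (z * k) * d⁻¹ = (d * z) * k * d⁻¹ := by group
        _ = z * (d * k * d⁻¹) := by rw [hdz]; group
        _ = k := by rw [h, ← mul_assoc, hz, one_mul]
  rw [pow_one, pow_two]
  show d * d * k = k * (d * d)
  calc d * d * k = (d * (d * k * d⁻¹) * d⁻¹) * (d * d) := by group
    _ = _ := by rw [h1]

/-- a 2-element and an element of odd order with the same action act trivially -/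
theorem comm_of_same {u c : G} {L : Subgroup G} {n : ℕ} (hu : u ^ 2 ^ n = 1) (ho : Odd (orderOf c))
    (hL : ∀ x ∈ L, c * x * c⁻¹ ∈ L) (h : ∀ x ∈ L, u * x * u⁻¹ = c * x * c⁻¹) : ∀ x ∈ L, c * x = x * c := by
  have key : ∀ i : ℕ, ∀ x ∈ L, u ^ i * x * (u ^ i)⁻¹ = c ^ i * x * (c ^ i)⁻¹ ∧ c ^ i * x * (c ^ i)⁻¹ ∈ L := by
    intro i
    induction i with
    | zero => intro x hx; simpa using hx
    | succ i ih =>
      intro x hx
      obtain ⟨h1, h2⟩ := ih x hx
      have e1 : u ^ (i + 1) * x * (u ^ (i + 1))⁻¹ = u * (u ^ i * x * (u ^ i)⁻¹) * u⁻¹ := by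
        rw [pow_succ' u i]; group
      have e2 : c ^ (i + 1) * x * (c ^ (i + 1))⁻¹ = c * (c ^ i * x * (c ^ i)⁻¹) * c⁻¹ := by
        rw [pow_succ' c i]; group
      rw [e1, e2, h1]
      exact ⟨h _ h2, hL _ h2⟩
  intro x hx
  refine (comm_of_pow_two ho (n := n) ?_).eq
  have h1 := (key (2 ^ n) x hx).1
  rw [hu, one_mul, inv_one, mul_one] at h1
  show c ^ 2 ^ n * x = x * c ^ 2 ^ n
  rw [← mul_inv_eq_iff_eq_mul, ← h1]

theorem odd_perm {τ : Equiv.Perm (Fin 3)} {m : ℕ} (hm : Odd m) (h : τ ^ m = 1) : τ * τ * τ = 1 := by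
  have key : ∀ τ : Equiv.Perm (Fin 3), τ * τ * τ = 1 ∨ τ * τ = 1 := by decide
  rcases key τ with h1 | h1
  · exact h1
  · obtain ⟨k, hk⟩ := hm
    rw [hk, pow_succ, pow_mul, pow_two, h1, one_pow, one_mul] at h
    rw [h]; rfl

theorem two_perm {σ : Equiv.Perm (Fin 3)} {n : ℕ} (h : σ ^ 2 ^ n = 1) : σ * σ = 1 := by
  have key : ∀ τ : Equiv.Perm (Fin 3), τ * τ * τ = 1 ∨ τ * τ = 1 := by decide
  rcases key σ with h1 | h1
  · have h2 : orderOf σ ∣ 3 := orderOf_dvd_of_pow_eq_one (by rw [pow_succ, pow_two]; exact h1)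
    have h3 : orderOf σ ∣ 2 ^ n := orderOf_dvd_of_pow_eq_one h
    have h4 : Nat.Coprime 3 (2 ^ n) := Nat.Coprime.pow_right n (by norm_num)
    have h5 : σ = 1 := orderOf_eq_one_iff.1 (Nat.eq_one_of_dvd_coprimes h4 h2 h3)
    rw [h5]; rfl
  · exact h1

set_option maxRecDepth 20000 in
theorem perm_key' : ∀ σ τ : Equiv.Perm (Fin 3), τ ≠ 1 → τ * τ * τ = 1 → σ * σ = 1 → σ ≠ 1 →
    ¬ ((σ * (τ * σ * τ⁻¹)) * (σ * (τ * σ * τ⁻¹)) = 1) := by decide

theorem perm_key {σ τ : Equiv.Perm (Fin 3)} (h1 : σ * σ = 1) (h2 : τ * τ * τ = 1) (h3 : τ ≠ 1)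
    (h4 : (σ * (τ * σ * τ⁻¹)) * (σ * (τ * σ * τ⁻¹)) = 1) : σ = 1 := by
  by_contra h5
  exact perm_key' σ τ h3 h2 h1 h5 h4

theorem act_pow {z g : G} {x : Fin 3 → G} {σ : Equiv.Perm (Fin 3)} (hz : z * z = 1) (h : Act z x x g σ)
    (hg : g * z = z * g) (n : ℕ) : Act z x x (g ^ n) (σ ^ n) := by
  induction n with
  | zero => simpa using Act.one x z
  | succ n ih => rw [pow_succ', pow_succ']; exact ih.comp hz h hg

theorem act_inv {z g : G} {x : Fin 3 → G} {σ : Equiv.Perm (Fin 3)} {K : Subgroup G} (hx : Q3 K z x)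
    (h : Act z x x g σ) (hg : g * z = z * g) (hgK : cj g K = K) : Act z x x g⁻¹ σ⁻¹ := by
  have hgz : g⁻¹ * z = z * g⁻¹ := by
    rw [inv_mul_eq_iff_eq_mul, ← mul_assoc, hg, mul_inv_cancel_right]
  have hgK' : cj g⁻¹ K = K := by
    have := congrArg (cj g⁻¹) hgK
    rw [← cj_mul, inv_mul_cancel] at this
    simpa using this.symm
  obtain ⟨τ, hτ⟩ := hx.exists_act hx hgK' hgz
  have h1 := h.comp hx.z2 hτ hgz
  rw [inv_mul_cancel] at h1
  have h2 := h1.unique hx (Act.one x z)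
  rw [← eq_inv_of_mul_eq_one_left h2]
  exact hτ

/-! ### the subnormal subgroup `J` -/

/-- a 2-subgroup `T` normal in the group normalises the "odd part" of a subnormal subgroup -/
theorem conj_mem_of_subnormal [Finite G] {J : Subgroup G} (hJ : J.IsSubnormal) {c t : G} (hc : c ∈ J)
    (ho : Odd (orderOf c)) {n : ℕ} (ht : (t * c * t⁻¹ * c⁻¹) ^ 2 ^ n = 1) : t * c * t⁻¹ ∈ J := by
  induction hJ with
  | top => exact mem_top _
  | step H K h_le hSubn hN ih =>
    have hcK := h_le hc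
    have h1 := ih hcK
    have h2 : t * c * t⁻¹ * c⁻¹ ∈ K := mul_mem h1 (inv_mem hcK)
    have h3 : QuotientGroup.mk' (H.subgroupOf K) ⟨t * c * t⁻¹, h1⟩ =
        QuotientGroup.mk' (H.subgroupOf K) ⟨t * c * t⁻¹ * c⁻¹, h2⟩ := by
      rw [QuotientGroup.mk'_eq_mk']
      refine ⟨⟨c⁻¹, inv_mem hcK⟩, ?_, rfl⟩
      exact mem_subgroupOf.2 (H.inv_mem hc)
    have h4 : orderOf (QuotientGroup.mk' (H.subgroupOf K) ⟨t * c * t⁻¹, h1⟩) ∣ orderOf c := by
      refine (orderOf_map_dvd _ _).trans ?_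
      rw [Subgroup.orderOf_mk]
      have : orderOf (t * c * t⁻¹) = orderOf c := (MulAut.conj t).orderOf_eq c
      rw [this]
    have h5 : orderOf (QuotientGroup.mk' (H.subgroupOf K) ⟨t * c * t⁻¹, h1⟩) ∣ 2 ^ n := by
      rw [h3]
      refine (orderOf_map_dvd _ _).trans ?_
      rw [Subgroup.orderOf_mk]
      exact orderOf_dvd_of_pow_eq_one ht
    have h6 : Nat.Coprime (orderOf c) (2 ^ n) := Nat.Coprime.pow_right _ (Nat.coprime_two_right.2 ho)
    have h7 := orderOf_eq_one_iff.1 (Nat.eq_one_of_dvd_coprimes h6 h4 h5)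
    have h8 : (⟨t * c * t⁻¹, h1⟩ : K) ∈ H.subgroupOf K := (QuotientGroup.eq_one_iff _).1 h7
    exact mem_subgroupOf.1 h8

/-! ### the setting -/

/-- `MM` are the members over the central involution `a` -/
structure Over (MM : Set (Subgroup G)) (a : G) : Prop where
  q3 : ∀ K ∈ MM, ∃ x, Q3 K a x
  cen : ∀ g : G, g * a = a * g
  conj : ∀ K ∈ MM, ∀ g, cj g K ∈ MM
  comm : ∀ K ∈ MM, ∀ L ∈ MM, K ≠ L → ∀ k ∈ K, ∀ l ∈ L, k * l = l * k
  le : ∀ K ∈ MM, K ≤ pCore 2 G
  core : oddCore G = ⊥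

/-- `R = C_P(K)` -/
def RR (K : Subgroup G) : Subgroup G := pCore 2 G ⊓ centralizer (K : Set G)

theorem mem_RR {K : Subgroup G} {r : G} : r ∈ RR K ↔ r ∈ pCore 2 G ∧ ∀ k ∈ K, k * r = r * k := by
  rw [RR, mem_inf, mem_centralizer_iff]
  rfl

/-- `c` of odd order normalises `K`, is not trivial on `K` and centralises `C_P(K)` -/
structure Cc (K : Subgroup G) (c : G) : Prop where
  odd : Odd (orderOf c)
  nor : cj c K = K
  nt : ∃ k ∈ K, c * k ≠ k * c
  cr : ∀ r ∈ RR K, c * r = r * c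

section

variable [Finite G] {MM : Set (Subgroup G)} {a s c g r k : G} {K L J : Subgroup G} {x : Fin 3 → G}

theorem card_q3 (hx : Q3 K a x) : Nat.card K = 8 := by
  have e := hx.not_comm
  have h1 : K = closure {x 0, x 1} := by
    refine le_antisymm (hx.le_of_mem (i := 0) (j := 1) (by decide) (subset_closure (by simp))
      (subset_closure (by simp))) ?_
    rw [closure_le]
    rintro y (rfl | rfl)
    · exact hx.mem 0
    · exact hx.mem 1
  rw [h1]
  refine Transfer.SL23Section.card_quaternion ?_ ?_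
  · refine { hi := ?_, hj := ?_, hji := ?_ }
    · rw [show (4 : ℕ) = 2 * 2 from rfl, pow_mul, pow_two (x 0), hx.sq, pow_two, hx.z2]
    · rw [pow_two, pow_two, hx.sq, hx.sq]
    · have e := hx.conj_ne (i := 1) (j := 0) (by decide)
      rw [e, hx.inv]
  · rw [pow_two, hx.sq]; exact hx.z1

theorem mem_normalizer_of_cj (hc : cj c K = K) (hk : k ∈ K) : c * k * c⁻¹ ∈ K := by
  rw [← hc]; exact conj_mem_cj hk

theorem cj_eq_of_mem (h : ∀ k ∈ K, c * k * c⁻¹ ∈ K) : cj c K = K := by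
  refine Subgroup.eq_of_le_of_card_ge ?_ ?_
  · intro y hy
    rw [mem_cj] at hy
    have := h _ hy
    have e : c * (c⁻¹ * y * c) * c⁻¹ = y := by group
    rwa [e] at this
  · rw [card_cj]

theorem pow_two_of_mem (hg : g ∈ pCore 2 G) : ∃ n : ℕ, g ^ 2 ^ n = 1 := by
  haveI : Fact (Nat.Prime 2) := ⟨Nat.prime_two⟩
  obtain ⟨n, hn⟩ := Lib.Cores.pCore_isPGroup (G := G) 2 ⟨g, hg⟩
  exact ⟨n, congrArg Subtype.val hn⟩

theorem conj_mem_pCore (hg : g ∈ pCore 2 G) (x : G) : x * g * x⁻¹ ∈ pCore 2 G := by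
  haveI : Fact (Nat.Prime 2) := ⟨Nat.prime_two⟩
  have hn : (pCore 2 G).Normal := Lib.Cores.pCore_normal 2
  exact hn.conj_mem g hg x

theorem conj_mem_RR (hc : cj c K = K) (hr : r ∈ RR K) : c * r * c⁻¹ ∈ RR K := by
  rw [mem_RR] at hr ⊢
  refine ⟨conj_mem_pCore hr.1 c, fun k hk => ?_⟩
  have h1 : c⁻¹ * k * c ∈ K := by rw [← mem_cj, hc]; exact hk
  have h2 := hr.2 _ h1
  calc k * (c * r * c⁻¹) = c * ((c⁻¹ * k * c) * r) * c⁻¹ := by group
    _ = c * (r * (c⁻¹ * k * c)) * c⁻¹ := by rw [h2]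
    _ = _ := by group

namespace Over

theorem a2 (h : Over MM a) (hK : K ∈ MM) : a * a = 1 := by
  obtain ⟨x, hx⟩ := h.q3 K hK
  exact hx.z2

/-- distinct members: one centralises the other -/
theorem le_RR (h : Over MM a) (hK : K ∈ MM) (hL : L ∈ MM) (hne : L ≠ K) : L ≤ RR K := by
  intro l hl
  exact mem_RR.2 ⟨h.le L hL hl, fun k hk => h.comm K hK L hL hne.symm k hk l hl⟩

/-- an element centralising `C_P(K)` normalises `K` -/
theorem cj_eq_of_cr (h : Over MM a) (hK : K ∈ MM) (hg : ∀ r ∈ RR K, g * r = r * g) : cj g K = K := by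
  by_contra hne
  have h1 := h.le_RR hK (h.conj K hK g) hne
  apply hne
  refine Subgroup.eq_of_le_of_card_ge ?_ (by rw [card_cj])
  intro y hy
  have h2 := hg y (h1 hy)
  rw [mem_cj] at hy
  have e : g⁻¹ * y * g = y := by rw [mul_assoc, ← h2, inv_mul_cancel_left]
  rwa [e] at hy

/-- elements of `K ∩ C_P(K)` -/
theorem mem_or (h : Over MM a) (hK : K ∈ MM) (hr : r ∈ RR K) (hk : r ∈ K) : r = 1 ∨ r = a := by
  obtain ⟨x, hx⟩ := h.q3 K hK
  have h1 := (mem_RR.1 hr).2
  exact hx.cent hk (i := 0) (j := 1) (by decide) (h1 _ (hx.mem 0)).symm (h1 _ (hx.mem 1)).symm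

/-- **(i)** the odd elements of `J` -/
theorem comm_R (h : Over MM a) (hK : K ∈ MM) (hs2 : s * s = 1) (hsK : ∀ k ∈ K, s * k = k * s)
    (hKJ : K ≤ J) (hJ : J ≤ centralizer {s}) (hsub : (J.subgroupOf (centralizer {s})).IsSubnormal)
    (hcard : ¬ 16 ∣ Nat.card J) (hc : c ∈ J) (ho : Odd (orderOf c)) :
    cj c K = K ∧ ∀ r ∈ RR K, c * r = r * c := by
  haveI : Fact (Nat.Prime 2) := ⟨Nat.prime_two⟩
  obtain ⟨x, hx⟩ := h.q3 K hK
  -- `J ∩ P = K`
  have hJP : J ⊓ pCore 2 G = K := by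
    symm
    refine Subgroup.eq_of_le_of_card_ge (le_inf hKJ (h.le K hK)) ?_
    rw [card_q3 hx]
    have h1 : IsPGroup 2 (J ⊓ pCore 2 G : Subgroup G) := (Lib.Cores.pCore_isPGroup (G := G) 2).to_le inf_le_right
    obtain ⟨n, hn⟩ := IsPGroup.iff_card.1 h1
    rw [hn]
    by_contra hlt
    push Not at hlt
    have h2 : 4 ≤ n := by
      by_contra h3
      have h4 : n ≤ 3 := by omega
      have h5 : 2 ^ n ≤ 2 ^ 3 := Nat.pow_le_pow_right (by norm_num) h4
      omega
    apply hcard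
    have h6 : (16 : ℕ) ∣ 2 ^ n := by
      rw [show (16 : ℕ) = 2 ^ 4 from rfl]
      exact pow_dvd_pow 2 h2
    rw [← hn] at h6
    exact h6.trans (card_dvd_of_le inf_le_left)
  have hcs : c * s = s * c := mem_centralizer_singleton_iff.1 (hJ hc)
  -- `[t, c] ∈ K` for `t ∈ C_P(s)`
  have hcom : ∀ t ∈ pCore 2 G, t * s = s * t → t * c * t⁻¹ * c⁻¹ ∈ K := by
    intro t ht hts
    have htY : t ∈ centralizer ({s} : Set G) := mem_centralizer_singleton_iff.2 hts
    have h1 : t * c * t⁻¹ * c⁻¹ ∈ pCore 2 G := by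
      have h2 := (pCore 2 G).mul_mem ht (conj_mem_pCore ((pCore 2 G).inv_mem ht) c)
      have e : t * (c * t⁻¹ * c⁻¹) = t * c * t⁻¹ * c⁻¹ := by group
      rwa [e] at h2
    obtain ⟨n, hn⟩ := pow_two_of_mem h1
    have h3 := conj_mem_of_subnormal (G := ↥(centralizer ({s} : Set G))) hsub (c := ⟨c, hJ hc⟩) (t := ⟨t, htY⟩)
      (mem_subgroupOf.2 hc) (by rw [Subgroup.orderOf_mk]; exact ho) (n := n) (Subtype.ext hn)
    have h4 : t * c * t⁻¹ ∈ J := mem_subgroupOf.1 h3
    rw [← hJP]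
    exact ⟨J.mul_mem h4 (J.inv_mem hc), h1⟩
  have hcK : cj c K = K := by
    refine cj_eq_of_mem fun k hk => ?_
    rw [← hJP]
    exact ⟨J.mul_mem (J.mul_mem hc (hKJ hk)) (J.inv_mem hc), conj_mem_pCore (h.le K hK hk) c⟩
  refine ⟨hcK, ?_⟩
  -- `C_R(s)`
  have hRs : ∀ r ∈ RR K, r * s = s * r → c * r = r * c := by
    intro r hr hrs
    have h1 := hcom r (mem_RR.1 hr).1 hrs
    have h2 : r * c * r⁻¹ * c⁻¹ ∈ RR K := by
      have h3 := (RR K).mul_mem hr (conj_mem_RR hcK ((RR K).inv_mem hr))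
      have e : r * (c * r⁻¹ * c⁻¹) = r * c * r⁻¹ * c⁻¹ := by group
      rwa [e] at h3
    refine comm_of_odd_inn (h.a2 hK) ho (h.cen c) ?_
    rcases h.mem_or hK h2 h1 with h3 | h3
    · left
      rw [mul_inv_eq_one, mul_inv_eq_iff_eq_mul] at h3
      rw [← h3, mul_inv_cancel_right]
    · right
      have e : r * c * r⁻¹ * c⁻¹ = r * (c * r⁻¹ * c⁻¹) := by group
      rw [e] at h3
      have e2 : c * r * c⁻¹ = (c * r⁻¹ * c⁻¹)⁻¹ := by group
      have e3 : c * r⁻¹ * c⁻¹ = r⁻¹ * a := by rw [← h3]; group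
      rw [e2, e3, mul_inv_rev, inv_inv, inv_eq_of_mul_eq_one_right (h.a2 hK)]
  -- `A × B`
  have h5 : zpowers c ≤ centralizer ((RR K : Subgroup G) : Set G) := by
    refine Lib.ThompsonPQ.thompson_p_times_q 2 (zpowers s) (zpowers c) (RR K) ?_ ?_ ?_ ?_ ?_ ?_ ?_
    · rintro ⟨y, m, rfl⟩
      refine ⟨1, Subtype.ext ?_⟩
      show (s ^ m) ^ 2 ^ 1 = 1
      rw [pow_one, ← zpow_natCast, ← zpow_mul, mul_comm, zpow_mul, zpow_natCast, pow_two, hs2, one_zpow]
    · rw [Nat.card_zpowers]; exact Nat.coprime_two_right.2 ho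
    · exact (Lib.Cores.pCore_isPGroup (G := G) 2).to_le inf_le_left
    · rw [zpowers_le, mem_centralizer_iff]
      rintro _ ⟨m, rfl⟩
      have : Commute c s := hcs
      exact (this.zpow_left m).eq
    · rw [zpowers_le]
      have hsK' : cj s K = K := cj_eq_of_mem fun k hk => by rw [hsK k hk, mul_inv_cancel_right]; exact hk
      rw [mem_normalizer_iff_cj]
      exact cj_eq_of_mem fun r hr => conj_mem_RR hsK' hr
    · rw [zpowers_le, mem_normalizer_iff_cj]
      exact cj_eq_of_mem fun r hr => conj_mem_RR hcK hr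
    · rintro r ⟨hr, hrs⟩
      have h6 := hRs r hr (mem_centralizer_iff.1 hrs s (mem_zpowers s)).symm
      refine mem_centralizer_iff.2 ?_
      rintro _ ⟨m, rfl⟩
      have : Commute c r := h6
      exact (this.zpow_left m).eq
  intro r hr
  exact (mem_centralizer_iff.1 (h5 (mem_zpowers c)) r hr).symm

end Over

namespace Cc

variable (h : Over MM a) (hK : K ∈ MM) (hc : Cc K c) (hx : Q3 K a x)

include h hK hc hx

/-- the action of `c` -/
theorem exists_act : ∃ τ : Equiv.Perm (Fin 3), Act a x x c τ ∧ τ * τ * τ = 1 ∧ τ ≠ 1 := by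
  obtain ⟨τ, hτ⟩ := hx.exists_act hx hc.nor (h.cen c)
  have h1 := act_pow hx.z2 hτ (h.cen c) (orderOf c)
  rw [pow_orderOf_eq_one] at h1
  refine ⟨τ, hτ, odd_perm hc.odd (h1.unique hx (Act.one x a)), ?_⟩
  rintro rfl
  obtain ⟨k, hk, hne⟩ := hc.nt
  exact hne (comm_of_odd_inn hx.z2 hc.odd (h.cen c) (Act.inner hx hτ (h.cen c) k hk))

/-- **(ii a)** `O₂(G)` normalises `K` -/
theorem cj_eq (hg : g ∈ pCore 2 G) : cj g K = K := by
  by_contra hne
  have h1 : cj g K ≤ RR K := h.le_RR hK (h.conj K hK g) hne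
  -- `c' = c u`
  obtain ⟨c', hc'⟩ : ∃ c', c' = g * c * g⁻¹ := ⟨_, rfl⟩
  obtain ⟨u, hu⟩ : ∃ u, u = c⁻¹ * (g * c * g⁻¹) := ⟨_, rfl⟩
  have huP : u ∈ pCore 2 G := by
    have h2 := (pCore 2 G).mul_mem (conj_mem_pCore hg c⁻¹) ((pCore 2 G).inv_mem hg)
    have e : c⁻¹ * g * c⁻¹⁻¹ * g⁻¹ = u := by rw [hu]; group
    rwa [e] at h2
  obtain ⟨n, hn⟩ := pow_two_of_mem huP
  have ho : Odd (orderOf c') := by
    have : orderOf (g * c * g⁻¹) = orderOf c := (MulAut.conj g).orderOf_eq c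
    rw [hc', this]; exact hc.odd
  have hL : ∀ y ∈ cj g K, c' * y * c'⁻¹ ∈ cj g K := by
    intro y hy
    rw [mem_cj] at hy ⊢
    have h2 := mem_normalizer_of_cj hc.nor hy
    have e : g⁻¹ * (c' * y * c'⁻¹) * g = c * (g⁻¹ * y * g) * c⁻¹ := by rw [hc']; group
    rw [e]; exact h2
  have h2 : ∀ y ∈ cj g K, u * y * u⁻¹ = c' * y * c'⁻¹ := by
    intro y hy
    have h3 := hc.cr _ (h1 (hL y hy))
    have e : u * y * u⁻¹ = c⁻¹ * (c' * y * c'⁻¹) * c := by rw [hu, hc']; group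
    rw [e, mul_assoc, ← h3, inv_mul_cancel_left]
  have h3 := comm_of_same hn ho hL h2
  obtain ⟨k, hk, hne'⟩ := hc.nt
  apply hne'
  have h4 := h3 (g * k * g⁻¹) (conj_mem_cj hk)
  have e1 : c * k = g⁻¹ * (c' * (g * k * g⁻¹)) * g := by rw [hc']; group
  have e2 : k * c = g⁻¹ * ((g * k * g⁻¹) * c') * g := by rw [hc']; group
  rw [e1, e2, h4]

/-- **(ii)** `P = K R` -/
theorem exists_mul (hg : g ∈ pCore 2 G) : ∃ k ∈ K, ∃ r ∈ RR K, g = k * r := by
  obtain ⟨τ, hτ, h3, h1⟩ := hc.exists_act h hK hx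
  have hgK := hc.cj_eq h hK hx hg
  obtain ⟨σ, hσ⟩ := hx.exists_act hx hgK (h.cen g)
  have sq : ∀ {y : G} {ρ : Equiv.Perm (Fin 3)}, y ∈ pCore 2 G → Act a x x y ρ → ρ * ρ = 1 := by
    intro y ρ hy hρ
    obtain ⟨n, hn⟩ := pow_two_of_mem hy
    have h4 := act_pow hx.z2 hρ (h.cen y) (2 ^ n)
    rw [hn] at h4
    exact two_perm (h4.unique hx (Act.one x a))
  have hσ1 : σ = 1 := by
    refine perm_key (sq hg hσ) h3 h1 (sq (y := g * (c * g * c⁻¹)) ?_ ?_)
    · exact (pCore 2 G).mul_mem hg (conj_mem_pCore hg c)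
    · have h4 := act_inv hx hτ (h.cen c) hc.nor
      have h5 := h4.comp hx.z2 hσ (h.cen g)
      have h6 := h5.comp hx.z2 hτ (h.cen c)
      have h7 := h6.comp hx.z2 hσ (h.cen g)
      have e1 : g * (c * (g * c⁻¹)) = g * (c * g * c⁻¹) := by group
      have e2 : σ * (τ * (σ * τ⁻¹)) = σ * (τ * σ * τ⁻¹) := by group
      rwa [e1, e2] at h7
  rw [hσ1] at hσ
  obtain ⟨k, hk, h5⟩ : ∃ k ∈ K, ∀ l ∈ K, g * l * g⁻¹ = k * l * k⁻¹ := by
    rcases hx.inner_cases (Act.inner hx hσ (h.cen g)) with h4 | ⟨j, h4⟩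
    · exact ⟨1, one_mem K, fun l hl => by rw [h4 l hl]; group⟩
    · exact ⟨x j, hx.mem j, h4⟩
  refine ⟨k, hk, k⁻¹ * g, mem_RR.2 ⟨(pCore 2 G).mul_mem ((pCore 2 G).inv_mem (h.le K hK hk)) hg, ?_⟩, by group⟩
  intro l hl
  have h6 := h5 l hl
  calc l * (k⁻¹ * g) = k⁻¹ * (k * l * k⁻¹) * g := by group
    _ = k⁻¹ * (g * l * g⁻¹) * g := by rw [h6]
    _ = _ := by group

end Cc

end

end Cfsg.Agent.Cit.Nil.Three
end

-- part: Cit/Nil/Three/Princ
section
/-!
# S1309, node (n2) THREE PROPAGATION: the PRINCIPLE (helper981 #17955 (0))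

`Over.principle` : `c` (as in `Cc`) inducing an inner automorphism on every component of `C(a)` makes `K` THREE:
`K ≤ J` subnormal, `J ≃* SL(2, 3)`.
-/

set_option autoImplicit false
set_option linter.style.haveILetI false
set_option linter.unusedSectionVars false
set_option maxHeartbeats 400000

namespace Cfsg.Agent.Cit.Nil.Three

open Subgroup Cfsg Cit RTwo
open Cfsg.Agent.SignalizersComponents.Components

variable {G : Type*} [Group G]

/-- `M₁ = C(R) ∩ C(E(G))` -/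
def M1 (K : Subgroup G) : Subgroup G := centralizer ((RR K : Subgroup G) : Set G) ⊓ centralizer (layer G : Set G)

theorem mem_M1 {K : Subgroup G} {m : G} : m ∈ M1 K ↔ (∀ r ∈ RR K, r * m = m * r) ∧ ∀ e ∈ layer G, e * m = m * e := by
  rw [M1, mem_inf, mem_centralizer_iff, mem_centralizer_iff]
  rfl

/-- `C₀` = the kernel of `G` on the members -/
def C0 (MM : Set (Subgroup G)) : Subgroup G where
  carrier := {g | ∀ K ∈ MM, cj g K = K}
  mul_mem' := by
    intro x y hx hy K hK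
    rw [cj_mul, hy K hK, hx K hK]
  one_mem' := fun K _ => cj_one K
  inv_mem' := by
    intro x hx K hK
    have := congrArg (cj x⁻¹) (hx K hK)
    rw [cj_inv_cj] at this
    exact this.symm

/-- the elements of `M₁` acting on `K` as translations -/
def M2 (K : Subgroup G) (a : G) (x : Fin 3 → G) (ha : a * a = 1) (hc : ∀ g : G, g * a = a * g) : Subgroup G where
  carrier := {y | y ∈ M1 K ∧ ∃ i : Fin 3, Act a x x y (Equiv.addRight i)}
  mul_mem' := by
    rintro y w ⟨hy, i, hi⟩ ⟨hw, j, hj⟩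
    refine ⟨mul_mem hy hw, j + i, ?_⟩
    have h1 := hj.comp ha hi (hc y)
    have e : Equiv.addRight i * Equiv.addRight j = Equiv.addRight (j + i) := by
      ext k; show ((k + j + i : Fin 3) : ℕ) = ((k + (j + i) : Fin 3) : ℕ); rw [add_assoc]
    rwa [e] at h1
  one_mem' := ⟨one_mem _, 0, fun i => Or.inl (by simp)⟩
  inv_mem' := by
    rintro y ⟨hy, i, hi⟩
    refine ⟨inv_mem hy, -i, fun j => ?_⟩
    obtain ⟨l, hl⟩ : ∃ l : Fin 3, l = j + -i := ⟨_, rfl⟩
    have h1 := hi l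
    have e : (Equiv.addRight i) l = j := by rw [hl]; show j + -i + i = j; exact neg_add_cancel_right j i
    rw [e] at h1
    have e2 : (Equiv.addRight (-i)) j = l := hl.symm
    rw [e2]
    have hya : y⁻¹ * a = a * y⁻¹ := hc _
    rcases h1 with h1 | h1
    · left; rw [← h1]; group
    · right
      have h2 : x j = a * (y * x l * y⁻¹) := by rw [h1, ← mul_assoc, ha, one_mul]
      rw [h2]
      calc y⁻¹ * (a * (y * x l * y⁻¹)) * y⁻¹⁻¹ = (y⁻¹ * a) * y * x l := by group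
        _ = a * x l := by rw [hya]; group

section

variable [Finite G] {MM : Set (Subgroup G)} {a s c g r k : G} {K L J : Subgroup G} {x : Fin 3 → G}

theorem q3_conj_cases {z l : G} (hx : Q3 K z x) (hl : l ∈ K) (j : Fin 3) :
    x j * l * (x j)⁻¹ = l ∨ x j * l * (x j)⁻¹ = z * l := by
  rcases hx.cov l hl with rfl | rfl | ⟨i, rfl | rfl⟩
  · left; group
  · left; rw [← hx.zc, mul_inv_cancel_right]
  · by_cases hij : j = i
    · subst hij; left; exact Q3.conj_self _
    · right; exact hx.conj_ne hij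
  · have e : x j * (z * x i) * (x j)⁻¹ = z * (x j * x i * (x j)⁻¹) := by
      rw [← mul_assoc, ← hx.zc]; group
    rw [e]
    by_cases hij : j = i
    · subst hij; left; rw [Q3.conj_self]
    · right; rw [hx.conj_ne hij]

theorem comm_layer {p e : G} (hp : p ∈ pCore 2 G) (he : e ∈ layer G) : e * p = p * e := by
  haveI : Fact (Nat.Prime 2) := ⟨Nat.prime_two⟩
  have h1 : p ∈ fittingSubgroup G := Lib.Cores.pCore_le_fittingSubgroup 2 hp
  exact (mem_centralizer_iff.1 (layer_le_centralizer_fitting he) p h1).symm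

theorem isComponent_subnormal_step {J M : Subgroup G} (hJM : J ≤ M) (hM : M.IsSubnormal)
    (hn : ∀ m ∈ M, ∀ j ∈ J, m * j * m⁻¹ ∈ J) : J.IsSubnormal := by
  refine Subgroup.IsSubnormal.step _ M hJM hM ⟨?_⟩
  rintro ⟨j, hjM⟩ hj ⟨m, hmM⟩
  exact hn m hmM j hj

/-- an element of the layer with the same action as `c` on all components -/
theorem exists_layer (hin : ∀ L : Subgroup G, IsComponent L → ∃ l ∈ L, ∀ x ∈ L, c * x * c⁻¹ = l * x * l⁻¹) :
    ∃ e ∈ layer G, ∀ L : Subgroup G, IsComponent L → ∀ x ∈ L, c * x * c⁻¹ = e * x * e⁻¹ := by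
  classical
  haveI : Finite (Subgroup G) := inferInstance
  have key : ∀ s : Finset (Subgroup G), (∀ L ∈ s, IsComponent L) → ∃ e ∈ layer G,
      (∀ L ∈ s, ∀ x ∈ L, c * x * c⁻¹ = e * x * e⁻¹) ∧ ∀ L, IsComponent L → L ∉ s → ∀ x ∈ L, e * x = x * e := by
    intro s
    induction s using Finset.induction_on with
    | empty =>
      intro _
      exact ⟨1, one_mem _, fun L hL => absurd hL (Finset.notMem_empty L), fun L _ _ x _ => by rw [one_mul, mul_one]⟩
    | insert L0 s hL0 ih =>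
      intro hs
      obtain ⟨e, he, h1, h2⟩ := ih (fun L hL => hs L (Finset.mem_insert_of_mem hL))
      have hc0 : IsComponent L0 := hs L0 (Finset.mem_insert_self _ _)
      obtain ⟨l, hl, h3⟩ := hin L0 hc0
      have hcomm : ∀ L, IsComponent L → L ≠ L0 → ∀ x ∈ L, l * x = x * l := by
        intro L hL hne x hx
        exact (mem_centralizer_iff.1 (component_le_centralizer_of_ne hc0 hL hne.symm hl) x hx).symm
      refine ⟨l * e, mul_mem (component_le_layer hc0 hl) he, ?_, ?_⟩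
      · intro L hL x hx
        rcases Finset.mem_insert.1 hL with rfl | hL
        · have h4 := h2 L hc0 hL0 x hx
          calc c * x * c⁻¹ = l * x * l⁻¹ := h3 x hx
            _ = l * (x * e) * e⁻¹ * l⁻¹ := by group
            _ = l * (e * x) * e⁻¹ * l⁻¹ := by rw [h4]
            _ = _ := by group
        · have hLc := hs L (Finset.mem_insert_of_mem hL)
          have hne : L ≠ L0 := fun e' => hL0 (e' ▸ hL)
          have h5 := h1 L hL x hx
          obtain ⟨l', hl', h6⟩ := hin L hLc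
          have h7 : e * x * e⁻¹ ∈ L := by rw [← h5, h6 x hx]; exact mul_mem (mul_mem hl' hx) (inv_mem hl')
          have h8 := hcomm L hLc hne _ h7
          calc c * x * c⁻¹ = e * x * e⁻¹ := h5
            _ = (e * x * e⁻¹ * l) * l⁻¹ := by group
            _ = (l * (e * x * e⁻¹)) * l⁻¹ := by rw [h8]
            _ = _ := by group
      · intro L hL hLs x hx
        have hne : L ≠ L0 := fun e' => hLs (e' ▸ Finset.mem_insert_self _ _)
        have h4 := h2 L hL (fun h => hLs (Finset.mem_insert_of_mem h)) x hx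
        have h5 := hcomm L hL hne x hx
        rw [mul_assoc, h4, ← mul_assoc, h5, mul_assoc]
  have hfin : (Set.univ : Set (Subgroup G)).Finite := Set.toFinite _
  obtain ⟨e, he, h1, -⟩ := key (hfin.toFinset.filter (fun L => IsComponent L)) (fun L hL => (Finset.mem_filter.1 hL).2)
  exact ⟨e, he, fun L hL x hx => h1 L (Finset.mem_filter.2 ⟨hfin.mem_toFinset.2 (Set.mem_univ _), hL⟩) x hx⟩

/-- `C(E(G)) ∩ C(K) ∩ C(R) = Z(F*(G))`, a 2-group in `R` -/
theorem mem_RR_of_M1 (h : Over MM a) (hP : ∀ p ∈ pCore 2 G, ∃ k ∈ K, ∃ r ∈ RR K, p = k * r)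
    {d : G} (hd : d ∈ M1 K) (hdK : ∀ k ∈ K, k * d = d * k) : d ∈ RR K := by
  haveI : Fact (Nat.Prime 2) := ⟨Nat.prime_two⟩
  rw [mem_M1] at hd
  have h1 : d ∈ centralizer (generalizedFittingSubgroup G : Set G) := by
    have h2 : generalizedFittingSubgroup G ≤ centralizer ({d} : Set G) := by
      refine sup_le ?_ ?_
      · intro e he
        rw [mem_centralizer_singleton_iff]
        exact hd.2 e he
      · intro p hp
        rw [mem_centralizer_singleton_iff]
        obtain ⟨k, hk, r, hr, rfl⟩ := hP p (ThreePrime.Pump.fitting_le_pCore h.core hp)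
        rw [mul_assoc, hd.1 r hr, ← mul_assoc, hdK k hk, mul_assoc]
    rw [mem_centralizer_iff]
    intro y hy
    exact mem_centralizer_singleton_iff.1 (h2 hy)
  have h2 : d ∈ pCore 2 G :=
    ThreePrime.Pump.fitting_le_pCore h.core (TwoFusion.FStarControl.centralizer_genFitting_le_fitting h1)
  exact mem_RR.2 ⟨h2, hdK⟩

/-- **THE PRINCIPLE** -/
theorem Over.principle (h : Over MM a) (hK : K ∈ MM) (hc : Cc K c)
    (hin : ∀ L : Subgroup G, IsComponent L → ∃ l ∈ L, ∀ x ∈ L, c * x * c⁻¹ = l * x * l⁻¹) :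
    ∃ J : Subgroup G, K ≤ J ∧ J.IsSubnormal ∧ Nonempty (J ≃* Matrix.SpecialLinearGroup (Fin 2) (ZMod 3)) := by
  haveI : Fact (Nat.Prime 2) := ⟨Nat.prime_two⟩
  obtain ⟨x, hx⟩ := h.q3 K hK
  have ha2 := hx.z2
  have hP : ∀ p ∈ pCore 2 G, ∃ k ∈ K, ∃ r ∈ RR K, p = k * r := fun p hp => hc.exists_mul h hK hx hp
  -- `c'' = e⁻¹ c`
  obtain ⟨e, he, hec⟩ := exists_layer hin
  obtain ⟨c2, hc2⟩ : ∃ c2, c2 = e⁻¹ * c := ⟨_, rfl⟩
  have hc2L : ∀ L, IsComponent L → ∀ y ∈ L, y * c2 = c2 * y := by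
    intro L hL y hy
    have h1 := hec L hL y hy
    calc y * c2 = e⁻¹ * (e * y * e⁻¹) * c := by rw [hc2]; group
      _ = e⁻¹ * (c * y * c⁻¹) * c := by rw [h1]
      _ = _ := by rw [hc2]; group
  have hc2E : ∀ y ∈ layer G, y * c2 = c2 * y := by
    have h1 : layer G ≤ centralizer ({c2} : Set G) := by
      rw [layer_le_iff]
      intro L hL y hy
      rw [mem_centralizer_singleton_iff]
      exact hc2L L hL y hy
    intro y hy
    exact mem_centralizer_singleton_iff.1 (h1 hy)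
  have hc2P : ∀ p ∈ pCore 2 G, c2 * p * c2⁻¹ = c * p * c⁻¹ := by
    intro p hp
    have h1 : c * p * c⁻¹ ∈ pCore 2 G := conj_mem_pCore hp c
    have h2 := comm_layer h1 he
    calc c2 * p * c2⁻¹ = e⁻¹ * ((c * p * c⁻¹) * e) := by rw [hc2]; group
      _ = e⁻¹ * (e * (c * p * c⁻¹)) := by rw [h2]
      _ = _ := by group
  have hpow : ∀ n : ℕ, ∀ p ∈ pCore 2 G, c2 ^ n * p * (c2 ^ n)⁻¹ = c ^ n * p * (c ^ n)⁻¹ := by
    intro n
    induction n with
    | zero => intro p _; simp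
    | succ n ih =>
      intro p hp
      have e1 : c2 ^ (n + 1) * p * (c2 ^ (n + 1))⁻¹ = c2 * (c2 ^ n * p * (c2 ^ n)⁻¹) * c2⁻¹ := by
        rw [pow_succ' c2 n]; group
      have e2 : c ^ (n + 1) * p * (c ^ (n + 1))⁻¹ = c * (c ^ n * p * (c ^ n)⁻¹) * c⁻¹ := by
        rw [pow_succ' c n]; group
      rw [e1, e2, ih p hp, hc2P _ (conj_mem_pCore hp _)]
  -- the odd part
  obtain ⟨n, m, hm, hnm⟩ : ∃ n m : ℕ, Odd m ∧ orderOf c2 = 2 ^ n * m := by
    obtain ⟨n, m, hm, hnm⟩ := Nat.exists_eq_two_pow_mul_odd (orderOf_pos c2).ne'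
    exact ⟨n, m, hm, hnm⟩
  obtain ⟨d, hd⟩ : ∃ d, d = c2 ^ 2 ^ n := ⟨_, rfl⟩
  have hdo : Odd (orderOf d) := by
    have h1 : d ^ m = 1 := by rw [hd, ← pow_mul, ← hnm, pow_orderOf_eq_one]
    exact hm.of_dvd_nat (orderOf_dvd_of_pow_eq_one h1)
  have hdP : ∀ p ∈ pCore 2 G, d * p * d⁻¹ = c ^ 2 ^ n * p * (c ^ 2 ^ n)⁻¹ := fun p hp => by
    rw [hd]; exact hpow _ p hp
  have hKP : ∀ k ∈ K, k ∈ pCore 2 G := fun k hk => h.le K hK hk
  have hdR : ∀ r ∈ RR K, d * r = r * d := by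
    intro r hr
    have h1 := hdP r (mem_RR.1 hr).1
    have h2 : Commute c r := hc.cr r hr
    have h3 : c ^ 2 ^ n * r = r * c ^ 2 ^ n := (h2.pow_left _).eq
    rw [h3, mul_inv_cancel_right, mul_inv_eq_iff_eq_mul] at h1
    exact h1
  have hdE : ∀ y ∈ layer G, y * d = d * y := by
    intro y hy
    have h2 : Commute y c2 := hc2E y hy
    rw [hd]
    exact (h2.pow_right _).eq
  have hdK : cj d K = K := h.cj_eq_of_cr hK hdR
  have hdnt : ∃ k ∈ K, d * k ≠ k * d := by
    by_contra hcon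
    push Not at hcon
    obtain ⟨k, hk, hne⟩ := hc.nt
    apply hne
    refine (comm_of_pow_two hc.odd (n := n) ?_).eq
    have h1 := hdP k (hKP k hk)
    rw [hcon k hk, mul_inv_cancel_right] at h1
    show c ^ 2 ^ n * k = k * c ^ 2 ^ n
    rw [← mul_inv_eq_iff_eq_mul, ← h1]
  have hdc : Cc K d := ⟨hdo, hdK, hdnt, hdR⟩
  -- the action of `d`
  obtain ⟨τ, hτ, hτ3, hτ1⟩ := hdc.exists_act h hK hx
  obtain ⟨i, hi0, rfl⟩ : ∃ i : Fin 3, i ≠ 0 ∧ τ = Equiv.addRight i := by
    have key : ∀ τ : Equiv.Perm (Fin 3), τ * τ * τ = 1 → τ ≠ 1 → ∃ i : Fin 3, i ≠ 0 ∧ τ = Equiv.addRight i := by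
      decide
    exact key τ hτ3 hτ1
  have hdM1 : d ∈ M1 K := mem_M1.2 ⟨fun r hr => (hdR r hr).symm, hdE⟩
  -- `d ^ 3 = 1`
  have hd3 : d ^ 3 = 1 := by
    have h1 := act_pow ha2 hτ (h.cen d) 3
    have e3 : (Equiv.addRight i : Equiv.Perm (Fin 3)) ^ 3 = 1 := by rw [pow_succ, pow_two]; exact hτ3
    rw [e3] at h1
    have ho3 : Odd (orderOf (d ^ 3)) := hdo.of_dvd_nat (orderOf_pow_dvd 3)
    have h2 : ∀ k ∈ K, k * d ^ 3 = d ^ 3 * k := fun k hk =>
      (comm_of_odd_inn ha2 ho3 (h.cen _) (Act.inner hx h1 (h.cen _) k hk)).symm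
    have h3 := mem_RR_of_M1 h hP (pow_mem hdM1 3) h2
    obtain ⟨n', hn'⟩ := pow_two_of_mem (mem_RR.1 h3).1
    have h4 : Nat.Coprime (orderOf (d ^ 3)) (2 ^ n') := Nat.Coprime.pow_right _ (Nat.coprime_two_right.2 ho3)
    exact orderOf_eq_one_iff.1 (Nat.eq_one_of_dvd_coprimes h4 dvd_rfl (orderOf_dvd_of_pow_eq_one hn'))
  obtain ⟨J, hJ⟩ : ∃ J : Subgroup G, J = K ⊔ zpowers d := ⟨_, rfl⟩
  have hKJ : K ≤ J := by rw [hJ]; exact le_sup_left
  have hdJ : d ∈ J := by rw [hJ]; exact mem_sup_right (mem_zpowers d)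
  have hiso : Nonempty (J ≃* Matrix.SpecialLinearGroup (Fin 2) (ZMod 3)) := by
    rw [hJ]; exact sl_iso hx hi0 (h.cen d) hτ hd3
  have hKM1 : K ≤ M1 K := by
    intro k hk
    refine mem_M1.2 ⟨fun r hr => ((mem_RR.1 hr).2 k hk).symm, fun e' he' => comm_layer (hKP k hk) he'⟩
  have hM1K : ∀ m ∈ M1 K, cj m K = K := fun m hm => h.cj_eq_of_cr hK fun r hr => ((mem_M1.1 hm).1 r hr).symm
  -- the chain
  have sC0 : (C0 MM).IsSubnormal := by
    refine isComponent_subnormal_step (M := ⊤) le_top Subgroup.IsSubnormal.top ?_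
    intro m _ j hj L hL
    have h1 := hj _ (h.conj L hL m⁻¹)
    rw [cj_mul, cj_mul, h1, cj_cj_inv]
  have hM1C0 : M1 K ≤ C0 MM := by
    intro m hm L hL
    by_cases hLK : L = K
    · rw [hLK]; exact hM1K m hm
    · refine cj_eq_of_mem fun l hl => ?_
      have h1 := (mem_M1.1 hm).1 l (h.le_RR hK hL hLK hl)
      rw [← h1, mul_inv_cancel_right]; exact hl
  have sM1 : (M1 K).IsSubnormal := by
    refine isComponent_subnormal_step hM1C0 sC0 ?_
    intro m hm j hj
    have hmK := hm K hK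
    have hmK' : cj m⁻¹ K = K := (C0 MM).inv_mem hm K hK
    obtain ⟨h1, h2⟩ := mem_M1.1 hj
    refine mem_M1.2 ⟨fun r hr => ?_, fun y hy => ?_⟩
    · have h3 := h1 _ (conj_mem_RR hmK' hr)
      rw [inv_inv] at h3
      calc r * (m * j * m⁻¹) = m * ((m⁻¹ * r * m) * j) * m⁻¹ := by group
        _ = m * (j * (m⁻¹ * r * m)) * m⁻¹ := by rw [h3]
        _ = _ := by group
    · have hn : (layer G).Normal := layer_normal G
      have h3 := h2 _ (hn.conj_mem y hy m⁻¹)
      rw [inv_inv] at h3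
      calc y * (m * j * m⁻¹) = m * ((m⁻¹ * y * m) * j) * m⁻¹ := by group
        _ = m * (j * (m⁻¹ * y * m)) * m⁻¹ := by rw [h3]
        _ = _ := by group
  obtain ⟨M, hM⟩ : ∃ M, M = M2 K a x ha2 h.cen := ⟨_, rfl⟩
  have hMM1 : M ≤ M1 K := by rw [hM]; exact fun y hy => hy.1
  have sM : M.IsSubnormal := by
    refine isComponent_subnormal_step hMM1 sM1 ?_
    intro y hy m hm
    rw [hM] at hm ⊢
    obtain ⟨hm1, j, hj⟩ := hm
    refine ⟨mul_mem (mul_mem hy hm1) (inv_mem hy), ?_⟩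
    obtain ⟨σ, hσ⟩ := hx.exists_act hx (hM1K y hy) (h.cen y)
    have h4 := (act_inv hx hσ (h.cen y) (hM1K y hy)).comp ha2 hj (h.cen m)
    have h5 := h4.comp ha2 hσ (h.cen y)
    have key : ∀ (σ : Equiv.Perm (Fin 3)) (i : Fin 3), ∃ j, σ * (Equiv.addRight i * σ⁻¹) = Equiv.addRight j := by
      decide
    obtain ⟨j', hj'⟩ := key σ j
    refine ⟨j', ?_⟩
    rw [hj', ← mul_assoc] at h5
    exact h5
  have hJM : J ≤ M := by
    rw [hJ, hM]
    refine sup_le ?_ (zpowers_le.2 ⟨hdM1, i, hτ⟩)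
    intro k hk
    refine ⟨hKM1 hk, 0, ?_⟩
    have e0 : Equiv.addRight (0 : Fin 3) = 1 := by ext i; simp
    rw [e0]
    refine Act.of_inner hx fun l hl => ?_
    rcases hx.cov k hk with rfl | rfl | ⟨j, rfl | rfl⟩
    · left; group
    · left; rw [← h.cen, mul_inv_cancel_right]
    · exact q3_conj_cases hx hl j
    · have e1 : a * x j * l * (a * x j)⁻¹ = x j * l * (x j)⁻¹ := by
        calc a * x j * l * (a * x j)⁻¹ = a * (x j * l * (x j)⁻¹) * a⁻¹ := by group
          _ = _ := by rw [← h.cen, mul_inv_cancel_right]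
      rw [e1]
      exact q3_conj_cases hx hl j
  refine ⟨J, hKJ, isComponent_subnormal_step hJM sM ?_, hiso⟩
  intro m hm j hj
  rw [hM] at hm
  obtain ⟨hm1, i', hi'⟩ := hm
  obtain ⟨n', hn'⟩ := tra_key i i' hi0
  -- `m' = d ^ (-n') m` acts as an inner automorphism
  obtain ⟨m', hm'⟩ : ∃ m', m' = (d ^ (n' : ℕ))⁻¹ * m := ⟨_, rfl⟩
  have hact : Act a x x m' 1 := by
    have h1 := act_pow ha2 hτ (h.cen d) (n' : ℕ)
    have hdnK : cj (d ^ (n' : ℕ)) K = K := hM1K _ (pow_mem hdM1 _)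
    have h2 := act_inv hx h1 (h.cen _) hdnK
    have h3 := hi'.comp ha2 h2 (h.cen _)
    rw [← hm'] at h3
    have key : ∀ i i' n' : Fin 3, (n' : ℕ) • i = i' →
        ((Equiv.addRight i : Equiv.Perm (Fin 3)) ^ (n' : ℕ))⁻¹ * Equiv.addRight i' = 1 := by decide
    rwa [key i i' n' hn'] at h3
  have hm'M : m' ∈ M1 K := by
    rw [hm']
    exact mul_mem (inv_mem (pow_mem hdM1 _)) hm1
  obtain ⟨k, hk, hkc⟩ : ∃ k ∈ K, ∀ l ∈ K, l * (k⁻¹ * m') = k⁻¹ * m' * l := by
    rcases hx.inner_cases (Act.inner hx hact (h.cen m')) with h1 | ⟨j, h1⟩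
    · refine ⟨1, one_mem _, fun l hl => ?_⟩
      have h2 := h1 l hl
      rw [mul_inv_eq_iff_eq_mul] at h2
      rw [inv_one, one_mul, h2]
    · refine ⟨x j, hx.mem j, fun l hl => ?_⟩
      have h2 := h1 l hl
      symm
      calc (x j)⁻¹ * m' * l = (x j)⁻¹ * (m' * l * m'⁻¹) * m' := by group
        _ = (x j)⁻¹ * (x j * l * (x j)⁻¹) * m' := by rw [h2]
        _ = _ := by group
  have hDM : k⁻¹ * m' ∈ M1 K := mul_mem (inv_mem (hKM1 hk)) hm'M
  have hDR : k⁻¹ * m' ∈ RR K := mem_RR_of_M1 h hP hDM hkc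
  have hxJ : ∀ l ∈ J, k⁻¹ * m' * l = l * (k⁻¹ * m') := by
    have h1 : J ≤ centralizer {k⁻¹ * m'} := by
      rw [hJ]
      refine sup_le ?_ (zpowers_le.2 ?_)
      · intro l hl
        exact mem_centralizer_singleton_iff.2 (hkc l hl)
      · exact mem_centralizer_singleton_iff.2 (hdR _ hDR)
    intro l hl
    exact (mem_centralizer_singleton_iff.1 (h1 hl)).symm
  have hmJ : m = (d ^ (n' : ℕ) * k) * (k⁻¹ * m') := by rw [hm']; group
  have hp : d ^ (n' : ℕ) * k ∈ J := mul_mem (pow_mem hdJ _) (hKJ hk)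
  have e' : m * j * m⁻¹ = (d ^ (n' : ℕ) * k) * j * (d ^ (n' : ℕ) * k)⁻¹ := by
    rw [hmJ]
    calc d ^ (n' : ℕ) * k * (k⁻¹ * m') * j * (d ^ (n' : ℕ) * k * (k⁻¹ * m'))⁻¹
        = d ^ (n' : ℕ) * k * ((k⁻¹ * m') * j) * (k⁻¹ * m')⁻¹ * (d ^ (n' : ℕ) * k)⁻¹ := by group
      _ = d ^ (n' : ℕ) * k * (j * (k⁻¹ * m')) * (k⁻¹ * m')⁻¹ * (d ^ (n' : ℕ) * k)⁻¹ := by rw [hxJ j hj]
      _ = _ := by group
  rw [e']
  exact mul_mem (mul_mem hp hj) (inv_mem hp)

end

end Cfsg.Agent.Cit.Nil.Three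
end

-- part: Cit/Nil/Three/Inst
section
/-!
# S1309, node (n2) THREE PROPAGATION: part I for a Hyp family (members of order 8)

* `H8 Om` : Hyp, members of order 8;  `MMa Om a` : the members over `a` as subgroups of `C(a)`;
* `H8.over` : `Over (MMa Om a)` if `O(C(a)) = 1`;
* `H8.comm_R` : (i);  `H8.exists_mul` : (ii) `P = K R`;  `H8.three` : the PRINCIPLE, conclusion `IndDefs.Three K`.
-/

set_option autoImplicit false
set_option linter.style.haveILetI false
set_option linter.unusedSectionVars false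
set_option maxHeartbeats 400000

namespace Cfsg.Agent.Cit.Nil.Three

open Subgroup Cfsg Cit RTwo IndDefs

variable {G : Type*} [Group G]

/-- the frame world: Hyp, all members of order 8 -/
structure H8 (Om : Set (Subgroup G)) : Prop where
  hyp : Hyp Om
  card : ∀ K ∈ Om, Nat.card K = 8

/-- the members over `a` in `C(a)` -/
def MMa (Om : Set (Subgroup G)) (a : G) : Set (Subgroup ↥(centralizer ({a} : Set G))) :=
  {M | ∃ K ∈ Om, zz K = a ∧ M = K.subgroupOf (centralizer {a})}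

theorem self_mem (a : G) : a ∈ centralizer ({a} : Set G) := mem_centralizer_singleton_iff.2 rfl

/-- `a` as an element of `C(a)` -/
def ac (a : G) : ↥(centralizer ({a} : Set G)) := ⟨a, self_mem a⟩

section

variable [Finite G] {Om : Set (Subgroup G)} {K L J : Subgroup G} {a c s g : G}

theorem H8.isPGroup (h : H8 Om) (hK : K ∈ Om) : IsPGroup 2 K := by
  refine IsPGroup.of_card (n := 3) ?_
  rw [h.card K hK]; norm_num

theorem H8.exists_q3 (h : H8 Om) (hK : K ∈ Om) : ∃ x, Q3 K (zz K) x := by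
  obtain ⟨c, v, n, hgq⟩ := h.hyp.exists_gq hK (syl_self (h.isPGroup hK))
  have hn : n = 0 := by
    have h1 := hgq.card
    rw [h.card K hK] at h1
    have h2 : (2 : ℕ) ^ 3 = 2 ^ (n + 3) := by rw [← h1]; norm_num
    have h3 := Nat.pow_right_injective (le_refl 2) h2
    omega
  subst hn
  have hcc : c * c = zz K := by
    have h1 := hgq.w_sq
    rwa [pow_zero, pow_one] at h1
  have hvv : v * v = zz K := hgq.v_sq
  have hz2 : zz K * zz K = 1 := hgq.z_mul
  have hzc : zz K * c = c * zz K := by rw [← hcc, mul_assoc]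
  have hzv : zz K * v = v * zz K := by rw [← hvv, mul_assoc]
  have hci : c⁻¹ = zz K * c := by
    apply inv_eq_of_mul_eq_one_right
    rw [hzc, ← mul_assoc, hcc, hz2]
  have hvc : v * c = zz K * (c * v) := by
    have h1 := hgq.conj_pow 1
    rw [pow_one] at h1
    rw [h1, hci, mul_assoc]
  have hcvc : c * v * c = v := by
    rw [mul_assoc, hvc]
    calc c * (zz K * (c * v)) = (c * zz K) * (c * v) := by group
      _ = (zz K * c) * (c * v) := by rw [hzc]
      _ = zz K * (c * c) * v := by group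
      _ = v := by rw [hcc, hz2, one_mul]
  have hvcv : v * (c * v) = c := by
    calc v * (c * v) = (v * c) * v := by group
      _ = zz K * (c * v) * v := by rw [hvc]
      _ = zz K * (c * (v * v)) := by group
      _ = zz K * (c * zz K) := by rw [hvv]
      _ = zz K * (zz K * c) := by rw [hzc]
      _ = c := by rw [← mul_assoc, hz2, one_mul]
  -- powers of `c`
  have hpow : ∀ i : ℤ, c ^ i = 1 ∨ c ^ i = c ∨ c ^ i = zz K ∨ c ^ i = zz K * c := by
    intro i
    have h4 : c ^ (4 : ℤ) = 1 := by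
      have : c ^ (4 : ℤ) = (c * c) * (c * c) := by
        rw [show (4 : ℤ) = ((4 : ℕ) : ℤ) from rfl, zpow_natCast]
        simp only [pow_succ, pow_zero, one_mul, mul_assoc]
      rw [this, hcc, hz2]
    have h5 : c ^ i = c ^ (i % 4) := by
      conv_lhs => rw [← Int.emod_add_mul_ediv i 4, zpow_add, zpow_mul, h4, one_zpow, mul_one]
    have h6 : i % 4 = 0 ∨ i % 4 = 1 ∨ i % 4 = 2 ∨ i % 4 = 3 := by omega
    rw [h5]
    rcases h6 with h6 | h6 | h6 | h6 <;> rw [h6]
    · left; exact zpow_zero c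
    · right; left; exact zpow_one c
    · right; right; left
      have : c ^ (2 : ℤ) = c * c := by
        rw [show (2 : ℤ) = ((2 : ℕ) : ℤ) from rfl, zpow_natCast, pow_two]
      rw [this, hcc]
    · right; right; right
      have : c ^ (3 : ℤ) = (c * c) * c := by
        rw [show (3 : ℤ) = ((3 : ℕ) : ℤ) from rfl, zpow_natCast]
        simp only [pow_succ, pow_zero, one_mul]
      rw [this, hcc]
  refine ⟨![c, v, c * v], ?_, ?_, ?_, hz2, hgq.z_ne, ?_⟩
  · intro m
    fin_cases m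
    · exact hgq.c_mem
    · exact hgq.v_mem
    · exact mul_mem hgq.c_mem hgq.v_mem
  · intro m
    fin_cases m
    · exact hcc
    · exact hvv
    · show c * v * (c * v) = zz K
      rw [← mul_assoc, hcvc, hvv]
  · intro m
    fin_cases m
    · rfl
    · exact hvcv
    · exact hcvc
  · intro k hk
    rcases hgq.covZ hk with h1 | ⟨i, h1⟩
    · obtain ⟨i, hi⟩ := mem_zpowers_iff.1 h1
      rcases hpow i with h2 | h2 | h2 | h2
      · left; rw [← hi, h2]
      · right; right; exact ⟨0, Or.inl (by rw [← hi, h2]; rfl)⟩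
      · right; left; rw [← hi, h2]
      · right; right; exact ⟨0, Or.inr (by rw [← hi, h2]; rfl)⟩
    · rcases hpow i with h2 | h2 | h2 | h2
      · right; right; exact ⟨1, Or.inl (by rw [h1, h2, mul_one]; rfl)⟩
      · right; right; exact ⟨2, Or.inr (by rw [h1, h2, hvc]; rfl)⟩
      · right; right; exact ⟨1, Or.inr (by rw [h1, h2, ← hzv]; rfl)⟩
      · right; right
        refine ⟨2, Or.inl ?_⟩
        rw [h1, h2]
        show v * (zz K * c) = c * v
        calc v * (zz K * c) = (v * zz K) * c := by group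
          _ = (zz K * v) * c := by rw [hzv]
          _ = zz K * (v * c) := by group
          _ = c * v := by rw [hvc, ← mul_assoc, hz2, one_mul]


theorem H8.comm (h : H8 Om) (hK : K ∈ Om) (hL : L ∈ Om) (hz : zz K = zz L) (hne : K ≠ L) :
    ∀ k ∈ K, ∀ l ∈ L, k * l = l * k := by
  intro k hk l hl
  rcases h.hyp.h2 K hK L hL hz with h1 | h1
  · exact absurd h1 hne
  rw [OO_eq_bot_of_two (h.isPGroup hK), bot_inf_eq, le_bot_iff,
    Subgroup.commutator_eq_bot_iff_le_centralizer] at h1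
  exact (mem_centralizer_iff.1 (h1 hk) l hl).symm

theorem q3_subgroupOf {C : Subgroup G} {z : G} {x : Fin 3 → G} (hx : Q3 K z x) (hKC : K ≤ C) :
    Q3 (K.subgroupOf C) ⟨z, hKC hx.zmem⟩ (fun i => ⟨x i, hKC (hx.mem i)⟩) where
  mem i := mem_subgroupOf.2 (hx.mem i)
  sq i := Subtype.ext (hx.sq i)
  mul i := Subtype.ext (hx.mul i)
  z2 := Subtype.ext hx.z2
  z1 := fun h => hx.z1 (congrArg Subtype.val h)
  cov k hk := by
    rcases hx.cov _ (mem_subgroupOf.1 hk) with h1 | h1 | ⟨i, h1 | h1⟩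
    · exact Or.inl (Subtype.ext h1)
    · exact Or.inr (Or.inl (Subtype.ext h1))
    · exact Or.inr (Or.inr ⟨i, Or.inl (Subtype.ext h1)⟩)
    · exact Or.inr (Or.inr ⟨i, Or.inr (Subtype.ext h1)⟩)

theorem H8.le (h : H8 Om) (hK : K ∈ Om) : K ≤ centralizer {zz K} := h.hyp.le_centralizer hK

theorem H8.mem_MMa (hK : K ∈ Om) : K.subgroupOf (centralizer {zz K}) ∈ MMa Om (zz K) := ⟨K, hK, rfl, rfl⟩

/-- the members over `a` in `C(a)` -/
theorem H8.over (h : H8 Om) (hcore : oddCore ↥(centralizer ({a} : Set G)) = ⊥) : Over (MMa Om a) (ac a) where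
  q3 := by
    rintro _ ⟨K, hK, rfl, rfl⟩
    obtain ⟨x, hx⟩ := h.exists_q3 hK
    exact ⟨_, q3_subgroupOf hx (h.le hK)⟩
  cen g := Subtype.ext (mem_centralizer_singleton_iff.1 g.2)
  conj := by
    rintro _ ⟨K, hK, rfl, rfl⟩ g
    have hg : (g : G) * zz K = zz K * g := mem_centralizer_singleton_iff.1 g.2
    refine ⟨cj (g : G) K, h.hyp.conj K hK g, ?_, ?_⟩
    · rw [h.hyp.zz_cj hK, hg, mul_inv_cancel_right]
    · ext y
      rw [mem_cj, mem_subgroupOf, mem_subgroupOf, mem_cj]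
      rfl
  comm := by
    rintro _ ⟨K, hK, rfl, rfl⟩ _ ⟨L, hL, hz, rfl⟩ hne k hk l hl
    have hKL : K ≠ L := by rintro rfl; exact hne rfl
    exact Subtype.ext (h.comm hK hL hz.symm hKL k (mem_subgroupOf.1 hk) l (mem_subgroupOf.1 hl))
  le := by
    rintro _ ⟨K, hK, rfl, rfl⟩
    exact Cfsg.Agent.PLocal.SubnormalCore.le_pCore_of_isSubnormal (h.hyp.sub K hK) (h.isPGroup hK).comap_subtype
  core := hcore

/-- `C_P(K)`, `P = O₂(C(a))` -/
def CP (a : G) (K : Subgroup G) : Subgroup G := (RR (K.subgroupOf (centralizer ({a} : Set G)))).map (centralizer {a}).subtype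

theorem mem_CP : g ∈ CP a K ↔ (∃ hg : g ∈ centralizer ({a} : Set G), (⟨g, hg⟩ : ↥(centralizer ({a} : Set G))) ∈
    pCore 2 ↥(centralizer ({a} : Set G))) ∧ ∀ k ∈ K, k ∈ centralizer ({a} : Set G) → k * g = g * k := by
  rw [CP, mem_map]
  constructor
  · rintro ⟨y, hy, rfl⟩
    rw [mem_RR] at hy
    exact ⟨⟨y.2, hy.1⟩, fun k hk hka => congrArg Subtype.val (hy.2 ⟨k, hka⟩ (mem_subgroupOf.2 hk))⟩
  · rintro ⟨⟨hg, h1⟩, h2⟩
    refine ⟨⟨g, hg⟩, mem_RR.2 ⟨h1, fun k hk => Subtype.ext (h2 k (mem_subgroupOf.1 hk) k.2)⟩, rfl⟩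

/-- the hypotheses on `c` -/
structure CK (K : Subgroup G) (c : G) : Prop where
  odd : Odd (orderOf c)
  nor : cj c K = K
  nt : ∃ k ∈ K, c * k ≠ k * c
  cr : ∀ r ∈ CP (zz K) K, c * r = r * c

theorem H8.mem_cent (h : H8 Om) (hK : K ∈ Om) (hc : cj c K = K) : c ∈ centralizer ({zz K} : Set G) :=
  h.hyp.normalizer_le hK (mem_normalizer_iff_cj.2 hc)

theorem H8.cc (h : H8 Om) (hK : K ∈ Om) (hc : CK K c) :
    Cc (K.subgroupOf (centralizer {zz K})) (⟨c, h.mem_cent hK hc.nor⟩ : ↥(centralizer ({zz K} : Set G))) where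
  odd := by rw [Subgroup.orderOf_mk]; exact hc.odd
  nor := by
    ext y
    rw [mem_cj, mem_subgroupOf, mem_subgroupOf]
    have h1 : ∀ u : G, u ∈ K ↔ c⁻¹ * u * c ∈ K := fun u => by
      conv_lhs => rw [← hc.nor]
      exact mem_cj
    exact (h1 (y : G)).symm
  nt := by
    obtain ⟨k, hk, hne⟩ := hc.nt
    exact ⟨⟨k, h.le hK hk⟩, mem_subgroupOf.2 hk, fun e => hne (congrArg Subtype.val e)⟩
  cr := fun r hr => Subtype.ext (hc.cr r (mem_map.2 ⟨r, hr, rfl⟩))

/-- **(i)** the odd elements of `J`, a subnormal subgroup of `C(a) ∩ C(s)` containing `K`, `16 ∤ |J|` -/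
theorem H8.comm_R (h : H8 Om) (hK : K ∈ Om) (hcore : oddCore ↥(centralizer ({zz K} : Set G)) = ⊥) (hs2 : s * s = 1)
    (hsK : ∀ k ∈ K, s * k = k * s) (hKJ : K ≤ J) (hJ : J ≤ centralizer {zz K} ⊓ centralizer {s})
    (hsub : (J.subgroupOf (centralizer {zz K} ⊓ centralizer {s})).IsSubnormal) (hcard : ¬ 16 ∣ Nat.card J)
    (hc : c ∈ J) (ho : Odd (orderOf c)) : cj c K = K ∧ ∀ r ∈ CP (zz K) K, c * r = r * c := by
  obtain ⟨C, hC⟩ : ∃ C : Subgroup G, C = centralizer {zz K} := ⟨_, rfl⟩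
  have hsz : s * zz K = zz K * s := hsK _ (h.hyp.zz_mem hK)
  have hsC : s ∈ centralizer ({zz K} : Set G) := mem_centralizer_singleton_iff.2 hsz
  have hJC : J ≤ centralizer ({zz K} : Set G) := hJ.trans inf_le_left
  obtain ⟨s', hs'⟩ : ∃ s' : ↥(centralizer ({zz K} : Set G)), s' = ⟨s, hsC⟩ := ⟨_, rfl⟩
  obtain ⟨J', hJ'⟩ : ∃ J' : Subgroup ↥(centralizer ({zz K} : Set G)), J' = J.subgroupOf (centralizer {zz K}) :=
    ⟨_, rfl⟩
  have hJ's : J' ≤ centralizer {s'} := by
    intro y hy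
    rw [hJ'] at hy
    rw [mem_centralizer_singleton_iff, hs']
    exact Subtype.ext (mem_centralizer_singleton_iff.1 (hJ (mem_subgroupOf.1 hy)).2)
  have hsub' : (J'.subgroupOf (centralizer {s'})).IsSubnormal := by
    -- the isomorphism `C_{C(z)}(s') ≃ C(z) ∩ C(s)`
    have hmem : ∀ y : ↥(centralizer ({s'} : Set ↥(centralizer ({zz K} : Set G)))),
        (y : ↥(centralizer ({zz K} : Set G))).1 ∈ centralizer {zz K} ⊓ centralizer {s} := by
      intro y
      refine ⟨y.1.2, mem_centralizer_singleton_iff.2 ?_⟩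
      have h1 : ((y : ↥(centralizer ({zz K} : Set G))) : G) * (s' : G) = (s' : G) * (y : ↥(centralizer ({zz K} : Set G))) :=
        congrArg Subtype.val (mem_centralizer_singleton_iff.1 y.2)
      have h2 : (s' : G) = s := by rw [hs']
      rwa [h2] at h1
    obtain ⟨f, hf⟩ : ∃ f : ↥(centralizer ({s'} : Set ↥(centralizer ({zz K} : Set G)))) →*
        ↥(centralizer {zz K} ⊓ centralizer {s} : Subgroup G), ∀ y, (f y : G) = y.1.1 :=
      ⟨{ toFun := fun y => ⟨y.1.1, hmem y⟩, map_one' := rfl, map_mul' := fun _ _ => rfl }, fun _ => rfl⟩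
    have h1 := hsub.comap f
    have h2 : (J.subgroupOf (centralizer {zz K} ⊓ centralizer {s})).comap f = J'.subgroupOf (centralizer {s'}) := by
      ext y
      rw [mem_comap, mem_subgroupOf, mem_subgroupOf, hJ', mem_subgroupOf, hf]
    rwa [h2] at h1
  have hcard' : ¬ 16 ∣ Nat.card J' := by
    rw [hJ', Nat.card_congr (subgroupOfEquivOfLe hJC).toEquiv]
    exact hcard
  obtain ⟨c', hc'⟩ : ∃ c' : ↥(centralizer ({zz K} : Set G)), c' = ⟨c, hJC hc⟩ := ⟨_, rfl⟩
  have h3 := (h.over hcore).comm_R (s := s') (c := c') (J := J') (H8.mem_MMa hK)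
    (by rw [hs']; exact Subtype.ext hs2)
    (fun k hk => by rw [hs']; exact Subtype.ext (hsK _ (mem_subgroupOf.1 hk)))
    (fun k hk => by rw [hJ']; exact mem_subgroupOf.2 (hKJ (mem_subgroupOf.1 hk)))
    hJ's hsub' hcard' (by rw [hJ', hc']; exact mem_subgroupOf.2 hc)
    (by rw [hc', Subgroup.orderOf_mk]; exact ho)
  refine ⟨?_, ?_⟩
  · refine cj_eq_of_mem fun k hk => ?_
    have h4 := mem_normalizer_of_cj h3.1 (k := ⟨k, h.le hK hk⟩) (mem_subgroupOf.2 hk)
    rw [hc'] at h4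
    exact mem_subgroupOf.1 h4
  · rintro _ ⟨r, hr, rfl⟩
    have h4 := h3.2 r hr
    rw [hc'] at h4
    exact congrArg Subtype.val h4

/-- **(ii)** `P = K R` -/
theorem H8.exists_mul (h : H8 Om) (hK : K ∈ Om) (hcore : oddCore ↥(centralizer ({zz K} : Set G)) = ⊥)
    (hc : CK K c) {p : G} (hp : p ∈ centralizer ({zz K} : Set G))
    (hp' : (⟨p, hp⟩ : ↥(centralizer ({zz K} : Set G))) ∈ pCore 2 ↥(centralizer ({zz K} : Set G))) :
    ∃ k ∈ K, ∃ r ∈ CP (zz K) K, p = k * r := by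
  obtain ⟨x, hx⟩ := (h.over hcore).q3 _ (H8.mem_MMa hK)
  obtain ⟨k, hk, r, hr, e⟩ := (h.cc hK hc).exists_mul (h.over hcore) (H8.mem_MMa hK) hx hp'
  exact ⟨k, mem_subgroupOf.1 hk, r, mem_map.2 ⟨r, hr, rfl⟩, congrArg Subtype.val e⟩

/-- **THE PRINCIPLE**: `SL(2,3)` over `K` -/
theorem H8.exists_sl (h : H8 Om) (hK : K ∈ Om) (hcore : oddCore ↥(centralizer ({zz K} : Set G)) = ⊥) (hc : CK K c)
    (hin : ∀ L : Subgroup ↥(centralizer ({zz K} : Set G)), IsComponent L → ∃ l ∈ L, ∀ x ∈ L,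
      c * x * c⁻¹ = (l : G) * x * (l : G)⁻¹) :
    ∃ J : Subgroup G, K ≤ J ∧ J ≤ centralizer {zz K} ∧ (J.subgroupOf (centralizer {zz K})).IsSubnormal ∧
      Nonempty (J ≃* Matrix.SpecialLinearGroup (Fin 2) (ZMod 3)) := by
  obtain ⟨J, hKJ, hJs, ⟨e⟩⟩ := (h.over hcore).principle (H8.mem_MMa hK) (h.cc hK hc) (fun L hL => by
    obtain ⟨l, hl, h1⟩ := hin L hL
    exact ⟨l, hl, fun x hx => Subtype.ext (h1 x hx)⟩)
  refine ⟨J.map (centralizer {zz K}).subtype, ?_, map_subtype_le _, ?_, ?_⟩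
  · intro k hk
    exact ⟨⟨k, h.le hK hk⟩, hKJ (mem_subgroupOf.2 hk), rfl⟩
  · rw [subgroupOf, comap_map_eq_self_of_injective (centralizer ({zz K} : Set G)).subtype_injective]
    exact hJs
  · exact ⟨(J.equivMapOfInjective _ (centralizer ({zz K} : Set G)).subtype_injective).symm.trans e⟩

/-- `SL(2,3)` has no odd core -/
theorem oddCore_sl {J : Subgroup G} (e : J ≃* Matrix.SpecialLinearGroup (Fin 2) (ZMod 3)) : oddCore J = ⊥ := by
  have h1 := Lib.Cores.map_equiv_pPrimeCore e.symm 2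
  rw [S1303.result.2.1, Subgroup.map_bot] at h1
  exact h1.symm

/-- **THE PRINCIPLE**, in the language of the frame -/
theorem H8.three (h : H8 Om) (hK : K ∈ Om) (hcore : oddCore ↥(centralizer ({zz K} : Set G)) = ⊥) (hc : CK K c)
    (hin : ∀ L : Subgroup ↥(centralizer ({zz K} : Set G)), IsComponent L → ∃ l ∈ L, ∀ x ∈ L,
      c * x * c⁻¹ = (l : G) * x * (l : G)⁻¹) : IndDefs.Three K := by
  obtain ⟨J, hKJ, hJC, hJs, ⟨e⟩⟩ := h.exists_sl hK hcore hc hin
  refine ⟨J, hJC, hKJ, hJs, ?_⟩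
  have h1 := oddCore_sl e
  exact ⟨(QuotientGroup.quotientMulEquivOfEq h1).trans ((QuotientGroup.quotientBot).trans e)⟩

end

end Cfsg.Agent.Cit.Nil.Three
end

private theorem dce_64cbddfb39f5 : _root_.True := by
  try have : _root_.True := by simp only [_root_.Cfsg.Agent.Cit.Nil.Three.M1.eq_1]
  try have : _root_.True := by simp only [_root_.Cfsg.Agent.Cit.Nil.Three.CP.eq_1]
  try have : _root_.True := by simp only [_root_.Cfsg.Agent.Cit.Nil.Three.RR.eq_1]
  exact _root_.True.intro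
end

-- part: Cit/Nil/Three/ExCK
section
set_option linter.all false
open scoped Cfsg.Agent.FastGrp

/-!
# S1309, THREE PROPAGATION: from THREE in `C(s)` to an odd element `c` with `CK K c`

`s` any involution, `K₁ ≤ C(s)` a member with THREE in `C(s)`.

* `H8.exists_J` : the group `J ≤ C(z_K) ∩ C(s)`;
* `exists_rot_of_sl` : an odd element of `J` not centralising `K`;
* **`H8.exists_ck`** : `CK K c`.
-/

set_option autoImplicit false
set_option linter.style.haveILetI false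
set_option linter.unusedSectionVars false

namespace Cfsg.Agent.Cit.Nil.Three

open Subgroup Cfsg Cit RTwo IndDefs

variable {G : Type*} [Group G] [Finite G] {Om : Set (Subgroup G)} {s : G}

/-- the data, without the 2-group `T` -/
theorem H8.exists_J (h : H8 Om) {K₁ : Subgroup ↥(centralizer ({s} : Set G))}
    (hK₁ : K₁ ∈ restr Om (centralizer {s})) (h3 : IndDefs.Three K₁) :
    ∃ J : Subgroup G, K₁.map (centralizer ({s} : Set G)).subtype ≤ J ∧
      J ≤ centralizer {zz (K₁.map (centralizer ({s} : Set G)).subtype)} ⊓ centralizer {s} ∧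
      (J.subgroupOf (centralizer {zz (K₁.map (centralizer ({s} : Set G)).subtype)} ⊓ centralizer {s})).IsSubnormal ∧
      Nonempty ((↥J ⧸ oddCore ↥J) ≃* Matrix.SpecialLinearGroup (Fin 2) (ZMod 3)) := by
  obtain ⟨J₁, hJz, hKJ, hsub, ⟨e⟩⟩ := h3
  have hzz : ((zz K₁ : ↥(centralizer ({s} : Set G))) : G) = zz (K₁.map (centralizer ({s} : Set G)).subtype) :=
    zz_map h.hyp hK₁
  refine ⟨J₁.map (centralizer ({s} : Set G)).subtype, map_mono hKJ, ?_, ?_, ?_⟩
  · refine le_inf ?_ (map_subtype_le _)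
    rintro _ ⟨y, hy, rfl⟩
    rw [mem_centralizer_singleton_iff, ← hzz]
    exact congrArg Subtype.val (mem_centralizer_singleton_iff.1 (hJz hy))
  · have hmem : ∀ y : ↥(centralizer ({zz (K₁.map (centralizer ({s} : Set G)).subtype)} : Set G) ⊓ centralizer {s} :
        Subgroup G), (⟨(y : G), y.2.2⟩ : ↥(centralizer ({s} : Set G))) ∈ centralizer {zz K₁} := by
      intro y
      refine mem_centralizer_singleton_iff.2 (Subtype.ext ?_)
      change (y : G) * (zz K₁ : ↥(centralizer ({s} : Set G))) = (zz K₁ : ↥(centralizer ({s} : Set G))) * (y : G)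
      rw [hzz]
      exact mem_centralizer_singleton_iff.1 y.2.1
    obtain ⟨f, hf⟩ : ∃ f : ↥(centralizer ({zz (K₁.map (centralizer ({s} : Set G)).subtype)} : Set G) ⊓
        centralizer {s} : Subgroup G) →* ↥(centralizer ({zz K₁} : Set ↥(centralizer ({s} : Set G)))),
        ∀ y, ((f y : ↥(centralizer ({s} : Set G))) : G) = y :=
      ⟨{ toFun := fun y => ⟨⟨(y : G), y.2.2⟩, hmem y⟩, map_one' := rfl, map_mul' := fun _ _ => rfl }, fun _ => rfl⟩
    have h1 := hsub.comap f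
    have h2 : (J₁.subgroupOf (centralizer {zz K₁})).comap f = (J₁.map (centralizer ({s} : Set G)).subtype).subgroupOf
        (centralizer {zz (K₁.map (centralizer ({s} : Set G)).subtype)} ⊓ centralizer {s}) := by
      ext y
      rw [mem_comap, mem_subgroupOf, mem_subgroupOf]
      constructor
      · intro hy
        exact ⟨_, hy, hf y⟩
      · rintro ⟨x, hx, hxy⟩
        have h5 : x = (f y : ↥(centralizer ({s} : Set G))) := Subtype.ext (hxy.trans (hf y).symm)
        rwa [← h5]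
    rwa [h2] at h1
  · have e1 : ↥J₁ ≃* ↥(J₁.map (centralizer ({s} : Set G)).subtype) :=
      J₁.equivMapOfInjective _ (centralizer ({s} : Set G)).subtype_injective
    exact ⟨(QuotientGroup.congr (oddCore ↥J₁) (oddCore _) e1 (Lib.Cores.map_equiv_pPrimeCore e1 2)).symm.trans e⟩

/-- `(1 1; 0 1)` -/
def tau3 : Matrix.SpecialLinearGroup (Fin 2) (ZMod 3) := ⟨!![1, 1; 0, 1], by decide⟩

/-- `(1 1; 0 1)` commutes with no element of order 4 of `SL(2,3)` -/
theorem sl3_key : ∀ κ : Matrix.SpecialLinearGroup (Fin 2) (ZMod 3), κ * κ ≠ 1 → κ * κ * (κ * κ) = 1 →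
    tau3 * κ ≠ κ * tau3 := by decide

theorem sl3_cube : tau3 ^ 3 = 1 := by decide

/-- `16 ∤ |J|` -/
theorem not_16 {J : Subgroup G} (e : (↥J ⧸ oddCore ↥J) ≃* Matrix.SpecialLinearGroup (Fin 2) (ZMod 3)) :
    ¬ 16 ∣ Nat.card J := by
  intro h16
  have h1 := Subgroup.card_eq_card_quotient_mul_card_subgroup (oddCore ↥J)
  rw [Nat.card_congr e.toEquiv, Transfer.SL23Recog.card_sl23] at h1
  have h4 : (Nat.card ↥(oddCore ↥J)).Coprime 2 := Lib.Cores.pPrimeCore_coprime 2
  have h5 : ¬ 2 ∣ Nat.card ↥(oddCore ↥J) := (Nat.Prime.coprime_iff_not_dvd Nat.prime_two).1 h4.symm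
  rw [h1] at h16
  omega

/-- an odd element of `J` not centralising `K` -/
theorem exists_rot_of_sl {J K : Subgroup G} {a : G} {x : Fin 3 → G} (hx : Q3 K a x) (hKJ : K ≤ J)
    (e : (↥J ⧸ oddCore ↥J) ≃* Matrix.SpecialLinearGroup (Fin 2) (ZMod 3)) :
    ∃ c ∈ J, Odd (orderOf c) ∧ ∃ k ∈ K, c * k ≠ k * c := by
  obtain ⟨p, hp, hker⟩ : ∃ p : ↥J →* Matrix.SpecialLinearGroup (Fin 2) (ZMod 3), Function.Surjective p ∧
      ∀ y, p y = 1 → y ∈ oddCore ↥J := by
    refine ⟨e.toMonoidHom.comp (QuotientGroup.mk' (oddCore ↥J)), ?_, fun y hy => ?_⟩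
    · exact e.surjective.comp (QuotientGroup.mk'_surjective _)
    · have h1 : e (QuotientGroup.mk' (oddCore ↥J) y) = 1 := hy
      rw [map_eq_one_iff e e.injective] at h1
      exact (QuotientGroup.eq_one_iff y).1 h1
  obtain ⟨j, hj⟩ := hp tau3
  obtain ⟨n, m, hm, hnm⟩ : ∃ n m : ℕ, Odd m ∧ orderOf j = 2 ^ n * m := by
    obtain ⟨n, m, hm, hnm⟩ := Nat.exists_eq_two_pow_mul_odd (orderOf_pos j).ne'
    exact ⟨n, m, hm, hnm⟩
  have hodd : Odd (orderOf (j ^ 2 ^ n)) := by
    have h1 : (j ^ 2 ^ n) ^ m = 1 := by rw [← pow_mul, ← hnm, pow_orderOf_eq_one]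
    exact hm.of_dvd_nat (orderOf_dvd_of_pow_eq_one h1)
  refine ⟨((j ^ 2 ^ n : ↥J) : G), (j ^ 2 ^ n).2, by rwa [orderOf_coe], x 0, hx.mem 0, ?_⟩
  intro hcom
  obtain ⟨κ, hκ⟩ : ∃ κ : ↥J, κ = ⟨x 0, hKJ (hx.mem 0)⟩ := ⟨_, rfl⟩
  have h1 : (j ^ 2 ^ n) * κ = κ * (j ^ 2 ^ n) := by rw [hκ]; exact Subtype.ext hcom
  have h2 : Commute ((p j) ^ 2 ^ n) (p κ) := by
    have := congrArg p h1
    rw [map_mul, map_mul, map_pow] at this
    exact this
  have ho : Odd (orderOf (p j)) := by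
    have h3 : orderOf (p j) ∣ 3 := orderOf_dvd_of_pow_eq_one (by rw [hj]; exact sl3_cube)
    exact Odd.of_dvd_nat (by decide) h3
  have h3 := comm_of_pow_two ho h2
  have hκκ : κ * κ = ⟨a, hKJ hx.zmem⟩ := by rw [hκ]; exact Subtype.ext (hx.sq 0)
  refine sl3_key (p κ) ?_ ?_ (by rw [← hj]; exact h3.eq)
  · intro h4
    rw [← map_mul, hκκ] at h4
    have h5 := hker _ h4
    have h6 : (Nat.card ↥(oddCore ↥J)).Coprime 2 := Lib.Cores.pPrimeCore_coprime 2
    have h7 : orderOf (⟨a, hKJ hx.zmem⟩ : ↥J) = 2 := by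
      rw [Subgroup.orderOf_mk]
      exact orderOf_eq_prime (by rw [pow_two]; exact hx.z2) hx.z1
    have h8 : orderOf (⟨⟨a, hKJ hx.zmem⟩, h5⟩ : ↥(oddCore ↥J)) = 2 := by rw [Subgroup.orderOf_mk]; exact h7
    have h9 : 2 ∣ Nat.card ↥(oddCore ↥J) := by rw [← h8]; exact orderOf_dvd_natCard _
    exact (Nat.Prime.coprime_iff_not_dvd Nat.prime_two).1 h6.symm h9
  · have h4 : κ * κ * (κ * κ) = 1 := by rw [hκκ]; exact Subtype.ext hx.z2
    rw [← map_mul, ← map_mul, h4, map_one]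

/-- **`CK K c`** -/
theorem H8.exists_ck (h : H8 Om) (hs2 : s * s = 1) {K₁ : Subgroup ↥(centralizer ({s} : Set G))}
    (hK₁ : K₁ ∈ restr Om (centralizer {s})) (h3 : IndDefs.Three K₁)
    (hcore : oddCore ↥(centralizer ({zz (K₁.map (centralizer ({s} : Set G)).subtype)} : Set G)) = ⊥) :
    ∃ c, CK (K₁.map (centralizer ({s} : Set G)).subtype) c ∧ c * s = s * c := by
  obtain ⟨J, hKJ, hJ, hsub, ⟨e⟩⟩ := h.exists_J hK₁ h3
  have hK : K₁.map (centralizer ({s} : Set G)).subtype ∈ Om := hK₁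
  obtain ⟨x, hx⟩ := h.exists_q3 hK
  obtain ⟨c, hcJ, ho, k, hk, hne⟩ := exists_rot_of_sl hx hKJ e
  have hsK : ∀ k ∈ K₁.map (centralizer ({s} : Set G)).subtype, s * k = k * s := fun k hk =>
    (mem_centralizer_singleton_iff.1 (map_subtype_le _ hk)).symm
  obtain ⟨h1, h2⟩ := h.comm_R hK hcore hs2 hsK hKJ hJ hsub (not_16 e) hcJ ho
  exact ⟨c, ⟨ho, h1, ⟨k, hk, hne⟩, h2⟩, mem_centralizer_singleton_iff.1 (hJ hcJ).2⟩

end Cfsg.Agent.Cit.Nil.Three
end

-- part: Cit/Nil/Three/Lem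
section
prune_inst 0x3010450064221000001800002000046030000002004000002040000008098001a0050001327002101100b4f0600a8060038000094038000020008a0040000000040122e010741c0011000040c801180c00000000000000000000000000000000000000000
set_option linter.all false
open scoped Cfsg.Agent.FastGrp

/-!
# S1309, node (n2): from THREE in `C(s)` to the group `J ≤ C(z_K) ∩ C(s)`

`exists_data` : `T₀` a 2-subgroup, `s ∈ ⟨z_K : K ≤ T₀⟩`, `K₁ ≤ C(s)` a member with THREE in `C(s)`: the data of `Choice`.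
-/

set_option autoImplicit false
set_option linter.style.haveILetI false
set_option linter.unusedSectionVars false

namespace Cfsg.Agent.Cit.Nil.Three

open Subgroup Cfsg Cit RTwo IndDefs

variable {G : Type*} [Group G] [Finite G] {Om : Set (Subgroup G)} {s : G}

/-- the group generated by the `z_K`, `K ≤ T` -/
def TG (Om : Set (Subgroup G)) (T : Subgroup G) : Subgroup G := closure {z | ∃ K ∈ Om, K ≤ T ∧ zz K = z}

/-- the members in `T` centralise `T_T` -/
theorem H8.le_cent_TG (h : H8 Om) {T K : Subgroup G} (hT : IsPGroup 2 T) (hK : K ∈ Om) (hKT : K ≤ T) {x k : G}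
    (hx : x ∈ TG Om T) (hk : k ∈ K) : x * k = k * x := by
  have h1 : TG Om T ≤ centralizer ({k} : Set G) := by
    rw [TG, closure_le]
    rintro z ⟨L, hL, hLT, rfl⟩
    refine mem_centralizer_singleton_iff.2 ?_
    by_cases hKL : L = K
    · subst hKL
      exact (mem_centralizer_singleton_iff.1 (h.le hK hk)).symm
    · have hm : ∀ M ∈ Om, M ≤ T → M ∈ OmS Om T := by
        intro M hM hMT
        refine ⟨hM, ?_⟩
        rw [relIndex_eq_one.2 hMT]
        norm_num
      exact h.hyp.comm hT (hm L hL hLT) (hm K hK hKT) hKL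
        (mem_inf.2 ⟨h.hyp.zz_mem hL, hLT (h.hyp.zz_mem hL)⟩) (mem_inf.2 ⟨hk, hKT hk⟩)
  exact mem_centralizer_singleton_iff.1 (h1 hx)

/-- conjugation inside `C(s)`: a 2-subgroup `T` with `K ≤ T`, `s ∈ T_T` -/
theorem H8.exists_T (h : H8 Om) {T₀ K : Subgroup G} (hT₀ : IsPGroup 2 T₀) (hs : s ∈ TG Om T₀) (hK : K ∈ Om)
    (hKs : K ≤ centralizer {s}) : ∃ T : Subgroup G, IsPGroup 2 T ∧ K ≤ T ∧ s ∈ TG Om T := by
  haveI : Fact (Nat.Prime 2) := ⟨Nat.prime_two⟩
  obtain ⟨C, hC⟩ : ∃ C : Subgroup G, C = centralizer {s} := ⟨_, rfl⟩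
  obtain ⟨U, hU⟩ : ∃ U : Subgroup G, U = sSup {L | L ∈ Om ∧ L ≤ T₀} := ⟨_, rfl⟩
  have hUT : U ≤ T₀ := by rw [hU]; exact sSup_le fun L hL => hL.2
  have hUC : U ≤ C := by
    rw [hU, hC]
    refine sSup_le fun L hL k hk => ?_
    exact mem_centralizer_singleton_iff.2 (h.le_cent_TG hT₀ hL.1 hL.2 hs hk).symm
  have h1 : IsPGroup 2 (U.subgroupOf C) := (hT₀.to_le hUT).comap_subtype
  have h2 : IsPGroup 2 (K.subgroupOf C) := (h.isPGroup hK).comap_subtype
  obtain ⟨P₁, hP₁⟩ := h1.exists_le_sylow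
  obtain ⟨P₂, hP₂⟩ := h2.exists_le_sylow
  obtain ⟨g, hg⟩ := MulAction.exists_smul_eq C P₁ P₂
  refine ⟨(P₂ : Subgroup C).map C.subtype, P₂.isPGroup'.map _, ?_, ?_⟩
  · intro k hk
    exact ⟨⟨k, by rw [hC]; exact hKs hk⟩, hP₂ (mem_subgroupOf.2 hk), rfl⟩
  · -- `s = g s g⁻¹`
    have hgs : (g : G) * s * (g : G)⁻¹ = s := by
      have h3 : (g : G) ∈ centralizer ({s} : Set G) := by rw [← hC]; exact g.2
      rw [mem_centralizer_singleton_iff.1 h3, mul_inv_cancel_right]
    have h3 : TG Om T₀ ≤ (TG Om ((P₂ : Subgroup C).map C.subtype)).comap (MulAut.conj (g : G)).toMonoidHom := by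
      rw [TG, closure_le]
      rintro z ⟨L, hL, hLT, rfl⟩
      refine subset_closure ⟨cj (g : G) L, h.hyp.conj L hL _, ?_, ?_⟩
      · intro y hy
        rw [mem_cj] at hy
        have hyU : (g : G)⁻¹ * y * g ∈ U := by
          rw [hU]
          exact (le_sSup (show L ∈ {L | L ∈ Om ∧ L ≤ T₀} from ⟨hL, hLT⟩)) hy
        have hy1 : (⟨(g : G)⁻¹ * y * g, hUC hyU⟩ : C) ∈ P₁ := hP₁ (mem_subgroupOf.2 hyU)
        have hy2 : g * (⟨(g : G)⁻¹ * y * g, hUC hyU⟩ : C) * g⁻¹ ∈ P₂ := by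
          rw [← hg]
          exact ⟨_, hy1, rfl⟩
        refine ⟨_, hy2, ?_⟩
        change (g : G) * ((g : G)⁻¹ * y * g) * (g : G)⁻¹ = y
        group
      · rw [h.hyp.zz_cj hL]; rfl
    have h4 := h3 hs
    rw [mem_comap] at h4
    change (g : G) * s * (g : G)⁻¹ ∈ _ at h4
    rwa [hgs] at h4

/-- **the data of the choice of `c`** -/
theorem H8.exists_data (h : H8 Om) {T₀ : Subgroup G} (hT₀ : IsPGroup 2 T₀) (hs : s ∈ TG Om T₀)
    {K₁ : Subgroup ↥(centralizer ({s} : Set G))} (hK₁ : K₁ ∈ restr Om (centralizer {s})) (h3 : IndDefs.Three K₁) :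
    ∃ (K J T : Subgroup G), K ∈ Om ∧ IsPGroup 2 T ∧ K ≤ T ∧ s ∈ TG Om T ∧ K ≤ J ∧
      J ≤ centralizer {zz K} ⊓ centralizer {s} ∧ (J.subgroupOf (centralizer {zz K} ⊓ centralizer {s})).IsSubnormal ∧
      Nonempty ((↥J ⧸ oddCore ↥J) ≃* Matrix.SpecialLinearGroup (Fin 2) (ZMod 3)) := by
  obtain ⟨J₁, hJz, hKJ, hsub, ⟨e⟩⟩ := h3
  obtain ⟨C, hC⟩ : ∃ C : Subgroup G, C = centralizer {s} := ⟨_, rfl⟩
  have hzz : ((zz K₁ : ↥(centralizer ({s} : Set G))) : G) = zz (K₁.map (centralizer ({s} : Set G)).subtype) :=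
    zz_map h.hyp hK₁
  have hKs : K₁.map (centralizer ({s} : Set G)).subtype ≤ centralizer {s} := map_subtype_le _
  obtain ⟨T, hT, hKT, hsT⟩ := h.exists_T hT₀ hs hK₁ hKs
  refine ⟨K₁.map (centralizer ({s} : Set G)).subtype, J₁.map (centralizer ({s} : Set G)).subtype, T, hK₁, hT, hKT, hsT,
    map_mono hKJ, ?_, ?_, ?_⟩
  · refine le_inf ?_ (map_subtype_le _)
    rintro _ ⟨y, hy, rfl⟩
    rw [mem_centralizer_singleton_iff, ← hzz]
    exact congrArg Subtype.val (mem_centralizer_singleton_iff.1 (hJz hy))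
  · -- `C(z) ∩ C(s) → C_{C(s)}(z)`
    have hmem : ∀ y : ↥(centralizer ({zz (K₁.map (centralizer ({s} : Set G)).subtype)} : Set G) ⊓ centralizer {s} :
        Subgroup G), (⟨(y : G), y.2.2⟩ : ↥(centralizer ({s} : Set G))) ∈ centralizer {zz K₁} := by
      intro y
      refine mem_centralizer_singleton_iff.2 (Subtype.ext ?_)
      change (y : G) * (zz K₁ : ↥(centralizer ({s} : Set G))) = (zz K₁ : ↥(centralizer ({s} : Set G))) * (y : G)
      rw [hzz]
      exact mem_centralizer_singleton_iff.1 y.2.1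
    obtain ⟨f, hf⟩ : ∃ f : ↥(centralizer ({zz (K₁.map (centralizer ({s} : Set G)).subtype)} : Set G) ⊓
        centralizer {s} : Subgroup G) →* ↥(centralizer ({zz K₁} : Set ↥(centralizer ({s} : Set G)))),
        ∀ y, ((f y : ↥(centralizer ({s} : Set G))) : G) = y :=
      ⟨{ toFun := fun y => ⟨⟨(y : G), y.2.2⟩, hmem y⟩, map_one' := rfl, map_mul' := fun _ _ => rfl }, fun _ => rfl⟩
    have h1 := hsub.comap f
    have h2 : (J₁.subgroupOf (centralizer {zz K₁})).comap f = (J₁.map (centralizer ({s} : Set G)).subtype).subgroupOf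
        (centralizer {zz (K₁.map (centralizer ({s} : Set G)).subtype)} ⊓ centralizer {s}) := by
      ext y
      rw [mem_comap, mem_subgroupOf, mem_subgroupOf]
      constructor
      · intro hy
        exact ⟨_, hy, hf y⟩
      · rintro ⟨x, hx, hxy⟩
        have h5 : x = (f y : ↥(centralizer ({s} : Set G))) := Subtype.ext (hxy.trans (hf y).symm)
        rwa [← h5]
    rwa [h2] at h1
  · have e1 : ↥J₁ ≃* ↥(J₁.map (centralizer ({s} : Set G)).subtype) :=
      J₁.equivMapOfInjective _ (centralizer ({s} : Set G)).subtype_injective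
    exact ⟨(QuotientGroup.congr (oddCore ↥J₁) (oddCore _) e1 (Lib.Cores.map_equiv_pPrimeCore e1 2)).symm.trans e⟩

end Cfsg.Agent.Cit.Nil.Three

private theorem dce_dd51680edbe8 : _root_.True := by
  try have : _root_.True := by simp only [_root_.Cfsg.Agent.Cit.Nil.Three.TG.eq_1]
  exact _root_.True.intro
end

-- part: Cit/Nil/CompR/SecDef
section
set_option linter.all false

/-!
# S1309 (n6), COMP, `r = 2`, the product situation: the section of a block

`G` = the stabiliser of a block without C-pairs, `Om` = the members over the points of the block, `sSup Om = B`.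

* `ZB Om = Z(B)`;
* `SecW Om` : the world which is obtained from case (S) for `B / Z(B)` (`Sec.lean`).
-/

set_option autoImplicit false

namespace Cfsg.Agent.Cit.Nil.CompR

open Subgroup Cfsg Cfsg.Agent.Cit Cfsg.Agent.Cit.Nil.RTwo

variable {G : Type*} [Group G]

/-- `Z(B)`, `B = ⟨Om⟩` -/
def ZB (Om : Set (Subgroup G)) : Subgroup G := sSup Om ⊓ centralizer ((sSup Om : Subgroup G) : Set G)

/-- the world of a block with a pair of type p: `B / Z(B)` is of type (S) -/
structure SecW [Finite G] (Om : Set (Subgroup G)) : Prop where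
  w : W2 Om
  zb2 : IsPGroup 2 (ZB Om)
  zn : ∀ z, InZ Om z → z ∉ ZB Om
  /-- `C_B(R_v) / Z(B)` has exponent 2 -/
  cx : ∀ v, InZ Om v → ∀ x ∈ sSup Om, x ∈ CX Om v → x * x ∈ ZB Om
  /-- an involution of `C_B(v)` fixes one of the three labels modulo `Z(B)` -/
  lab : ∀ v, InZ Om v → ∀ g ∈ sSup Om, g * v = v * g → g * g = 1 →
    ∃ c ∈ CC Om v, c ∈ sSup Om ∧ g * c * g⁻¹ * c⁻¹ ∈ ZB Om
  /-- an element of `G` which fixes a label does not act as a translation of weight one -/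
  nw : ∀ z K1 K2 a b, Frame Om z K1 K2 a b → ∀ c ∈ CC Om z, ∀ ρ v, Tra z a b ρ v → ρ * c = c * ρ → ¬ WOne v
  /-- pairs of type p -/
  pp : ∀ z t, InZ Om z → InZ Om t → z ≠ t → z * t = t * z → Sw Om z t → Sw Om t z →
    ∃ n, InZ Om n ∧ z * t ∈ CX Om n

end Cfsg.Agent.Cit.Nil.CompR
end

-- part: Cit/Nil/CompR/SecThree
section
prune_inst 0x301001005422100000000000000004401000000000400000204000000008800080440000002000001000800000000040038000000010000000000000000000000000020010400000000000000001180c00000000000000000000000000000000000000000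
set_option linter.all false
open scoped Cfsg.Agent.FastGrp

/-!
# S1309 (n6), COMP, `r = 2`, the product situation: no THREE in `C(e)` (helper531's (T3))

* `sec_le_of_two`, `sec_two_mem` : the 2-elements of `J` lie in `K`;
* `sec_jl` : the J-lemma;
* **`SecW.false_of_three`**.
-/

set_option autoImplicit false
set_option linter.style.haveILetI false
set_option linter.unusedSectionVars false
set_option maxHeartbeats 400000

namespace Cfsg.Agent.Cit.Nil.CompR

open Subgroup Cfsg Cfsg.Agent.Cit Cfsg.Agent.Cit.Nil.RTwo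

variable {G : Type*} [Group G] [Finite G] {Om : Set (Subgroup G)} {J K K' P X : Subgroup G} {v e r q x y : G}

theorem sec_perm_key1 : ∀ σ : Equiv.Perm (Fin 3), σ * σ * σ = 1 → σ ≠ 1 → σ = Equiv.addRight (σ 0) ∧ σ 0 ≠ 0 := by
  decide

theorem sec_perm_key2' : ∀ ρ τ : Equiv.Perm (Fin 3), (ρ ≠ 1 ∧ ρ * ρ = 1 ∧ τ * τ * τ = 1 ∧ τ * ρ = ρ * τ) → τ = 1 := by
  decide

theorem sec_perm_key2 (ρ τ : Equiv.Perm (Fin 3)) (h1 : ρ ≠ 1) (h2 : ρ * ρ = 1) (h3 : τ * τ * τ = 1)
    (h4 : τ * ρ = ρ * τ) : τ = 1 := sec_perm_key2' ρ τ ⟨h1, h2, h3, h4⟩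

theorem sec_perm_key3 : ∀ τ : Equiv.Perm (Fin 3), τ * τ * τ = 1 → (∃ i, τ i = i) → τ = 1 := by
  decide

theorem sec_le_of_two (hP : IsPGroup 2 P) (hKP : K ≤ P) (hPJ : P ≤ J) (hK8 : Nat.card K = 8)
    (h16 : ¬ 16 ∣ Nat.card J) : P ≤ K := by
  haveI : Fact (Nat.Prime 2) := ⟨Nat.prime_two⟩
  obtain ⟨m, hm⟩ := hP.exists_card_eq
  have h1 : 8 ∣ 2 ^ m := by rw [← hm, ← hK8]; exact card_dvd_of_le hKP
  have h2 : 2 ^ m ∣ Nat.card J := by rw [← hm]; exact card_dvd_of_le hPJ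
  have h3 : m ≤ 3 := by
    by_contra h4
    apply h16
    refine dvd_trans ?_ h2
    exact pow_dvd_pow 2 (show 4 ≤ m by omega)
  have h4 : 2 ^ m ≤ 8 := by
    calc 2 ^ m ≤ 2 ^ 3 := Nat.pow_le_pow_right (by norm_num) h3
      _ = 8 := by norm_num
  have h5 : K = P := Subgroup.eq_of_le_of_card_ge hKP (by rw [hm, hK8]; exact h4)
  rw [h5]

theorem sec_nor (h : W2 Om) (hK : Mem Om v K) (hKJ : K ≤ J) (hJv : J ≤ centralizer {v}) (h16 : ¬ 16 ∣ Nat.card J)
    (hy : y ∈ J) : cj y K = K := by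
  obtain ⟨L, hL, hne, -⟩ := hK.other h
  have hyv : y * v = v * y := mem_centralizer_singleton_iff.1 (hJv hy)
  rcases hK.cases hL h hne (hK.cj_comm h hyv) with h1 | h1
  · exact h1
  exfalso
  have hLJ : L ≤ J := by
    rw [← h1]
    rintro _ ⟨k, hk, rfl⟩
    exact mul_mem (mul_mem hy (hKJ hk)) (inv_mem hy)
  have hP : IsPGroup 2 (K ⊔ L : Subgroup G) := by
    refine IsPGroup.to_sup_of_normal_right' (h.isPGroup hK.1) (h.isPGroup hL.1) ?_
    intro k hk
    rw [mem_normalizer_iff]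
    intro l
    have h3 : ∀ l ∈ L, k * l * k⁻¹ = l := fun l hl => by rw [hK.comm hL h hne hk hl, mul_inv_cancel_right]
    constructor
    · intro hl; rw [h3 l hl]; exact hl
    · intro hl
      have h4 : l = k⁻¹ * (k * l * k⁻¹) * k := by group
      have h5 : k⁻¹ * (k * l * k⁻¹) * k = k * l * k⁻¹ := by
        have h6 := hK.comm hL h hne (inv_mem hk) hl
        rw [h6, inv_mul_cancel_right]
      rw [h4, h5]; exact hl
  have h2 := sec_le_of_two hP le_sup_left (sup_le hKJ hLJ) (h.card K hK.1) h16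
  have h3 : L ≤ K := le_sup_right.trans h2
  exact hne (Subgroup.eq_of_le_of_card_ge h3 (by rw [h.card K hK.1, h.card L hL.1])).symm

/-- the 2-elements of `J` lie in `K` -/
theorem sec_two_mem (h : W2 Om) (hK : Mem Om v K) (hKJ : K ≤ J) (hJv : J ≤ centralizer {v})
    (h16 : ¬ 16 ∣ Nat.card J) (hy : y ∈ J) {n : ℕ} (hn : y ^ 2 ^ n = 1) : y ∈ K := by
  haveI : Fact (Nat.Prime 2) := ⟨Nat.prime_two⟩
  have hZ : IsPGroup 2 (zpowers y) := by
    have h3 : Nat.card (zpowers y) ∣ 2 ^ n := by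
      rw [Nat.card_zpowers]
      exact orderOf_dvd_of_pow_eq_one hn
    obtain ⟨i, -, hi⟩ := (Nat.dvd_prime_pow Nat.prime_two).1 h3
    exact IsPGroup.of_card hi
  have hnor : ∀ w ∈ zpowers y, w ∈ normalizer (K : Set G) := by
    intro w hw
    have hwJ : w ∈ J := (zpowers_le.2 hy) hw
    exact mem_normalizer_iff_cj.2 (sec_nor h hK hKJ hJv h16 hwJ)
  have hP : IsPGroup 2 (zpowers y ⊔ K : Subgroup G) :=
    IsPGroup.to_sup_of_normal_right' hZ (h.isPGroup hK.1) hnor
  have h2 := sec_le_of_two hP le_sup_right (sup_le (zpowers_le.2 hy) hKJ) (h.card K hK.1) h16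
  exact h2 ((le_sup_left : zpowers y ≤ zpowers y ⊔ K) (mem_zpowers y))

/-- **the J-lemma** -/
theorem sec_jl (hJX : J ≤ X) (hsub : (J.subgroupOf X).IsSubnormal)
    (hJ2 : ∀ y ∈ J, ∀ n : ℕ, y ^ 2 ^ n = 1 → y ∈ K) (hr : r ∈ J) (ho : Odd (orderOf r)) (hq : q ∈ X) {n : ℕ}
    (hn : (q * r * q⁻¹ * r⁻¹) ^ 2 ^ n = 1) : q * r * q⁻¹ * r⁻¹ ∈ K := by
  have h1 := Three.conj_mem_of_subnormal hsub (c := (⟨r, hJX hr⟩ : X)) (t := ⟨q, hq⟩) (mem_subgroupOf.2 hr)
    (by rw [Subgroup.orderOf_mk]; exact ho) (n := n) (Subtype.ext hn)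
  have h2 : q * r * q⁻¹ ∈ J := mem_subgroupOf.1 h1
  exact hJ2 _ (mul_mem h2 (inv_mem hr)) n hn

/-- `⟨Om⟩` is normal -/
theorem sSup_conj (hyp : Hyp Om) (g : G) (hx : x ∈ sSup Om) : g * x * g⁻¹ ∈ sSup Om := by
  have h1 : sSup Om ≤ (sSup Om).comap (MulAut.conj g).toMonoidHom := by
    refine sSup_le fun L hL k hk => ?_
    have h2 : cj g L ≤ sSup Om := le_sSup (hyp.conj L hL g)
    exact h2 (conj_mem_cj hk)
  exact h1 hx

theorem ZB_conj (hyp : Hyp Om) (g : G) (hx : x ∈ ZB Om) : g * x * g⁻¹ ∈ ZB Om := by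
  refine ⟨sSup_conj hyp g hx.1, mem_centralizer_iff.2 ?_⟩
  intro y hy
  have h1 := sSup_conj hyp g⁻¹ (x := y) hy
  have h2 := mem_centralizer_iff.1 hx.2 _ h1
  rw [inv_inv] at h2
  calc y * (g * x * g⁻¹) = g * ((g⁻¹ * y * g) * x) * g⁻¹ := by group
    _ = g * (x * (g⁻¹ * y * g)) * g⁻¹ := by rw [h2]
    _ = _ := by group

theorem ZB_comm (hx : x ∈ ZB Om) (hy : y ∈ sSup Om) : x * y = y * x := (mem_centralizer_iff.1 hx.2 y hy).symm

/-- **(T3)** -/
theorem SecW.false_of_three (S : SecW Om) (hK : Mem Om v K) {e e' : G} (hev : e * v = v * e) (hee : e * e = 1)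
    (heK : ∀ k ∈ K, e * k = k * e) (he' : e' ∈ sSup Om) (he2 : e' * e' = 1)
    (hec : ∀ b ∈ sSup Om, e * b * e⁻¹ = e' * b * e'⁻¹) {J : Subgroup G} (hJ : J ≤ centralizer {v} ⊓ centralizer {e})
    (hKJ : K ≤ J) (hsub : (J.subgroupOf (centralizer {v} ⊓ centralizer {e})).IsSubnormal)
    (iso : (↥J ⧸ oddCore ↥J) ≃* Matrix.SpecialLinearGroup (Fin 2) (ZMod 3)) : False := by
  haveI : Fact (Nat.Prime 2) := ⟨Nat.prime_two⟩
  have h := S.w
  have h16 := Three.not_16 iso
  have hJv : J ≤ centralizer {v} := hJ.trans inf_le_left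
  obtain ⟨K', hK', hne, -⟩ := hK.other h
  obtain ⟨a, qa⟩ := h.exists_q3 hK
  obtain ⟨b, qb⟩ := h.exists_q3 hK'
  have F : Frame Om v K K' a b := ⟨hK, hK', hne, qa, qb⟩
  have hvv := hK.inZ.z2 h
  have hv1 := hK.inZ.z1 h
  obtain ⟨r, hrJ, ho, k0, hk0, hk0'⟩ := Three.exists_rot_of_sl qa hKJ iso
  have hrv : r * v = v * r := mem_centralizer_singleton_iff.1 (hJ hrJ).1
  have hre : r * e = e * r := mem_centralizer_singleton_iff.1 (hJ hrJ).2
  have hJ2 : ∀ y ∈ J, ∀ n : ℕ, y ^ 2 ^ n = 1 → y ∈ K := fun y hy n hn => sec_two_mem h hK hKJ hJv h16 hy hn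
  have hrK : cj r K = K := sec_nor h hK hKJ hJv h16 hrJ
  have hfix : ∀ {g : G}, g * v = v * g → cj g K = K → cj g K' = K' := by
    intro g hg hgK
    rcases hK.cases hK' h hne (hK'.cj_comm h hg) with h1 | h1
    · exact absurd (cj_inj.1 (h1.trans hgK.symm)).symm hne
    · exact h1
  have hrK' : cj r K' = K' := hfix hrv hrK
  have jl : ∀ {q : G}, q * v = v * q → q * e = e * q → (∃ n : ℕ, (q * r * q⁻¹ * r⁻¹) ^ 2 ^ n = 1) →
      q * r * q⁻¹ * r⁻¹ ∈ K := by
    rintro q h1 h2 ⟨n, hn⟩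
    exact sec_jl hJ hsub hJ2 hrJ ho ⟨mem_centralizer_singleton_iff.2 h1, mem_centralizer_singleton_iff.2 h2⟩ hn
  -- the action on `K`
  obtain ⟨σ, hσ⟩ := qa.exists_act qa hrK hrv
  obtain ⟨τ, hτ⟩ := qb.exists_act qb hrK' hrv
  have hσ3 : σ * σ * σ = 1 := by
    refine Three.odd_perm ho ?_
    have h1 := Three.act_pow hvv hσ hrv (orderOf r)
    rw [pow_orderOf_eq_one] at h1
    exact h1.unique qa (Act.one a v)
  have hτ3 : τ * τ * τ = 1 := by
    refine Three.odd_perm ho ?_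
    have h1 := Three.act_pow hvv hτ hrv (orderOf r)
    rw [pow_orderOf_eq_one] at h1
    exact h1.unique qb (Act.one b v)
  have hσ1 : σ ≠ 1 := by
    rintro rfl
    exact hk0' (Three.comm_of_odd_inn hvv ho hrv (hσ.inner qa hrv k0 hk0))
  obtain ⟨e1, e2⟩ := sec_perm_key1 σ hσ3 hσ1
  -- elements of `K'` commuting with `e`
  have hyr : ∀ y ∈ K', e * y = y * e → r * y = y * r := by
    intro y hy hye
    have h1 : y * r * y⁻¹ * r⁻¹ ∈ K' := by
      have h2 : r * y⁻¹ * r⁻¹ ∈ K' := by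
        have := conj_mem_cj (g := r) (inv_mem hy)
        rwa [hrK'] at this
      have h3 : y * r * y⁻¹ * r⁻¹ = y * (r * y⁻¹ * r⁻¹) := by group
      rw [h3]
      exact mul_mem hy h2
    have h2 := jl (hK'.comm_z h hy) hye.symm (by
      obtain ⟨n, hn⟩ := h.isPGroup hK'.1 ⟨_, h1⟩
      exact ⟨n, congrArg Subtype.val hn⟩)
    refine Three.comm_of_odd_inn hvv ho hrv ?_
    rcases hK.inf hK' h hne h2 h1 with h3 | h3
    · left
      have h4 : y * r * y⁻¹ = r := mul_inv_eq_one.1 h3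
      rw [mul_inv_eq_iff_eq_mul] at h4
      rw [← h4, mul_inv_cancel_right]
    · right
      have h4 : y * r * y⁻¹ = v * r := by rwa [mul_inv_eq_iff_eq_mul] at h3
      rw [mul_inv_eq_iff_eq_mul] at h4
      rw [mul_inv_eq_iff_eq_mul]
      calc r * y = (v * v) * (r * y) := by rw [hvv, one_mul]
        _ = v * (v * r * y) := by group
        _ = v * (y * r) := by rw [h4]
        _ = v * y * r := by group
  -- `r` is trivial on the axes of `K'`
  have hτ1 : τ = 1 := by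
    by_cases hex : ∃ i, e * b i = b i * e
    · obtain ⟨i, hi⟩ := hex
      refine sec_perm_key3 τ hτ3 ⟨i, ?_⟩
      have h1 := hyr _ (qb.mem i) hi
      have h2 : r * b i * r⁻¹ = b i := by rw [h1, mul_inv_cancel_right]
      rcases hτ i with h3 | h3
      · rw [h2] at h3; exact (qb.inj (Or.inl h3)).symm
      · rw [h2] at h3; exact (qb.inj (Or.inr h3)).symm
    · push Not at hex
      have heK1 : cj e K = K := by
        refine Three.cj_eq_of_mem fun k hk => ?_
        rw [heK k hk, mul_inv_cancel_right]; exact hk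
      obtain ⟨ρ, hρ⟩ := qb.exists_act qb (hfix hev heK1) hev
      have hρ2 : ρ * ρ = 1 := by
        have h1 := hρ.comp hvv hρ hev
        rw [hee] at h1
        exact h1.unique qb (Act.one b v)
      have hρ1 : ρ ≠ 1 := by
        rintro rfl
        rcases qb.inner_cases (hρ.inner qb hev) with h1 | ⟨j, h1⟩
        · have h2 := h1 _ (qb.mem 0)
          rw [mul_inv_eq_iff_eq_mul] at h2
          exact hex 0 h2
        · have h2 := h1 _ (qb.mem j)
          rw [mul_inv_cancel_right, mul_inv_eq_iff_eq_mul] at h2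
          exact hex j h2
      refine sec_perm_key2 ρ τ hρ1 hρ2 hτ3 ?_
      have h1 := hρ.comp hvv hτ hrv
      have h2 := hτ.comp hvv hρ hev
      rw [hre] at h1
      exact h1.unique qb h2
  have ht : Tra v a b r (σ 0, 0) := by
    refine ⟨hrv, ?_, ?_⟩
    · change Act v a a r (Equiv.addRight (σ 0))
      rw [← e1]; exact hσ
    · have h1 : Equiv.addRight ((σ 0, (0 : Fin 3)) : Fin 3 × Fin 3).2 = (1 : Equiv.Perm (Fin 3)) := by
        ext i; simp
      rw [h1, ← hτ1]; exact hτ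
  have hw : WOne ((σ 0, 0) : Fin 3 × Fin 3) := Or.inl ⟨e2, rfl⟩
  -- `v ∈ B`
  have hKB : K ≤ sSup Om := le_sSup hK.1
  have hvB : v ∈ sSup Om := hKB (hK.zmem h)
  have hq3 : ∀ k ∈ K, k ∈ ZB Om → k = 1 := by
    intro k hk hkZ
    have hvZ := S.zn v hK.inZ
    rcases qa.cov k hk with h1 | h1 | ⟨i, h1 | h1⟩
    · exact h1
    · exact absurd (h1 ▸ hkZ) hvZ
    · exfalso
      apply hvZ
      rw [← qa.sq i, ← h1]
      exact mul_mem hkZ hkZ
    · exfalso
      apply hvZ
      have h2 : k * k = v := by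
        rw [h1, mul_assoc, ← mul_assoc (a i), ← qa.zc, mul_assoc v (a i), qa.sq, ← mul_assoc, qa.z2, one_mul]
      rw [← h2]
      exact mul_mem hkZ hkZ
  -- `r` centralises `Z(B)`
  have hrZ : ∀ q ∈ ZB Om, r * q = q * r := by
    intro q hq
    have hqv : q * v = v * q := ZB_comm hq hvB
    have hqe : q * e = e * q := by
      have h1 := hec q hq.1
      have h2 : e' * q * e'⁻¹ = q := by rw [← ZB_comm hq he', mul_inv_cancel_right]
      rw [h2, mul_inv_eq_iff_eq_mul] at h1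
      exact h1.symm
    have h1 : q * r * q⁻¹ * r⁻¹ ∈ ZB Om := by
      have h3 : q * r * q⁻¹ * r⁻¹ = q * (r * q⁻¹ * r⁻¹) := by group
      rw [h3]
      exact mul_mem hq (ZB_conj h.hyp r (inv_mem hq))
    have h2 := jl hqv hqe (by
      obtain ⟨n, hn⟩ := S.zb2 ⟨_, h1⟩
      exact ⟨n, congrArg Subtype.val hn⟩)
    have h3 := hq3 _ h2 h1
    have h4 : q * r * q⁻¹ = r := mul_inv_eq_one.1 h3
    rw [mul_inv_eq_iff_eq_mul] at h4
    exact h4.symm
  -- the label
  have he'v : e' * v = v * e' := by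
    have h1 := hec v hvB
    rw [hev, mul_inv_cancel_right] at h1
    have h2 := h1.symm
    rwa [mul_inv_eq_iff_eq_mul] at h2
  obtain ⟨c, hc, hcB, hζ⟩ := S.lab v hK.inZ e' he' he'v he2
  rw [← hec c hcB] at hζ
  obtain ⟨ζ, hζe⟩ : ∃ ζ, ζ = e * c * e⁻¹ * c⁻¹ := ⟨_, rfl⟩
  rw [← hζe] at hζ
  have hec' : e * c * e⁻¹ = ζ * c := by rw [hζe]; group
  have hcX := CC.mem_CX hc
  obtain ⟨d, hd⟩ : ∃ d, d = r * c * r⁻¹ * c⁻¹ := ⟨_, rfl⟩
  have hdB : d ∈ sSup Om := by rw [hd]; exact mul_mem (sSup_conj h.hyp r hcB) (inv_mem hcB)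
  have hdX : d ∈ CX Om v := by rw [hd]; exact mul_mem (CX_conj_comm h hrv hcX) (inv_mem hcX)
  have hde : d * e = e * d := by
    have h1 : e * d * e⁻¹ = d := by
      have h2 : e * (r * c * r⁻¹) * e⁻¹ = ζ * (r * c * r⁻¹) := by
        calc e * (r * c * r⁻¹) * e⁻¹ = (e * r) * c * (e * r)⁻¹ := by group
          _ = (r * e) * c * (r * e)⁻¹ := by rw [hre]
          _ = r * (e * c * e⁻¹) * r⁻¹ := by group
          _ = (r * ζ) * c * r⁻¹ := by rw [hec']; group
          _ = _ := by rw [hrZ ζ hζ]; group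
      have h3 : e * c⁻¹ * e⁻¹ = (ζ * c)⁻¹ := by rw [← hec']; group
      calc e * d * e⁻¹ = (e * (r * c * r⁻¹) * e⁻¹) * (e * c⁻¹ * e⁻¹) := by rw [hd]; group
        _ = ζ * (r * c * r⁻¹ * c⁻¹) * ζ⁻¹ := by rw [h2, h3]; group
        _ = ζ * d * ζ⁻¹ := by rw [← hd]
        _ = d := by rw [ZB_comm hζ hdB, mul_inv_cancel_right]
    rw [mul_inv_eq_iff_eq_mul] at h1
    exact h1.symm
  -- elements of `B ∩ CX v` are 2-elements
  have hA : ∀ x, x ∈ sSup Om → x ∈ CX Om v → ∃ n : ℕ, x ^ 2 ^ n = 1 := by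
    intro x hx hxX
    obtain ⟨n, hn⟩ := S.zb2 ⟨_, S.cx v hK.inZ x hx hxX⟩
    refine ⟨n + 1, ?_⟩
    have h1 : (x * x) ^ 2 ^ n = 1 := congrArg Subtype.val hn
    rw [pow_succ', pow_mul, pow_two]
    exact h1
  have hdv : d * v = v * d := CX_le hK.inZ h hdX
  have hrd : r * d = d * r := by
    have h0 : d * r * d⁻¹ * r⁻¹ = d * (r * d⁻¹ * r⁻¹) := by group
    have hB : d * r * d⁻¹ * r⁻¹ ∈ sSup Om := by
      rw [h0]; exact mul_mem hdB (sSup_conj h.hyp r (inv_mem hdB))
    have hX : d * r * d⁻¹ * r⁻¹ ∈ CX Om v := by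
      rw [h0]; exact mul_mem hdX (CX_conj_comm h hrv (inv_mem hdX))
    have h1 := jl hdv hde (hA _ hB hX)
    have h2 : d * r * d⁻¹ * r⁻¹ = 1 ∨ d * r * d⁻¹ * r⁻¹ = v := by
      have h3 := mem_CX.1 hX K hK
      exact qa.cent h1 (i := 0) (j := 1) (by decide) (h3 _ (qa.mem 0)) (h3 _ (qa.mem 1))
    refine Three.comm_of_odd_inn hvv ho hrv ?_
    rcases h2 with h3 | h3
    · left
      have h4 : d * r * d⁻¹ = r := mul_inv_eq_one.1 h3
      rw [mul_inv_eq_iff_eq_mul] at h4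
      rw [← h4, mul_inv_cancel_right]
    · right
      have h4 : d * r * d⁻¹ = v * r := by rwa [mul_inv_eq_iff_eq_mul] at h3
      rw [mul_inv_eq_iff_eq_mul] at h4
      rw [mul_inv_eq_iff_eq_mul]
      calc r * d = (v * v) * (r * d) := by rw [hvv, one_mul]
        _ = v * (v * r * d) := by group
        _ = v * (d * r) := by rw [h4]
        _ = v * d * r := by group
  -- `rⁿ c r⁻ⁿ = dⁿ c`
  have hrc : r * c * r⁻¹ = d * c := by rw [hd]; group
  have hpow : ∀ n : ℕ, r ^ n * c * (r ^ n)⁻¹ = d ^ n * c := by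
    intro n
    induction n with
    | zero => simp
    | succ n ih =>
      have h1 : r * d ^ n = d ^ n * r := (show Commute r d from hrd).pow_right n
      calc r ^ (n + 1) * c * (r ^ (n + 1))⁻¹ = r * (r ^ n * c * (r ^ n)⁻¹) * r⁻¹ := by rw [pow_succ']; group
        _ = (r * d ^ n) * c * r⁻¹ := by rw [ih]; group
        _ = d ^ n * (r * c * r⁻¹) := by rw [h1]; group
        _ = d ^ n * d * c := by rw [hrc]; group
        _ = d ^ (n + 1) * c := by rw [pow_succ]
  have hd1 : d = 1 := by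
    have h1 := hpow (orderOf r)
    rw [pow_orderOf_eq_one, one_mul, inv_one, mul_one] at h1
    have h2 : d ^ orderOf r = 1 := mul_eq_right.1 h1.symm
    obtain ⟨n, hn⟩ := hA d hdB hdX
    have h3 : orderOf d ∣ orderOf r := orderOf_dvd_of_pow_eq_one h2
    have h4 : orderOf d ∣ 2 ^ n := orderOf_dvd_of_pow_eq_one hn
    have h5 : Nat.Coprime (orderOf r) (2 ^ n) := (Nat.coprime_two_right.2 ho).pow_right n
    exact orderOf_eq_one_iff.1 (Nat.eq_one_of_dvd_coprimes h5 h3 h4)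
  have hfin : r * c = c * r := by
    rw [hd1, one_mul, mul_inv_eq_iff_eq_mul] at hrc
    exact hrc
  exact S.nw v K K' a b F c hc r (σ 0, 0) ht hfin hw

end Cfsg.Agent.Cit.Nil.CompR
end

-- part: Cit/Nil/CompR/MThreeJ
section
set_option linter.all false
open scoped Cfsg.Agent.FastGrp

/-!
# S1309 (n6), (M3): a subnormal `SL(2,3)`

* `sl_quo` : `J = K⟨d⟩`, `K` a quaternion group of order 8, `d` of odd order moving its axes: `J / O(J) ≃ SL(2,3)`;
* `exists_j` : such a `J` is subnormal in `D`, if `K⟨d⟩ ≤ E ≤ N ≤ D`, `N` is normal in `D`, `E` in `N`, the elements of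
  `E` act evenly on the axes of `K`, and `d` commutes with `C_E(K)`.
-/

set_option autoImplicit false
set_option linter.style.haveILetI false
set_option linter.unusedSectionVars false

namespace Cfsg.Agent.Cit.Nil.CompR.M3

open Subgroup Cfsg Cfsg.Agent.Cit
open RTwo (Q3 Act sl_iso subnStep)
open Three (comm_of_odd_inn act_pow act_inv oddCore_sl q3_subgroupOf)

variable {G : Type*} [Group G] [Finite G] {K J D N E : Subgroup G} {z d g y : G} {q : Fin 3 → G}

/-- the image of a quaternion group -/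
theorem q3_map {H : Type*} [Group H] (φ : G →* H) (Q : Q3 K z q) (hz : φ z ≠ 1) :
    Q3 (K.map φ) (φ z) (fun i => φ (q i)) where
  mem i := mem_map_of_mem φ (Q.mem i)
  sq i := by rw [← map_mul, Q.sq]
  mul i := by rw [← map_mul, Q.mul]
  z2 := by rw [← map_mul, Q.z2, map_one]
  z1 := hz
  cov k hk := by
    obtain ⟨l, hl, rfl⟩ := hk
    rcases Q.cov l hl with rfl | rfl | ⟨i, rfl | rfl⟩
    · exact Or.inl (map_one φ)
    · exact Or.inr (Or.inl rfl)
    · exact Or.inr (Or.inr ⟨i, Or.inl rfl⟩)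
    · exact Or.inr (Or.inr ⟨i, Or.inr (map_mul φ _ _)⟩)

theorem act_map {H : Type*} [Group H] (φ : G →* H) {σ : Equiv.Perm (Fin 3)} {x y : Fin 3 → G} (h : Act z x y g σ) :
    Act (φ z) (fun i => φ (x i)) (fun i => φ (y i)) (φ g) σ := by
  intro i
  rcases h i with h | h
  · left; rw [← map_inv, ← map_mul, ← map_mul, h]
  · right; rw [← map_inv, ← map_mul, ← map_mul, h, map_mul]

theorem cube_comm (Q : Q3 K z q) {i : Fin 3} (hdz : d * z = z * d) (hd : Act z q q d (Equiv.addRight i))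
    (ho : Odd (orderOf d)) {k : G} (hk : k ∈ K) : d ^ 3 * k = k * d ^ 3 := by
  have h1 := act_pow Q.z2 hd hdz 3
  have e3 : ∀ i : Fin 3, (Equiv.addRight i : Equiv.Perm (Fin 3)) ^ 3 = 1 := by
    intro i
    rw [pow_succ, pow_two]
    revert i
    decide
  rw [e3] at h1
  have hc : d ^ 3 * z = z * d ^ 3 := ((show Commute d z from hdz).pow_left 3).eq
  have ho3 : Odd (orderOf (d ^ 3)) := ho.of_dvd_nat (orderOf_pow_dvd 3)
  exact comm_of_odd_inn Q.z2 ho3 hc (Act.inner Q h1 hc k hk)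

/-- **`J / O(J) ≃ SL(2,3)`** -/
theorem sl_quo (Q : Q3 K z q) {i : Fin 3} (hi : i ≠ 0) (hdz : d * z = z * d)
    (hd : Act z q q d (Equiv.addRight i)) (ho : Odd (orderOf d)) (hJ : J = K ⊔ zpowers d) :
    Nonempty ((↥J ⧸ oddCore ↥J) ≃* Matrix.SpecialLinearGroup (Fin 2) (ZMod 3)) := by
  haveI : Fact (Nat.Prime 2) := ⟨Nat.prime_two⟩
  have hKJ : K ≤ J := by rw [hJ]; exact le_sup_left
  have hdJ : d ∈ J := by rw [hJ]; exact mem_sup_right (mem_zpowers d)
  obtain ⟨d', hd'⟩ : ∃ d' : ↥J, d' = ⟨d, hdJ⟩ := ⟨_, rfl⟩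
  obtain ⟨z', hz'⟩ : ∃ z' : ↥J, z' = ⟨z, hKJ Q.zmem⟩ := ⟨_, rfl⟩
  obtain ⟨N, hN⟩ : ∃ N : Subgroup ↥J, N = zpowers (d' ^ 3) := ⟨_, rfl⟩
  have hod' : Odd (orderOf d') := by rw [hd', Subgroup.orderOf_mk]; exact ho
  -- `d ^ 3` is central
  have hcen : ∀ g : ↥J, g * d' ^ 3 = d' ^ 3 * g := by
    have h1 : J ≤ centralizer ({d ^ 3} : Set G) := by
      rw [hJ]
      refine sup_le (fun k hk => mem_centralizer_singleton_iff.2 ?_) ?_
      · exact (cube_comm Q hdz hd ho hk).symm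
      · rw [zpowers_le]
        exact mem_centralizer_singleton_iff.2 (pow_succ' d 3 ▸ (pow_succ d 3).symm ▸ rfl)
    intro g
    refine Subtype.ext ?_
    have h2 := mem_centralizer_singleton_iff.1 (h1 g.2)
    rw [hd']
    exact h2
  have hNn : N.Normal := by
    refine ⟨fun n hn g => ?_⟩
    rw [hN] at hn ⊢
    obtain ⟨k, rfl⟩ := mem_zpowers_iff.1 hn
    have h1 : Commute g ((d' ^ 3) ^ k) := (show Commute g (d' ^ 3) from hcen g).zpow_right k
    rw [h1.eq, mul_inv_cancel_right]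
    exact hn
  have hNc : (Nat.card N).Coprime 2 := by
    rw [hN, Nat.card_zpowers]
    exact Nat.Coprime.symm (Nat.coprime_two_left.2 (hod'.of_dvd_nat (orderOf_pow_dvd 3)))
  have hzN : z' ∉ N := by
    intro h1
    have h2 : orderOf z' = 2 := by
      rw [hz', Subgroup.orderOf_mk]
      exact orderOf_eq_prime (by rw [pow_two]; exact Q.z2) Q.z1
    have h3 : orderOf (⟨z', h1⟩ : N) = 2 := by rw [Subgroup.orderOf_mk, h2]
    have h4 : 2 ∣ Nat.card N := by rw [← h3]; exact orderOf_dvd_natCard _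
    exact (Nat.Prime.coprime_iff_not_dvd Nat.prime_two).1 hNc.symm h4
  obtain ⟨φ, hφ⟩ : ∃ φ : ↥J →* ↥J ⧸ N, φ = QuotientGroup.mk' N := ⟨_, rfl⟩
  have hker : ∀ g, φ g = 1 ↔ g ∈ N := fun g => by rw [hφ]; exact QuotientGroup.eq_one_iff g
  have hsur : Function.Surjective φ := by rw [hφ]; exact QuotientGroup.mk'_surjective N
  have Q1 := q3_subgroupOf Q hKJ
  have Q2 := q3_map φ Q1 (by rw [← hz']; exact fun h => hzN ((hker _).1 h))
  have hd1 : Act (⟨z, hKJ Q.zmem⟩ : ↥J) (fun i => (⟨q i, hKJ (Q.mem i)⟩ : ↥J)) (fun i => ⟨q i, hKJ (Q.mem i)⟩) d'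
      (Equiv.addRight i) := by
    intro j
    rw [hd']
    rcases hd j with h | h
    · exact Or.inl (Subtype.ext h)
    · exact Or.inr (Subtype.ext h)
  have hd2 := act_map φ hd1
  have hd3 : (φ d') ^ 3 = 1 := by rw [← map_pow, hker, hN]; exact mem_zpowers _
  have hdz' : φ d' * φ ⟨z, hKJ Q.zmem⟩ = φ ⟨z, hKJ Q.zmem⟩ * φ d' := by
    rw [← map_mul, ← map_mul, hd']
    exact congrArg φ (Subtype.ext hdz)
  obtain ⟨e⟩ := sl_iso Q2 hi hdz' hd2 hd3
  have htop : ((K.subgroupOf J).map φ ⊔ zpowers (φ d') : Subgroup (↥J ⧸ N)) = ⊤ := by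
    rw [eq_top_iff]
    intro x _
    obtain ⟨y, rfl⟩ := hsur x
    have h1 : J ≤ (((K.subgroupOf J).map φ ⊔ zpowers (φ d') : Subgroup (↥J ⧸ N)).comap φ).map J.subtype := by
      conv_lhs => rw [hJ]
      refine sup_le (fun k hk => ?_) ?_
      · exact ⟨⟨k, hKJ hk⟩, mem_sup_left (mem_map_of_mem _ (mem_subgroupOf.2 hk)), rfl⟩
      · rw [zpowers_le]
        exact ⟨d', mem_sup_right (mem_zpowers _), by rw [hd']; rfl⟩
    obtain ⟨y', hy', e⟩ := h1 y.2
    have h2 : y' = y := Subtype.ext e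
    rw [← h2]
    exact hy'
  have e2 : (↥J ⧸ N) ≃* Matrix.SpecialLinearGroup (Fin 2) (ZMod 3) :=
    (Subgroup.topEquiv.symm.trans (MulEquiv.subgroupCongr htop.symm)).trans e
  have h5 : oddCore (↥J ⧸ N) = ⊥ := by
    have h1 := Lib.Cores.map_equiv_pPrimeCore e2.symm 2
    rw [S1303.result.2.1, Subgroup.map_bot] at h1
    exact h1.symm
  have h6 : oddCore ↥J = N := by
    have h7 := Lib.Cores.comap_mk_pPrimeCore 2 (N := N) hNc
    have h8 : pPrimeCore 2 (↥J ⧸ N) = ⊥ := h5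
    rw [h8] at h7
    change pPrimeCore 2 ↥J = N
    rw [← h7]
    ext x
    rw [mem_comap, mem_bot]
    exact QuotientGroup.eq_one_iff x
  exact ⟨(QuotientGroup.quotientMulEquivOfEq h6).trans e2⟩

/-- **the subnormal `J`** -/
theorem exists_j (Q : Q3 K z q) (hND : N ≤ D) (hN : ∀ x ∈ D, ∀ n ∈ N, x * n * x⁻¹ ∈ N) (hEN : E ≤ N)
    (hE : ∀ x ∈ N, ∀ n ∈ E, x * n * x⁻¹ ∈ E) (hz : ∀ x ∈ E, x * z = z * x)
    (hev : ∀ x ∈ E, ∃ j : Fin 3, Act z q q x (Equiv.addRight j)) (hKE : K ≤ E) (hdE : d ∈ E) {i : Fin 3} (hi : i ≠ 0)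
    (hd : Act z q q d (Equiv.addRight i)) (ho : Odd (orderOf d))
    (hc : ∀ c ∈ E, (∀ k ∈ K, c * k = k * c) → c * d = d * c) :
    ∃ J : Subgroup G, J ≤ D ∧ K ≤ J ∧ (J.subgroupOf D).IsSubnormal ∧
      Nonempty ((↥J ⧸ oddCore ↥J) ≃* Matrix.SpecialLinearGroup (Fin 2) (ZMod 3)) := by
  obtain ⟨J, hJ⟩ : ∃ J, J = K ⊔ zpowers d := ⟨_, rfl⟩
  have hKJ : K ≤ J := by rw [hJ]; exact le_sup_left
  have hdJ : d ∈ J := by rw [hJ]; exact mem_sup_right (mem_zpowers d)
  have hJE : J ≤ E := by rw [hJ]; exact sup_le hKE (zpowers_le.2 hdE)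
  refine ⟨J, hJE.trans (hEN.trans hND), hKJ, ?_, sl_quo Q hi (hz d hdE) hd ho hJ⟩
  have s0 : (D.subgroupOf D).IsSubnormal := by rw [subgroupOf_self]; exact Subgroup.IsSubnormal.top
  have s1 := subnStep hND s0 hN
  have s2 := subnStep hEN s1 hE
  refine subnStep hJE s2 fun x hx j hj => ?_
  -- `x = c k dⁿ`
  obtain ⟨j0, hj0⟩ := hev x hx
  obtain ⟨n, hn⟩ : ∃ n : ℕ, (Equiv.addRight j0 : Equiv.Perm (Fin 3)) * ((Equiv.addRight i : Equiv.Perm (Fin 3)) ^ n) = 1 := by
    have key : ∀ i j0 : Fin 3, i ≠ 0 →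
        ((Equiv.addRight j0 : Equiv.Perm (Fin 3)) * ((Equiv.addRight i : Equiv.Perm (Fin 3)) ^ 0) = 1 ∨
        (Equiv.addRight j0 : Equiv.Perm (Fin 3)) * ((Equiv.addRight i : Equiv.Perm (Fin 3)) ^ 1) = 1 ∨
        (Equiv.addRight j0 : Equiv.Perm (Fin 3)) * ((Equiv.addRight i : Equiv.Perm (Fin 3)) ^ 2) = 1) := by decide
    rcases key i j0 hi with h | h | h
    · exact ⟨0, h⟩
    · exact ⟨1, h⟩
    · exact ⟨2, h⟩
  have hdz := hz d hdE
  have hdnz : d ^ n * z = z * d ^ n := ((show Commute d z from hdz).pow_left n).eq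
  have hdn := act_pow Q.z2 hd hdz n
  have hxz := hz x hx
  have h1 := hdn.comp Q.z2 hj0 hxz
  rw [hn] at h1
  have hxdz : x * d ^ n * z = z * (x * d ^ n) := by
    rw [mul_assoc, hdnz, ← mul_assoc, hxz, mul_assoc]
  have h2 := Act.inner Q h1 hxdz
  obtain ⟨k, hk, hka⟩ : ∃ k ∈ K, ∀ l ∈ K, x * d ^ n * l * (x * d ^ n)⁻¹ = k * l * k⁻¹ := by
    rcases Q.inner_cases h2 with h3 | ⟨j, h3⟩
    · exact ⟨1, one_mem K, fun l hl => by rw [h3 l hl]; group⟩
    · exact ⟨q j, Q.mem j, h3⟩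
  obtain ⟨c, hcx⟩ : ∃ c, c = x * d ^ n * k⁻¹ := ⟨_, rfl⟩
  have hcE : c ∈ E := by
    rw [hcx]
    exact mul_mem (mul_mem hx (pow_mem hdE n)) (inv_mem (hKE hk))
  have hcK : ∀ l ∈ K, c * l = l * c := by
    intro l hl
    have h4 := hka (k⁻¹ * l * k) (mul_mem (mul_mem (inv_mem hk) hl) hk)
    rw [← mul_inv_eq_iff_eq_mul, hcx]
    calc x * d ^ n * k⁻¹ * l * (x * d ^ n * k⁻¹)⁻¹ = x * d ^ n * (k⁻¹ * l * k) * (x * d ^ n)⁻¹ := by group
      _ = k * (k⁻¹ * l * k) * k⁻¹ := h4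
      _ = l := by group
  have hcd := hc c hcE hcK
  have hcJ : ∀ y ∈ J, c * y = y * c := by
    have h5 : J ≤ centralizer ({c} : Set G) := by
      rw [hJ]
      refine sup_le (fun k hk => mem_centralizer_singleton_iff.2 (hcK k hk).symm) ?_
      rw [zpowers_le]
      exact mem_centralizer_singleton_iff.2 hcd.symm
    intro y hy
    exact (mem_centralizer_singleton_iff.1 (h5 hy)).symm
  have hj' : k * (d ^ n)⁻¹ * j * (k * (d ^ n)⁻¹)⁻¹ ∈ J := by
    have h6 : k * (d ^ n)⁻¹ ∈ J := mul_mem (hKJ hk) (inv_mem (pow_mem hdJ n))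
    exact mul_mem (mul_mem h6 hj) (inv_mem h6)
  have e1 : x * j * x⁻¹ = c * (k * (d ^ n)⁻¹ * j * (k * (d ^ n)⁻¹)⁻¹) * c⁻¹ := by rw [hcx]; group
  rw [e1, hcJ _ hj', mul_inv_cancel_right]
  exact hj'

end Cfsg.Agent.Cit.Nil.CompR.M3
end

-- part: Cit/Nil/Ind/SubB
section
prune_inst 0x200000000000100000180000000000601000000200400000004000000000800020040000002002101000204000000060030000000220000000000800400000000000000010000000000000008001180c00000000000000000000000000000000000000000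
set_option linter.all false
open scoped Cfsg.Agent.FastGrp

-- part: Cit/Nil/Ind/Norm
section
/-!
# The frame of S1309: a member normalises every component

`|K| = 8`, `Z(L) ≤ Z(G)`, `zz K` does not centralise the component `L`: then `K ≤ N(L)`.
-/

set_option autoImplicit false

namespace Cfsg.Agent.Cit.Nil.Ind.Norm

open Subgroup Cfsg Cit Cit.Comp Nil.IndDefs

variable {G : Type*} [Group G]

section

variable {L L₁ : Subgroup G} {y z g : G}

/-- elementary computations for `y` with `L^y ≠ L`; `n = [z, g]` -/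
theorem calc_one (hyz : y * y = z) (hzz : z * z = 1) (hc : ∀ a ∈ L, ∀ b ∈ L₁, a * b = b * a)
    (hy : ∀ a ∈ L, y * a * y⁻¹ ∈ L₁) (hz : ∀ a ∈ L, z * a * z⁻¹ ∈ L) (hg : g ∈ L) :
    (g * (y * g * y⁻¹)) * y * (g * (y * g * y⁻¹))⁻¹ = (z * g * z⁻¹ * g⁻¹)⁻¹ * y ∧
      z * (z * g * z⁻¹ * g⁻¹) * z⁻¹ = (z * g * z⁻¹ * g⁻¹)⁻¹ := by
  have hzi : z⁻¹ = z := inv_eq_of_mul_eq_one_right hzz
  constructor
  · have h1 := hc (z * g * z⁻¹) (hz g hg) (y * g * y⁻¹) (hy g hg)
    have h2 : y * (g * (y * g * y⁻¹)) * y⁻¹ = (z * g * z⁻¹ * g⁻¹) * (g * (y * g * y⁻¹)) := by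
      calc y * (g * (y * g * y⁻¹)) * y⁻¹ = (y * g * y⁻¹) * ((y * y) * g * (y * y)⁻¹) := by group
        _ = (y * g * y⁻¹) * (z * g * z⁻¹) := by rw [hyz]
        _ = (z * g * z⁻¹) * (y * g * y⁻¹) := h1.symm
        _ = _ := by group
    set e := g * (y * g * y⁻¹)
    set n := z * g * z⁻¹ * g⁻¹
    have h3 : y * e = n * e * y := by
      rw [← h2]; group
    calc e * y * e⁻¹ = n⁻¹ * (n * e * y) * e⁻¹ := by group
      _ = n⁻¹ * (y * e) * e⁻¹ := by rw [h3]
      _ = n⁻¹ * y := by group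
  · calc z * (z * g * z⁻¹ * g⁻¹) * z⁻¹ = (z * z) * g * (z⁻¹ * g⁻¹ * z⁻¹) := by group
      _ = g * (z * g⁻¹ * z⁻¹) := by rw [hzz, hzi]; group
      _ = _ := by group

end

section

variable [Finite G] {Om : Set (Subgroup G)} {K L : Subgroup G}

/-- the key computation: `[z, g]² ∈ Z(G) ⟹ [z, g] ∈ Z(G)` for `g ∈ L`, `L^y ≠ L` -/
theorem comm_mem_center (h : Hyp Om) (h2 : ∀ K ∈ Om, IsPGroup 2 K) (hK : K ∈ Om) (hL : IsComponent L)
    (hzL : cj (zz K) L = L) (hcen : ∀ x ∈ L, (∀ y ∈ L, x * y = y * x) → x ∈ center G) {y : G}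
    (hyK : y ∈ K) (hyz : y * y = zz K) (hyL : cj y L ≠ L) {g : G} (hg : g ∈ L)
    (hn : (zz K * g * (zz K)⁻¹ * g⁻¹) * (zz K * g * (zz K)⁻¹ * g⁻¹) ∈ center G) :
    zz K * g * (zz K)⁻¹ * g⁻¹ ∈ center G := by
  set z := zz K with hz
  have hzz : z * z = 1 := h.zz_mul hK
  have hz1 : z ≠ 1 := h.zz_ne hK
  have hzi : z⁻¹ = z := inv_eq_of_mul_eq_one_right hzz
  have hc : ∀ a ∈ L, ∀ b ∈ cj y L, a * b = b * a := fun a ha b hb =>
    comm_of_ne hL (isComponent_cj hL y) hyL.symm ha hb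
  have hy : ∀ a ∈ L, y * a * y⁻¹ ∈ cj y L := fun a ha => conj_mem_cj ha
  have hzm : ∀ a ∈ L, z * a * z⁻¹ ∈ L := fun a ha => by
    have h3 := conj_mem_cj (g := z) ha
    rwa [hzL] at h3
  obtain ⟨e1, e2⟩ := calc_one hyz hzz hc hy hzm hg
  set n := z * g * z⁻¹ * g⁻¹ with hndef
  set e := g * (y * g * y⁻¹) with hedef
  have hnL : n ∈ L := L.mul_mem (hzm g hg) (L.inv_mem hg)
  have hy0 : y * y * (y * y) = 1 := by rw [hyz, hzz]
  -- `m = y n y⁻¹`
  set m := y * n * y⁻¹ with hmdef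
  have hmL : m ∈ cj y L := hy n hnL
  have hnm : n * m = m * n := hc n hnL m hmL
  have hym : y * m * y⁻¹ = n⁻¹ := by
    rw [hmdef, ← e2, ← hyz]; group
  have hnn : ∀ x : G, n * n * x = x * (n * n) := fun x => (mem_center_iff.1 hn x).symm
  -- Step A
  have hA : n * n = 1 := by
    by_contra hne
    have h3 : zz (cj n K) = n * n * z := by
      rw [h.zz_cj hK, ← hz]
      have h4 : z * n⁻¹ = n * z := by
        have : z * n⁻¹ * z⁻¹ = n := by
          have := congrArg (·⁻¹) e2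
          simpa only [mul_assoc, _root_.mul_inv_rev, _root_.inv_inv] using this
        calc z * n⁻¹ = (z * n⁻¹ * z⁻¹) * z := by group
          _ = n * z := by rw [this]
      calc n * z * n⁻¹ = n * (z * n⁻¹) := by group
        _ = n * n * z := by rw [h4]; group
    have h5 := h.comm_of_zz_comm hK (h.conj K hK n) (h2 K hK) (h2 _ (h.conj K hK n)) (by
      intro a ha
      rw [h3]
      have h6 := hnn a
      have h7 : a * z = z * a := h.comm_zz hK (le_normalizer ha)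
      calc a * (n * n * z) = (a * (n * n)) * z := by group
        _ = n * n * a * z := by rw [← h6]
        _ = n * n * (a * z) := by group
        _ = n * n * z * a := by rw [h7]; group) (by
      intro h6
      apply hne
      have h7 := h3
      rw [← h6, ← hz] at h7
      exact (mul_eq_right.1 h7.symm))
    have h8 := h5 y hyK (n * y * n⁻¹) (conj_mem_cj hyK)
    -- `n y n⁻¹ = n m⁻¹ y`
    have h9 : n * y * n⁻¹ = n * m⁻¹ * y := by rw [hmdef]; group
    rw [h9] at h8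
    have h10 : y * (n * m⁻¹) * y⁻¹ = n * m⁻¹ := by
      calc y * (n * m⁻¹) * y⁻¹ = y * (n * m⁻¹ * y) * y⁻¹ * y⁻¹ := by group
        _ = n * m⁻¹ * y * y * y⁻¹ * y⁻¹ := by rw [h8]
        _ = _ := by group
    have h11 : y * (n * m⁻¹) * y⁻¹ = m * n := by
      calc y * (n * m⁻¹) * y⁻¹ = (y * n * y⁻¹) * (y * m * y⁻¹)⁻¹ := by group
        _ = m * n := by rw [hym, ← hmdef]; group
    rw [h11, ← hnm] at h10
    have h12 : m = m⁻¹ := mul_left_cancel h10
    apply hne
    have h13 : m * m = 1 := by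
      nth_rewrite 1 [h12]
      exact inv_mul_cancel m
    have h14 : y * (n * n) * y⁻¹ = m * m := by rw [hmdef]; group
    rw [h13, mul_inv_eq_one, ← hnn y] at h14
    exact mul_eq_right.1 h14
  have hni : n⁻¹ = n := inv_eq_of_mul_eq_one_right hA
  have hzn : z * n = n * z := by
    rw [hni, mul_inv_eq_iff_eq_mul] at e2
    exact e2
  -- Step B
  have hyo : orderOf y = 4 := by
    have h3 : orderOf y = 2 ^ (1 + 1) := orderOf_eq_prime_pow (p := 2) (n := 1) (by
      rw [pow_one, pow_two, hyz]; exact hz1) (by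
      have : y ^ (2 ^ (1 + 1)) = y * y * (y * y) := by
        norm_num [pow_succ]; group
      rw [this, hy0])
    simpa using h3
  have h3 : e * y * e⁻¹ ∈ cj e K := conj_mem_cj hyK
  rw [e1] at h3
  have ho : orderOf (n⁻¹ * y) = 4 := by
    rw [← e1, ← hyo]
    exact (MulAut.conj e).orderOf_eq y
  have h4 := h.h3 (cj e K) (h.conj K hK e) K hK (n⁻¹ * y) h3 ((h2 _ (h.conj K hK e)).to_le (by
    rw [zpowers_le]; exact h3)) (by rw [ho]) (by
    have h7 : y * z = z * y := h.comm_zz hK (le_normalizer hyK)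
    rw [hni, ← hz]
    calc n * y * z = n * (y * z) := by group
      _ = (n * z) * y := by rw [h7]; group
      _ = z * (n * y) := by rw [← hzn]; group)
  have h5 : n ∈ normalizer (K : Set G) := by
    have h6 := (normalizer (K : Set G)).mul_mem h4 ((normalizer (K : Set G)).inv_mem (le_normalizer hyK))
    rw [mul_inv_cancel_right, hni] at h6
    exact h6
  have h6 : n * m⁻¹ ∈ K := by
    have h7 := (mem_normalizer_iff.1 h5 y).1 hyK
    have h8 := K.mul_mem h7 (K.inv_mem hyK)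
    have h9 : n * y * n⁻¹ * y⁻¹ = n * m⁻¹ := by rw [hmdef]; group
    rwa [h9] at h8
  have hmm : m * m = 1 := by
    have : y * (n * n) * y⁻¹ = m * m := by rw [hmdef]; group
    rw [← this, hA]; group
  have hmi : m⁻¹ = m := inv_eq_of_mul_eq_one_right hmm
  rw [hmi] at h6
  by_cases h7 : n * m = 1
  · have h8 : n = m := by
      have := eq_inv_of_mul_eq_one_left h7
      rwa [hmi] at this
    refine hcen n hnL fun x hx => ?_
    rw [h8]
    exact (hc x hx m hmL).symm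
  · have h8 : n * m = z := by
      refine h.eq_zz hK h6 ?_ h7
      calc n * m * (n * m) = n * (m * n) * m := by group
        _ = n * (n * m) * m := by rw [hnm]
        _ = (n * n) * (m * m) := by group
        _ = 1 := by rw [hA, hmm, one_mul]
    have h9 : g * z * g⁻¹ = m := by
      have h10 : z * n = g * z * g⁻¹ := by
        rw [hndef]
        calc z * (z * g * z⁻¹ * g⁻¹) = (z * z) * g * z⁻¹ * g⁻¹ := by group
          _ = g * z * g⁻¹ := by rw [hzz, hzi]; group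
      rw [← h10, ← h8]
      calc n * m * n = n * (m * n) := by group
        _ = n * (n * m) := by rw [hnm]
        _ = (n * n) * m := by group
        _ = m := by rw [hA, one_mul]
    have h10 : g * n * g⁻¹ = 1 := by
      have h11 := hc g hg m hmL
      have h12 : g * z * g⁻¹ = (g * n * g⁻¹) * m := by
        rw [← h8]
        calc g * (n * m) * g⁻¹ = g * n * g⁻¹ * (g * m) * g⁻¹ := by group
          _ = g * n * g⁻¹ * (m * g) * g⁻¹ := by rw [h11]
          _ = _ := by group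
      rw [h9] at h12
      exact (mul_eq_right.1 h12.symm)
    rw [mul_inv_eq_one] at h10
    have h11 : n = 1 := mul_eq_left.1 h10
    rw [h11]
    exact (center G).one_mem

end

/-- Glauberman's Z*-theorem for an involution `u` of the subgroup `X`. -/
theorem zstar_sub [Finite G] {X : Subgroup G} {u : G} (huX : u ∈ X) (hu2 : u * u = 1)
    (hu1 : u ≠ 1) : (∃ h ∈ X, h * u * h⁻¹ ≠ u ∧ u * (h * u * h⁻¹) = h * u * h⁻¹ * u) ∨
      ∃ N : Subgroup G, N ≤ X ∧ Odd (Nat.card N) ∧ (∀ x ∈ X, ∀ n ∈ N, x * n * x⁻¹ ∈ N) ∧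
        ∀ x ∈ X, u * x * u⁻¹ * x⁻¹ ∈ N := by
  by_cases hiso : Cfsg.IsIsolatedInvolution (⟨u, huX⟩ : X)
  · right
    have hI : Cfsg.Agent.Involutions.ZStar.Iso (⟨u, huX⟩ : X) := by
      refine ⟨Subtype.ext hu2, fun g => ?_⟩
      have h1 := Cfsg.Agent.TwoFusion.Isolated.odd_orderOf_conj_mul hiso g
      have h2 : (⟨u, huX⟩ : X) * (g * ⟨u, huX⟩ * g⁻¹) =
          (⟨u, huX⟩ : X) * (g * ⟨u, huX⟩ * g⁻¹ * ⟨u, huX⟩) * (⟨u, huX⟩ : X)⁻¹ := by group
      rw [h2]
      have h3 := (MulAut.conj (⟨u, huX⟩ : X)).orderOf_eq (g * ⟨u, huX⟩ * g⁻¹ * ⟨u, huX⟩)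
      rw [MulAut.conj_apply] at h3
      rw [h3]
      exact h1
    have h1 := Cfsg.Agent.S0215.iso_commutator _ hI
    refine ⟨(pPrimeCore 2 X).map X.subtype, Subgroup.map_subtype_le _, ?_, ?_, ?_⟩
    · have h3 : Nat.card ((pPrimeCore 2 X).map X.subtype) = Nat.card (pPrimeCore 2 X) :=
        Subgroup.card_map_of_injective X.subtype_injective
      rw [h3]
      exact Nat.coprime_two_right.mp (Cfsg.Agent.Lib.Cores.pPrimeCore_coprime (G := X) 2)
    · rintro x hx _ ⟨n, hn, rfl⟩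
      exact ⟨⟨x, hx⟩ * n * ⟨x, hx⟩⁻¹, (inferInstance : (pPrimeCore 2 X).Normal).conj_mem n hn ⟨x, hx⟩, rfl⟩
    · intro x hx
      exact ⟨_, h1 ⟨x, hx⟩, rfl⟩
  · left
    rw [Cfsg.IsIsolatedInvolution, not_and_or] at hiso
    rcases hiso with h | h
    · exact absurd (orderOf_eq_prime (Subtype.ext (by rw [pow_two]; exact hu2))
        (fun h1 => hu1 (congrArg Subtype.val h1))) h
    · push Not at h
      obtain ⟨⟨g, hg⟩, h1, h2⟩ := h
      refine ⟨g, hg, fun h3 => h2 (Subtype.ext h3), ?_⟩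
      exact congrArg Subtype.val h1

section

variable [Finite G] {Om : Set (Subgroup G)} {K L : Subgroup G}

/-- **a member normalises a component not centralised by its involution** -/
theorem le_normalizer_comp (h : Hyp Om) (h2 : ∀ K ∈ Om, IsPGroup 2 K) (h8 : Nat.card K = 8) (hK : K ∈ Om)
    (hev : EvQ (G ⧸ center G)) (hL : IsComponent L) (hzL : cj (zz K) L = L)
    (hzc : zz K ∉ center G) (hLz : ¬ L ≤ centralizer {zz K})
    (hcen : ∀ x ∈ L, (∀ y ∈ L, x * y = y * x) → x ∈ center G) : K ≤ normalizer (L : Set G) := by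
  classical
  intro y hyK
  rw [mem_normalizer_iff_cj]
  by_contra hyL
  have hzz := h.zz_mul hK
  -- `y² = z`
  have hyz : y * y = zz K := by
    refine h.eq_zz hK (K.mul_mem hyK hyK) ?_ ?_
    · have h3 : orderOf (⟨y, hyK⟩ : K) ∣ 8 := by rw [← h8]; exact _root_.orderOf_dvd_natCard _
      rw [Subgroup.orderOf_mk] at h3
      have h4 : orderOf y ∣ 4 := by
        have h5 : orderOf y ∈ Nat.divisors 8 := Nat.mem_divisors.2 ⟨h3, by norm_num⟩
        have h6 : Nat.divisors 8 = {1, 2, 4, 8} := by decide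
        rw [h6] at h5
        simp only [Finset.mem_insert, Finset.mem_singleton] at h5
        rcases h5 with h5 | h5 | h5 | h5
        · rw [h5]; norm_num
        · rw [h5]; norm_num
        · rw [h5]
        · exfalso
          -- `K` would be cyclic
          obtain ⟨v, hv, c, hc, hvc⟩ := h.exists_comm_eq hK (h2 K hK)
          have h7 : zpowers (⟨y, hyK⟩ : K) = ⊤ := by
            apply Subgroup.eq_top_of_card_eq
            rw [Nat.card_zpowers, Subgroup.orderOf_mk, h5, h8]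
          have hall : ∀ a b : K, a * b = b * a := by
            intro a b
            have ha : a ∈ zpowers (⟨y, hyK⟩ : K) := by rw [h7]; trivial
            have hb : b ∈ zpowers (⟨y, hyK⟩ : K) := by rw [h7]; trivial
            obtain ⟨i, rfl⟩ := mem_zpowers_iff.1 ha
            obtain ⟨j, rfl⟩ := mem_zpowers_iff.1 hb
            rw [← zpow_add, ← zpow_add, add_comm]
          have h8' := congrArg Subtype.val (hall ⟨v, hv⟩ ⟨c, hc⟩)
          simp only [Subgroup.coe_mul] at h8'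
          apply h.zz_ne hK
          rw [← hvc, h8']; group
      rw [orderOf_dvd_iff_pow_eq_one] at h4
      calc y * y * (y * y) = y ^ 4 := by simp only [pow_succ, pow_zero, one_mul]; group
        _ = 1 := h4
    · intro h3
      -- `y` is an involution of `K` or trivial
      apply hyL
      by_cases h4 : y = 1
      · rw [h4, cj_one]
      · rw [h.eq_zz hK hyK h3 h4, hzL]
  have key := fun {g : G} (hg : g ∈ L) => comm_mem_center h h2 hK hL hzL hcen hyK hyz hyL hg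
  set z := zz K with hz
  set q := QuotientGroup.mk' (center G) with hq
  have hqc : ∀ x : G, q x = 1 ↔ x ∈ center G := fun x => by
    rw [hq, QuotientGroup.mk'_apply, QuotientGroup.eq_one_iff]
  have hzN : zpowers z ≤ normalizer (L : Set G) := by
    rw [zpowers_le, mem_normalizer_iff_cj]; exact hzL
  have hzi : z⁻¹ = z := inv_eq_of_mul_eq_one_right hzz
  have hzm : ∀ a ∈ L, z * a * z⁻¹ ∈ L := fun a ha => by
    have h3 := conj_mem_cj (g := z) ha
    rwa [hzL] at h3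
  rcases zstar_sub (X := (L ⊔ zpowers z).map q) (u := q z)
    ⟨z, (le_sup_right : zpowers z ≤ L ⊔ zpowers z) (mem_zpowers z), rfl⟩
    (by rw [← map_mul, hzz, map_one]) (fun h3 => hzc ((hqc z).1 h3)) with hcase | hcase
  · obtain ⟨_, ⟨x, hx, rfl⟩, hne, hcm⟩ := hcase
    obtain ⟨g, hg, w, hw, rfl⟩ := LB.exists_mul_of_mem_sup (A := L) (B := zpowers z) hzN hx
    have hwz : w * z * w⁻¹ = z := by
      obtain ⟨i, rfl⟩ := mem_zpowers_iff.1 hw
      group
    have h3 : q (g * w) * q z * (q (g * w))⁻¹ = q (g * z * g⁻¹) := by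
      rw [← map_mul, ← map_inv, ← map_mul]
      congr 1
      calc g * w * z * (g * w)⁻¹ = g * (w * z * w⁻¹) * g⁻¹ := by group
        _ = g * z * g⁻¹ := by rw [hwz]
    rw [h3] at hne hcm
    apply hne
    have h4 : q ((z * g * z⁻¹ * g⁻¹) * (z * g * z⁻¹ * g⁻¹)) = 1 := by
      have e1 : z * g * z⁻¹ * g⁻¹ = z * (g * z * g⁻¹) := by rw [hzi]; group
      have e2 : q (z * (g * z * g⁻¹)) = q ((g * z * g⁻¹) * z) := by
        rw [map_mul, map_mul]; exact hcm
      rw [e1, map_mul]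
      nth_rewrite 1 [e2]
      rw [← map_mul]
      have e3 : g * z * g⁻¹ * z * (z * (g * z * g⁻¹)) = 1 := by
        calc g * z * g⁻¹ * z * (z * (g * z * g⁻¹)) = g * z * g⁻¹ * (z * z) * (g * z * g⁻¹) := by group
          _ = g * z * g⁻¹ * (g * z * g⁻¹) := by rw [hzz, mul_one]
          _ = g * (z * z) * g⁻¹ := by group
          _ = 1 := by rw [hzz]; group
      rw [e3, map_one]
    have h5 := (hqc _).2 (key hg ((hqc _).1 h4))
    have h6 : q z * q (g * z * g⁻¹) = 1 := by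
      rw [← map_mul]
      have e1 : z * g * z⁻¹ * g⁻¹ = z * (g * z * g⁻¹) := by rw [hzi]; group
      rw [← e1]; exact h5
    have h7 : (q z)⁻¹ = q z := by rw [← map_inv, hzi]
    rw [← inv_eq_of_mul_eq_one_right h6, h7]
  · obtain ⟨N, hNX, hNo, hNn, hNc⟩ := hcase
    -- the preimage of `N` in `L`
    let N1 : Subgroup L := N.comap (q.comp L.subtype)
    have hN1 : N1.Normal := by
      refine ⟨fun n hn g => ?_⟩
      have h3 := hNn (q g) ⟨g, (le_sup_left : L ≤ L ⊔ zpowers z) g.2, rfl⟩ _ hn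
      change q _ ∈ N
      simpa only [_root_.Subgroup.subtype_apply, _root_.Subgroup.coe_mul, _root_.InvMemClass.coe_inv, _root_.map_mul, _root_.map_inv, _root_.MonoidHom.coe_comp, _root_.Subgroup.coe_subtype, _root_.Function.comp_apply] using h3
    have hcase := SignalizersComponents.Components.quasisimple_normal hL.2 N1 hN1
    rcases hcase with htop | hle
    · -- `L / Z(L)` of odd order
      have h3 : L.map q ≤ N := by
        rintro _ ⟨x, hx, rfl⟩
        have h4 : (⟨x, hx⟩ : L) ∈ N1 := by rw [htop]; trivial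
        exact h4
      have hnt : Nontrivial (L.map q) := by
        rw [← not_subsingleton_iff_nontrivial]
        intro hs
        apply hLz
        intro x hx
        have h4 : q x = 1 := by
          have : (⟨q x, ⟨x, hx, rfl⟩⟩ : L.map q) = 1 := Subsingleton.elim _ _
          exact congrArg Subtype.val this
        rw [mem_centralizer_singleton_iff]
        exact (mem_center_iff.1 ((hqc x).1 h4) z).symm
      have h4 : IsQuasisimple (L.map q) :=
        SignalizersComponents.QuasisimpleQuotient.isQuasisimple_of_surjective (q.subgroupMap L)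
          (q.subgroupMap_surjective L) hL.2
      have h5 := (hev _ h4).trans (card_dvd_of_le h3)
      rw [← Nat.not_even_iff_odd, even_iff_two_dvd] at hNo
      exact hNo h5
    · have h3 : ∀ g ∈ L, z * g * z⁻¹ * g⁻¹ ∈ center G := by
        intro g hg
        have h4 := hNc (q g) ⟨g, (le_sup_left : L ≤ L ⊔ zpowers z) hg, rfl⟩
        have hnL : z * g * z⁻¹ * g⁻¹ ∈ L := L.mul_mem (hzm g hg) (L.inv_mem hg)
        have h5 : (⟨z * g * z⁻¹ * g⁻¹, hnL⟩ : L) ∈ N1 := by
          change q _ ∈ N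
          simpa only [_root_.Subgroup.subtype_apply, _root_.map_mul, _root_.map_inv] using h4
        have h6 := hle h5
        refine hcen _ hnL fun y hy => ?_
        exact congrArg Subtype.val (mem_center_iff.1 h6 ⟨y, hy⟩).symm
      -- a homomorphism `L → Z(G)`
      let f : L →* center G :=
        { toFun := fun g => ⟨z * g * z⁻¹ * (g : G)⁻¹, h3 g g.2⟩
          map_one' := Subtype.ext (by simp only [_root_.OneMemClass.coe_one, _root_.mul_one, _root_.mul_inv_cancel, _root_.inv_one])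
          map_mul' := fun a b => Subtype.ext (by
            simp only [Subgroup.coe_mul]
            have h4 := mem_center_iff.1 (h3 b b.2) (a : G)
            calc z * (↑a * ↑b) * z⁻¹ * ((a : G) * b)⁻¹ =
                (z * a * z⁻¹) * (z * b * z⁻¹ * (b : G)⁻¹) * (a : G)⁻¹ := by group
              _ = (z * a * z⁻¹) * (a : G)⁻¹ * ((a : G) * (z * b * z⁻¹ * (b : G)⁻¹)) * (a : G)⁻¹ := by group
              _ = (z * a * z⁻¹) * (a : G)⁻¹ * ((z * b * z⁻¹ * (b : G)⁻¹) * (a : G)) * (a : G)⁻¹ := by rw [h4]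
              _ = _ := by group) }
      apply hLz
      intro x hx
      have h4 : f ⟨x, hx⟩ = 1 := by
        open scoped IsMulCommutative in
        exact SignalizersComponents.CompBasic.hom_eq_one_of_perfect hL.2.1 f ⟨x, hx⟩
      have h5 : z * x * z⁻¹ * x⁻¹ = 1 := congrArg Subtype.val h4
      rw [mem_centralizer_singleton_iff]
      rw [mul_inv_eq_one, mul_inv_eq_iff_eq_mul] at h5
      exact h5.symm

end

end Cfsg.Agent.Cit.Nil.Ind.Norm
end

-- part: Cit/Nil/Ind/Red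
section
/-!
# The frame of S1309: reduction to a component

* `exists_comp` : `G = ⟨Om⟩`, `Om` connected, `z_K ∉ O_2(G)`: there is exactly one component `L`, it is normal,
  contains all `zz J`, and `O_2(G) = Z(G)`.
-/

set_option autoImplicit false

namespace Cfsg.Agent.Cit.Nil.Ind.Red

open Subgroup Cfsg Cit Cit.Comp Nil.IndDefs
open Cfsg.Agent.SignalizersComponents.Components

variable {G : Type*} [Group G]

theorem isTwo {Om : Set (Subgroup G)} (t : T0 Om) {K : Subgroup G} (hK : K ∈ Om) : IsPGroup 2 K :=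
  IsPGroup.of_card (n := 3) (by rw [t.card K hK]; norm_num)

theorem Cm_iff_le {A B : Subgroup G} : Cm A B ↔ A ≤ centralizer (B : Set G) := by
  constructor
  · intro h a ha
    rw [mem_centralizer_iff]
    exact fun b hb => (h a ha b hb).symm
  · intro h a ha b hb
    exact (mem_centralizer_iff.1 (h ha) b hb).symm

/-- induction over a component -/
theorem comp_induction {Om : Set (Subgroup G)} {P : Subgroup G → Prop} {K L : Subgroup G}
    (hL : L ∈ comp Om K) (hK : P K) (h : ∀ A B, Adj Om A B → P A → P B) : P L := by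
  induction hL with
  | refl => exact hK
  | tail _ hbc ih => exact h _ _ hbc ih

variable [Finite G] {Om : Set (Subgroup G)} {K L M : Subgroup G}

/-- two members, `zz L` commutes with `K` elementwise: equal or commuting -/
theorem eq_or_cm (t : T0 Om) (hK : K ∈ Om) (hL : L ∈ Om) (h : ∀ a ∈ K, a * zz L = zz L * a) :
    K = L ∨ Cm K L := by
  by_cases h1 : K = L
  · exact Or.inl h1
  · exact Or.inr (t.hyp.comm_of_zz_comm hK hL (isTwo t hK) (isTwo t hL) h h1)

theorem not_cm_self (t : T0 Om) (hK : K ∈ Om) : ¬ Cm K K := by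
  intro h
  obtain ⟨v, hv, c, hc, hvc⟩ := t.hyp.exists_comm_eq hK (isTwo t hK)
  apply t.hyp.zz_ne hK
  rw [← hvc, h v hv c hc]; group

/-- not NIL propagates -/
theorem not_nil (t : T0 Om) (hN : ¬ NIL K) (hL : L ∈ comp Om K) : zz L ∉ pCore 2 G := by
  haveI : Fact (Nat.Prime 2) := ⟨Nat.prime_two⟩
  haveI : (pCore 2 G).Normal := Lib.Cores.pCore_normal 2
  refine comp_induction (P := fun L => zz L ∉ pCore 2 G) hL hN ?_
  rintro A B hAB hA hB
  have h1 := t.hyp.lemma_one hAB.1 (isTwo t hAB.1) (Lib.Cores.pCore_isPGroup 2)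
    (by rw [normalizer_eq_top]; exact le_top) hA
  rcases eq_or_cm t hAB.1 hAB.2.1 (fun a ha => h1 a ha _ hB) with h2 | h2
  · rw [h2] at hA; exact hA hB
  · exact hAB.2.2 h2

/-- a component centralised by `zz K` is centralised by `K` -/
theorem cm_comp (t : T0 Om) (hK : K ∈ Om) (hL : IsComponent L) (h : L ≤ centralizer {zz K}) : Cm K L := by
  rcases le_or_comm_of_le_centralizer t.hyp hK hL h with h1 | h1
  · exfalso
    haveI : Fact (Nat.Prime 2) := ⟨Nat.prime_two⟩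
    apply quasisimple_not_isSolvable hL.2
    have h2 : IsPGroup 2 L := (isTwo t hK).to_le h1
    haveI : Group.IsNilpotent L := h2.isNilpotent
    infer_instance
  · exact fun a ha b hb => (h1 b hb a ha).symm

theorem OO_comp (t : T0 Om) (hL : L.IsSubnormal) : OO L = ⊥ := by
  have h3 := Lib.PComponents.map_pPrimeCore_le_of_isSubnormal (p := 2) hL
  rw [t.core, le_bot_iff] at h3
  exact h3

theorem exists_comp (t : T0 Om) (top : sSup Om = ⊤) (conn : ∀ K ∈ Om, ∀ L ∈ Om, L ∈ comp Om K)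
    (hev : EvQ G) (hev' : EvQ (G ⧸ center G)) (hK : K ∈ Om) (hN : ¬ NIL K) :
    pCore 2 G = center G ∧ ∃ L : Subgroup G, IsComponent L ∧ L.Normal ∧
      (∀ L' : Subgroup G, IsComponent L' → L' = L) ∧ (∀ J ∈ Om, zz J ∈ L) ∧ (∀ J ∈ Om, zz J ∉ center G) := by
  haveI : Fact (Nat.Prime 2) := ⟨Nat.prime_two⟩
  haveI hn2 : (pCore 2 G).Normal := Lib.Cores.pCore_normal 2
  have hz : ∀ J ∈ Om, zz J ∉ pCore 2 G := fun J hJ => not_nil t hN (conn K hK J hJ)
  have hcen : pCore 2 G ≤ center G := by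
    have h1 : (⊤ : Subgroup G) ≤ centralizer (pCore 2 G : Set G) := by
      rw [← top]
      refine sSup_le fun J hJ => Cm_iff_le.1 ?_
      exact t.hyp.lemma_one hJ (isTwo t hJ) (Lib.Cores.pCore_isPGroup 2)
        (by rw [normalizer_eq_top]; exact le_top) (hz J hJ)
    intro x hx
    rw [mem_center_iff]
    intro g
    exact (mem_centralizer_iff.1 (h1 (mem_top g)) x hx).symm
  have hfit : fittingSubgroup G = pCore 2 G :=
    SignalizersComponents.PConstrained.fittingSubgroup_eq_pCore_of_pPrimeCore_eq_bot 2 t.core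
  have hpc : pCore 2 G = center G := by
    apply le_antisymm hcen
    rw [← hfit]
    refine Lib.Cores.le_fittingSubgroup inferInstance ?_
    haveI hc : IsMulCommutative (center G) := inferInstance
    open scoped IsMulCommutative in
    exact CommGroup.isNilpotent
  -- the component
  have hex : ∀ J ∈ Om, ∃ L : Subgroup G, IsComponent L ∧ ¬ L ≤ centralizer {zz J} := by
    intro J hJ
    by_contra hcon
    push Not at hcon
    apply hz J hJ
    apply OneComp.centralizer_genFit_le t.core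
    refine OneComp.mem_centralizer_genFit t.core (fun L hL => ?_) ?_
    · rw [mem_centralizer_iff]
      intro x hx
      exact mem_centralizer_singleton_iff.1 (hcon L hL hx)
    · rw [mem_centralizer_iff]
      intro x hx
      exact (mem_center_iff.1 (hcen hx) _).symm
  obtain ⟨L, hL, hLz⟩ := hex K hK
  -- `Z(L) ≤ Z(G)`
  have hLcen : ∀ x ∈ L, (∀ y ∈ L, x * y = y * x) → x ∈ center G := by
    intro x hx hxL
    apply hcen
    apply OneComp.centralizer_genFit_le t.core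
    refine OneComp.mem_centralizer_genFit t.core (fun L' hL' => ?_) ?_
    · rw [mem_centralizer_iff]
      intro y hy
      by_cases h1 : L' = L
      · subst h1; exact (hxL y hy).symm
      · exact comm_of_ne hL' hL h1 hy hx
    · rw [mem_centralizer_iff]
      intro y hy
      exact (mem_center_iff.1 (hcen hy) _).symm
  have hNL : ∀ J ∈ Om, J ≤ normalizer (L : Set G) := by
    intro J hJ
    by_cases h1 : L ≤ centralizer {zz J}
    · exact (Cm_iff_le.1 (cm_comp t hJ hL h1)).trans (centralizer_le_normalizer _)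
    · exact Norm.le_normalizer_comp t.hyp (fun K hK => isTwo t hK) (t.card J hJ) hJ hev' hL
        (cj_zz_component t.hyp hev hJ hL) (fun h2 => hz J hJ (by rw [hpc]; exact h2)) h1 hLcen
  have hnor : L.Normal := by
    rw [← normalizer_eq_top_iff, eq_top_iff, ← top]
    exact sSup_le hNL
  have hmem : ∀ J ∈ Om, ¬ L ≤ centralizer {zz J} → zz J ∈ L := by
    intro J hJ h1
    by_contra h2
    exact h1 (t.hyp.lemma_two (fun K hK => isTwo t hK) hJ (hNL J hJ) (OO_comp t hL.1) h2)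
  have hall : ∀ J ∈ Om, ¬ L ≤ centralizer {zz J} := by
    intro J hJ
    refine comp_induction (P := fun J => ¬ L ≤ centralizer {zz J}) (conn K hK J hJ) hLz ?_
    rintro A B hAB hA hB
    have h1 := cm_comp t hAB.2.1 hL hB
    rcases eq_or_cm t hAB.2.1 hAB.1 (fun b hb => h1 b hb _ (hmem A hAB.1 hA)) with h2 | h2
    · rw [h2] at hB; exact hA hB
    · exact hAB.2.2 h2.symm
  have huni : ∀ L' : Subgroup G, IsComponent L' → L' = L := by
    intro L' hL'
    by_contra hne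
    have h1 : (⊤ : Subgroup G) ≤ centralizer (L' : Set G) := by
      rw [← top]
      refine sSup_le fun J hJ => Cm_iff_le.1 (cm_comp t hJ hL' ?_)
      intro x hx
      rw [mem_centralizer_singleton_iff]
      exact comm_of_ne hL' hL hne hx (hmem J hJ (hall J hJ))
    apply quasisimple_not_isMulCommutative hL'.2
    refine ⟨⟨fun a b => Subtype.ext ?_⟩⟩
    exact mem_centralizer_iff.1 (h1 (mem_top (b : G))) a a.2
  exact ⟨hpc, L, hL, hnor, huni, fun J hJ => hmem J hJ (hall J hJ), fun J hJ h1 =>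
    hz J hJ (by rw [hpc]; exact h1)⟩

end Cfsg.Agent.Cit.Nil.Ind.Red
end

-- part: Cit/Nil/Ind/SubB
section
/-!
# The frame of S1309: passage to the subgroup generated by a component of the non-commuting graph
-/

set_option autoImplicit false

namespace Cfsg.Agent.Cit.Nil.Ind.SubB

open Subgroup Cfsg Cit Nil.IndDefs Nil.Ind.Red

variable {G : Type*} [Group G] {Om : Set (Subgroup G)} {K L M B : Subgroup G}

theorem cm_map_iff {A C : Subgroup B} : Cm (A.map B.subtype) (C.map B.subtype) ↔ Cm A C := by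
  constructor
  · intro h a ha b hb
    exact Subtype.ext (h a ⟨a, ha, rfl⟩ b ⟨b, hb, rfl⟩)
  · rintro h _ ⟨a, ha, rfl⟩ _ ⟨b, hb, rfl⟩
    exact congrArg Subtype.val (h a ha b hb)

theorem adj_map_iff {A C : Subgroup B} :
    Adj (restr Om B) A C ↔ Adj Om (A.map B.subtype) (C.map B.subtype) := by
  unfold Adj
  rw [mem_restr, mem_restr, cm_map_iff]

theorem map_mem_comp {A C : Subgroup B} (h : C ∈ comp (restr Om B) A) :
    C.map B.subtype ∈ comp Om (A.map B.subtype) := by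
  induction h with
  | refl => exact Relation.ReflTransGen.refl
  | tail _ hbc ih => exact Relation.ReflTransGen.tail ih (adj_map_iff.1 hbc)

theorem subgroupOf_mem_comp (hB : ∀ L ∈ comp Om K, L ≤ B) (h : L ∈ comp Om K) :
    L.subgroupOf B ∈ comp (restr Om B) (K.subgroupOf B) := by
  have h1 : ∀ L, Relation.ReflTransGen (Adj Om) K L →
      Relation.ReflTransGen (Adj (restr Om B)) (K.subgroupOf B) (L.subgroupOf B) := by
    intro L hL
    induction hL with
    | refl => exact Relation.ReflTransGen.refl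
    | tail hab hbc ih =>
      refine Relation.ReflTransGen.tail ih (adj_map_iff.2 ?_)
      rwa [map_subgroupOf_eq_of_le (hB _ hab), map_subgroupOf_eq_of_le (hB _ (hab.tail hbc))]
  exact h1 L h

section

variable [Finite G]

/-- the subgroup generated by a component of the graph -/
def BB (Om : Set (Subgroup G)) (K : Subgroup G) : Subgroup G := sSup (comp Om K)

theorem le_BB (hL : L ∈ comp Om K) : L ≤ BB Om K := le_sSup hL

theorem cm_BB (hK : K ∈ Om) (hL : L ∈ Om) (hn : L ∉ comp Om K) : Cm (BB Om K) L := by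
  rw [Cm_iff_le]
  refine sSup_le fun M hM => Cm_iff_le.1 ?_
  by_contra h
  exact hn (mem_comp_of hM ⟨comp_sub hK hM, hL, h⟩)

theorem isSubnormal_BB (t : T0 Om) (hK : K ∈ Om) : (BB Om K).IsSubnormal := by
  set G1 : Subgroup G := sSup Om with hG1
  have hle : BB Om K ≤ G1 := sSup_le_sSup (comp_sub hK)
  have hn1 : G1.Normal := by
    refine ⟨fun x hx g => ?_⟩
    have h1 : G1 ≤ G1.comap (MulAut.conj g).toMonoidHom := by
      refine sSup_le fun L hL x hx => ?_
      have h2 : g * x * g⁻¹ ∈ cj g L := conj_mem_cj hx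
      exact (le_sSup (t.hyp.conj L hL g) : cj g L ≤ G1) h2
    exact h1 hx
  have hn2 : G1 ≤ normalizer (BB Om K : Set G) := by
    refine sSup_le fun L hL => ?_
    by_cases h1 : L ∈ comp Om K
    · exact (le_BB h1).trans le_normalizer
    · exact (Cm_iff_le.1 (cm_BB hK hL h1).symm).trans (centralizer_le_normalizer _)
  refine Subgroup.IsSubnormal.trans hle ?_ hn1.isSubnormal
  exact ((normal_subgroupOf_iff_le_normalizer hle).2 hn2).isSubnormal

theorem mem_comp_of_le (t : T0 Om) (hK : K ∈ Om) (hL : L ∈ Om) (hle : L ≤ BB Om K) : L ∈ comp Om K := by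
  by_contra hn
  exact not_cm_self t hL fun a ha b hb => cm_BB hK hL hn a (hle ha) b hb

theorem t0_restr (t : T0 Om) (hB : B.IsSubnormal) : T0 (restr Om B) := by
  refine ⟨t.hyp.restr B, fun K hK => ?_, ?_⟩
  · rw [← t.card _ (mem_restr.1 hK), card_map_of_injective B.subtype_injective]
  · have h3 := Lib.PComponents.map_pPrimeCore_le_of_isSubnormal (p := 2) hB
    rw [t.core, le_bot_iff, Subgroup.map_eq_bot_iff_of_injective _ (Subgroup.subtype_injective _)] at h3
    exact h3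

/-- subnormality of images -/
theorem map_isSubnormal {X Y : Type*} [Group X] [Group Y] (f : X →* Y) (hf : f.range.IsSubnormal)
    {H : Subgroup X} (hH : H.IsSubnormal) : (H.map f).IsSubnormal := by
  have h1 : H.map f = (H.map f.rangeRestrict).map f.range.subtype := by
    rw [Subgroup.map_map]; rfl
  rw [h1]
  exact Subgroup.IsSubnormal.trans' (hH.map f.rangeRestrict_surjective) hf

theorem three_map (t : T0 Om) (hB : B.IsSubnormal) {K₁ : Subgroup B} (hK₁ : K₁ ∈ restr Om B)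
    (h : Three K₁) : Three (K₁.map B.subtype) := by
  obtain ⟨J, hJc, hKJ, hJs, ⟨e⟩⟩ := h
  have hz := zz_map t.hyp hK₁
  have hmemc : ∀ x : B, x ∈ centralizer {zz K₁} ↔ (x : G) ∈ centralizer {zz (K₁.map B.subtype)} := by
    intro x
    rw [mem_centralizer_singleton_iff, mem_centralizer_singleton_iff, ← hz]
    exact ⟨fun h => congrArg Subtype.val h, fun h => Subtype.ext h⟩
  refine ⟨J.map B.subtype, ?_, Subgroup.map_mono hKJ, ?_, ?_⟩
  · rintro _ ⟨x, hx, rfl⟩
    exact (hmemc x).1 (hJc hx)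
  · let f : centralizer {zz K₁} →* centralizer {zz (K₁.map B.subtype)} :=
      { toFun := fun x => ⟨((x : B) : G), (hmemc x).1 x.2⟩
        map_one' := rfl
        map_mul' := fun _ _ => rfl }
    have hr : f.range = B.subgroupOf (centralizer {zz (K₁.map B.subtype)}) := by
      ext x
      constructor
      · rintro ⟨y, rfl⟩
        exact (y : B).2
      · intro hx
        exact ⟨⟨⟨x, hx⟩, (hmemc _).2 x.2⟩, rfl⟩
    have h1 : (J.subgroupOf (centralizer {zz K₁})).map f =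
        (J.map B.subtype).subgroupOf (centralizer {zz (K₁.map B.subtype)}) := by
      ext x
      constructor
      · rintro ⟨y, hy, rfl⟩
        exact ⟨y, hy, rfl⟩
      · rintro ⟨y, hy, hyx⟩
        refine ⟨⟨y, hJc hy⟩, hy, Subtype.ext hyx⟩
    rw [← h1]
    refine map_isSubnormal f ?_ hJs
    rw [hr]
    exact hB.subgroupOf
  · let φ : J ≃* J.map B.subtype := J.equivMapOfInjective B.subtype B.subtype_injective
    have h2 : (oddCore J).map (φ : J →* J.map B.subtype) = oddCore (J.map B.subtype) :=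
      Lib.Cores.map_equiv_pPrimeCore φ 2
    exact ⟨(QuotientGroup.congr _ _ φ h2).symm.trans e⟩

/-- transfer of `TStat` from `BB Om K` -/
theorem tStat_of_BB (t : T0 Om) (hK : K ∈ Om)
    (h : TStat (restr Om (BB Om K)) (K.subgroupOf (BB Om K))) : TStat Om K := by
  haveI : Fact (Nat.Prime 2) := ⟨Nat.prime_two⟩
  set B := BB Om K with hBdef
  have hB := isSubnormal_BB t hK
  have hKB : K ≤ B := le_BB mem_comp_self
  have hle : ∀ L ∈ comp Om K, L ≤ B := fun L hL => le_BB hL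
  have hmK : (K.subgroupOf B).map B.subtype = K := map_subgroupOf_eq_of_le hKB
  rcases h with h | h | h
  · left
    have h1 := zz_map t.hyp (subgroupOf_mem_restr hK hKB)
    rw [hmK] at h1
    rw [NIL, ← h1]
    have h2 : pCore 2 B ≤ (pCore 2 G).comap B.subtype := by
      rw [← map_le_iff_le_comap]
      exact SignalizersComponents.CompBasic.subnormal_pGroup_le_pCore
        (Subgroup.IsSubnormal.trans' (Lib.Cores.pCore_normal 2).isSubnormal hB)
        ((Lib.Cores.pCore_isPGroup 2).map _)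
    exact h2 h
  · right; left
    intro K₁ h₁ K₂ h₂ hcm L hL x hx
    have e1 := hle _ h₁
    have e2 := hle _ h₂
    have e3 := hle _ hL
    have hz1 := zz_map t.hyp (subgroupOf_mem_restr (comp_sub hK h₁) e1)
    have hz2 := zz_map t.hyp (subgroupOf_mem_restr (comp_sub hK h₂) e2)
    rw [map_subgroupOf_eq_of_le e1] at hz1
    rw [map_subgroupOf_eq_of_le e2] at hz2
    have h3 := h _ (subgroupOf_mem_comp hle h₁) _ (subgroupOf_mem_comp hle h₂)
      (fun a ha b hb => Subtype.ext (hcm a ha b hb)) _ (subgroupOf_mem_comp hle hL) ⟨x, e3 hx⟩ hx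
    have h4 := congrArg Subtype.val h3
    simp only [Subgroup.coe_mul] at h4
    rw [hz1, hz2] at h4
    exact h4
  · right; right
    obtain ⟨K₁, h₁, h3⟩ := h
    have h4 := map_mem_comp h₁
    rw [hmK] at h4
    refine ⟨_, h4, three_map t hB ?_ h3⟩
    rw [mem_restr]
    exact comp_sub hK h4

end

end Cfsg.Agent.Cit.Nil.Ind.SubB
end

private theorem dce_9d62a981d0d7 : _root_.True := by
  try have : _root_.True := by simp only [_root_.Cfsg.IsIsolatedInvolution.eq_1]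
  try have : _root_.True := by simp only [_root_.Cfsg.Agent.Cit.Nil.IndDefs.NIL.eq_1]
  exact _root_.True.intro
end

-- part: Cit/Nil/RTwo/TenO
section
prune_inst 0x40000000001800000000044010000002004000000040000000088001200400013060021011100470200a0060038800090030000020000a0040000000000020c01000000001000000c801180c00000000000000000000000000000000000000000
set_option linter.all false
open scoped Cfsg.Agent.FastGrp

/-!
# (O'): the components of `C(c)` are in `M_c`
-/

set_option autoImplicit false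
set_option linter.style.haveILetI false
set_option linter.unusedSectionVars false
set_option maxHeartbeats 400000

namespace Cfsg.Agent.Cit.Nil.RTwo

open Subgroup Cfsg Cfsg.Agent.Cit

variable {G : Type*} [Group G]

/-- `L` is a component of the subgroup `H` -/
structure CompOf (H L : Subgroup G) : Prop where
  le : L ≤ H
  sub : (L.subgroupOf H).IsSubnormal
  q : IsQuasisimple L

namespace CompOf

variable {H L T P : Subgroup G} {g : G}

theorem isComponent (C : CompOf H L) : IsComponent (L.subgroupOf H) :=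
  ⟨C.sub, Cfsg.Agent.SignalizersComponents.QsBasic.isQuasisimple_of_mulEquiv (subgroupOfEquivOfLe C.le).symm C.q⟩

theorem cj (C : CompOf H L) (hg : g ∈ H) : Cit.cj g L = L ∨ ∀ x ∈ Cit.cj g L, ∀ y ∈ L, x * y = y * x := by
  have h1 := C.isComponent
  have h2 := Comp.isComponent_cj h1 ⟨g, hg⟩
  have h3 : Cit.cj (⟨g, hg⟩ : H) (L.subgroupOf H) = (Cit.cj g L).subgroupOf H := by
    ext x; rw [mem_cj, mem_subgroupOf, mem_subgroupOf, mem_cj]; rfl
  have h6 : Cit.cj g L ≤ H := by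
    intro x hx
    rw [mem_cj] at hx
    have e : x = g * (g⁻¹ * x * g) * g⁻¹ := by group
    rw [e]
    exact mul_mem (mul_mem hg (C.le hx)) (inv_mem hg)
  by_cases h4 : Cit.cj (⟨g, hg⟩ : H) (L.subgroupOf H) = L.subgroupOf H
  · left
    rw [h3] at h4
    have h5 := congrArg (Subgroup.map H.subtype) h4
    rwa [map_subgroupOf_eq_of_le h6, map_subgroupOf_eq_of_le C.le] at h5
  · right
    intro x hx y hy
    have h5 := Comp.comm_of_ne h2 h1 h4 (x := ⟨x, h6 hx⟩) (y := ⟨y, C.le hy⟩) (by rw [h3]; exact hx) hy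
    exact congrArg Subtype.val h5

variable [Finite G]

/-- `P ∩ L` is a Sylow 2-subgroup of `L` -/
theorem syl_inf (C : CompOf H L) (hP : Syl P H) : Syl (P ⊓ L) L := by
  haveI : Fact (Nat.Prime 2) := ⟨Nat.prime_two⟩
  obtain ⟨S, hS⟩ := hP.exists_sylow
  obtain ⟨Q, hQ⟩ := Cfsg.Agent.S0542.result 2 (L.subgroupOf H) C.sub S
  refine ⟨inf_le_right, hP.2.1.to_le inf_le_left, ?_⟩
  have h1 := Q.not_dvd_index
  rw [hQ, hS] at h1
  have h2 : ((P.subgroupOf H).subgroupOf (L.subgroupOf H)).index = (P ⊓ L).relIndex L := by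
    rw [inf_relIndex_right]
    exact relIndex_subgroupOf C.le
  rwa [h2] at h1

/-- normal subgroups -/
theorem eq_or_le (C : CompOf H L) {N : Subgroup G} (hN : N ≤ L) (hn : L ≤ normalizer (N : Set G)) :
    N = L ∨ ∀ x ∈ N, ∀ y ∈ L, x * y = y * x := by
  have h1 : (N.subgroupOf L).Normal := (normal_subgroupOf_iff_le_normalizer hN).2 hn
  rcases Cfsg.Agent.SignalizersComponents.Components.quasisimple_normal C.q _ h1 with h2 | h2
  · left
    exact le_antisymm hN (subgroupOf_eq_top.1 h2)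
  · right
    intro x hx y hy
    have h3 : (⟨x, hN hx⟩ : ↥L) ∈ center ↥L := h2 hx
    exact (congrArg Subtype.val (mem_center_iff.1 h3 ⟨y, hy⟩)).symm

theorem not_comm (C : CompOf H L) (hc : ∀ x ∈ L, ∀ y ∈ L, x * y = y * x) : False := by
  have h1 : center ↥L = ⊤ := by
    rw [eq_top_iff]
    intro x _
    rw [mem_center_iff]
    intro y
    exact Subtype.ext (hc _ y.2 _ x.2)
  have h2 := C.q.2
  have h3 : Subsingleton (↥L ⧸ center ↥L) := by
    rw [QuotientGroup.subsingleton_iff]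
    exact h1
  exact not_subsingleton _ h3

/-- Burnside: a Sylow 2-subgroup is not central -/
theorem not_central (C : CompOf H L) (hO : OO L = ⊥) (hT : Syl T L) (hc : ∀ t ∈ T, ∀ l ∈ L, t * l = l * t) :
    False := by
  haveI : Fact (Nat.Prime 2) := ⟨Nat.prime_two⟩
  obtain ⟨S, hS⟩ := hT.exists_sylow
  have hSc : ∀ s ∈ (S : Subgroup ↥L), ∀ l : ↥L, s * l = l * s := by
    intro s hs l
    rw [hS] at hs
    exact Subtype.ext (hc _ hs _ l.2)
  have hN : normalizer ((S : Subgroup ↥L) : Set ↥L) ≤ centralizer ((S : Subgroup ↥L) : Set ↥L) := by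
    intro x _
    rw [mem_centralizer_iff]
    intro s hs
    exact hSc s hs x
  have h1 := MonoidHom.not_dvd_card_ker_transferSylow S hN
  have h2 : (MonoidHom.transferSylow S hN).ker = ⊤ := by
    have h3 := C.q.1
    rw [eq_top_iff, ← h3.commutator_eq_top]
    rw [commutator_def, Subgroup.commutator_le]
    intro x _ y _
    rw [MonoidHom.mem_ker, map_commutatorElement, commutatorElement_eq_one_iff_mul_comm]
    exact Subtype.ext (hSc _ (MonoidHom.transferSylow S hN x).2 _)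
  rw [h2] at h1
  have h4 : L ≤ OO L := by
    refine le_OO le_rfl le_normalizer ?_
    intro h5
    apply h1
    rwa [card_top]
  rw [hO, le_bot_iff] at h4
  subst h4
  exact C.not_comm fun x hx y hy => by rw [mem_bot.1 hx, mem_bot.1 hy]

end CompOf


/-- the situation of (O'): a component of `C(c)` which is not in `M_c` -/
structure OP [Finite G] (Om : Set (Subgroup G)) (c z : G) (L : Subgroup G) : Prop where
  u : U10 Om
  hc : c ∈ CC Om z
  C : CompOf (centralizer {c}) L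
  hO : OO L = ⊥
  nle : ¬ L ≤ MC u.w c z

namespace OP

variable [Finite G] {Om : Set (Subgroup G)} {K1 K2 L : Subgroup G} {c z t g m b : G} {a b' : Fin 3 → G}

theorem lc (O : OP Om c z L) {l : G} (hl : l ∈ L) : l * c = c * l :=
  mem_centralizer_singleton_iff.1 (O.C.le hl)

theorem zH (O : OP Om c z L) : z ∈ centralizer {c} := by
  rw [mem_centralizer_singleton_iff]
  exact (CC.comm_z O.u.w O.hc).symm

theorem z2 (O : OP Om c z L) : z * z = 1 := (CC.inZ O.hc).z2 O.u.w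

theorem z1 (O : OP Om c z L) : z ≠ 1 := (CC.inZ O.hc).z1 O.u.w

theorem del (O : OP Om c z L) (hd : DelC Om c z t) : OP Om c t L :=
  ⟨O.u, hd.mem_CC O.u.w O.hc, O.C, O.hO, by rw [← MC_eq_of_del O.u.w hd]; exact O.nle⟩

theorem mem_of_comm (O : OP Om c z L) {l : G} (hl : l ∈ L) (hz : l * z = z * l) : l ∈ MC O.u.w c z :=
  mem_MC_of_comm O.u.w (O.lc hl) hz

/-- `z` does not centralise `L` -/
theorem not_cent (O : OP Om c z L) (h1 : ∀ l ∈ L, l * z = z * l) : False :=
  O.nle fun _ hl => O.mem_of_comm hl (h1 _ hl)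

/-- `z` normalises `L` -/
theorem norm_z (O : OP Om c z L) : Cit.cj z L = L := by
  have h := O.u.w
  have hz2 := O.z2
  have hzi : z⁻¹ = z := inv_eq_of_mul_eq_one_right hz2
  rcases O.C.cj O.zH with h1 | h1
  · exact h1
  exfalso
  obtain ⟨P, hP, hPz, hR⟩ := exists_sylC h (CC.inZ O.hc) (CC.mem_CX O.hc)
  let N : Subgroup G :=
    { carrier := {x | x ∈ L ∧ ∀ l ∈ L, l * x * l⁻¹ ∈ MC h c z}
      one_mem' := ⟨L.one_mem, fun l _ => by rw [mul_one, mul_inv_cancel]; exact one_mem _⟩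
      mul_mem' := by
        rintro x y ⟨hx, hx'⟩ ⟨hy, hy'⟩
        refine ⟨L.mul_mem hx hy, fun l hl => ?_⟩
        have e : l * (x * y) * l⁻¹ = (l * x * l⁻¹) * (l * y * l⁻¹) := by group
        rw [e]; exact mul_mem (hx' l hl) (hy' l hl)
      inv_mem' := by
        rintro x ⟨hx, hx'⟩
        refine ⟨L.inv_mem hx, fun l hl => ?_⟩
        have e : l * x⁻¹ * l⁻¹ = (l * x * l⁻¹)⁻¹ := by group
        rw [e]; exact inv_mem (hx' l hl) }
  have hNm : ∀ x, x ∈ N ↔ x ∈ L ∧ ∀ l ∈ L, l * x * l⁻¹ ∈ MC h c z := fun x => Iff.rfl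
  have hNL : N ≤ L := fun x hx => hx.1
  have hNn : L ≤ normalizer (N : Set G) := by
    intro y hy
    rw [mem_normalizer_iff_cj]
    have key : ∀ y ∈ L, Cit.cj y N ≤ N := by
      intro y hy x hx
      rw [mem_cj, hNm] at hx
      refine ⟨?_, fun l hl => ?_⟩
      · have h2 := mul_mem (mul_mem hy hx.1) (inv_mem hy)
        have e : y * (y⁻¹ * x * y) * y⁻¹ = x := by group
        rwa [e] at h2
      · have h2 := hx.2 (l * y) (mul_mem hl hy)
        have e : l * y * (y⁻¹ * x * y) * (l * y)⁻¹ = l * x * l⁻¹ := by group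
        rwa [e] at h2
    refine le_antisymm (key y hy) ?_
    have h2 := cj_mono y (key y⁻¹ (inv_mem hy))
    rwa [cj_cj_inv] at h2
  have hT : P ⊓ L ≤ N := by
    rintro t ⟨htP, htL⟩
    refine ⟨htL, fun l hl => ?_⟩
    have hl' : z * l * z⁻¹ ∈ Cit.cj z L := conj_mem_cj hl
    have h2 := h1 _ hl' _ hl
    have h3 := h1 _ hl' _ htL
    have hd : l * (z * l * z⁻¹) ∈ MC h c z := by
      refine mem_MC_of_comm h ?_ ?_
      · have h4 := O.lc hl
        have h5 : z * c = c * z := mem_centralizer_singleton_iff.1 O.zH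
        have h6 : l * (z * l * z⁻¹) ∈ centralizer {c} := by
          have h7 := O.C.le hl
          exact mul_mem h7 (mul_mem (mul_mem O.zH h7) (inv_mem O.zH))
        exact mem_centralizer_singleton_iff.1 h6
      · calc l * (z * l * z⁻¹) * z = l * z * l := by group
          _ = (z * z) * (l * z * l) := by rw [hz2, one_mul]
          _ = z * ((z * l * z⁻¹) * (z * z) * l) := by group
          _ = z * ((z * l * z⁻¹) * l) := by rw [hz2, mul_one]
          _ = z * (l * (z * l * z⁻¹)) := by rw [h2]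
    have ht : t ∈ MC h c z := mem_MC_of_comm h (mem_centralizer_singleton_iff.1 (hP.1 htP)) (hPz t htP)
    have e : l * t * l⁻¹ = (l * (z * l * z⁻¹)) * t * (l * (z * l * z⁻¹))⁻¹ := by
      calc l * t * l⁻¹ = l * (t * (z * l * z⁻¹)) * (z * l * z⁻¹)⁻¹ * l⁻¹ := by group
        _ = l * ((z * l * z⁻¹) * t) * (z * l * z⁻¹)⁻¹ * l⁻¹ := by rw [h3]
        _ = _ := by group
    rw [e]
    exact mul_mem (mul_mem hd ht) (inv_mem hd)
  rcases O.C.eq_or_le hNL hNn with h2 | h2
  · apply O.nle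
    intro l hl
    rw [← h2] at hl
    have h3 := hl.2 1 (one_mem _)
    rwa [one_mul, inv_one, mul_one] at h3
  · exact O.C.not_central O.hO (O.C.syl_inf hP) fun t ht l hl => h2 t (hT ht) l hl

theorem mul_conj_mem (O : OP Om c z L) (hg : g ∈ L) : z * (g * z * g⁻¹) ∈ L := by
  have hzi : z⁻¹ = z := inv_eq_of_mul_eq_one_right O.z2
  have h1 : z * g * z⁻¹ ∈ L := by
    have h2 := conj_mem_cj (g := z) hg
    rwa [O.norm_z] at h2
  have e : z * (g * z * g⁻¹) = (z * g * z⁻¹) * g⁻¹ := by rw [hzi]; group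
  rw [e]
  exact mul_mem h1 (inv_mem hg)

/-- Z* in `L⟨z⟩` -/
theorem exists_g (O : OP Om c z L) : ∃ g ∈ L, g * z * g⁻¹ ≠ z ∧ z * (g * z * g⁻¹) = g * z * g⁻¹ * z := by
  have hn : zpowers z ≤ normalizer (L : Set G) := by
    rw [zpowers_le, mem_normalizer_iff_cj]; exact O.norm_z
  rcases zstar_sub (X := L ⊔ zpowers z) (u := z) (mem_sup_right (mem_zpowers z)) O.z2 O.z1 with
    ⟨x, hx, hne, hc⟩ | ⟨N, hNX, hodd, hNn, hN⟩
  · obtain ⟨y, hy, u, hu, rfl⟩ := LB.exists_mul_of_mem_sup hn hx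
    have h1 : y * u * z * (y * u)⁻¹ = y * z * y⁻¹ := by
      obtain ⟨k, rfl⟩ := mem_zpowers_iff.1 hu
      calc y * z ^ k * z * (y * z ^ k)⁻¹ = y * (z ^ k * z * (z ^ k)⁻¹) * y⁻¹ := by group
        _ = _ := by rw [((Commute.refl z).zpow_left k).eq, mul_inv_cancel_right]
    rw [h1] at hne hc
    exact ⟨y, hy, hne, hc⟩
  · exfalso
    have h1 : N ⊓ L = ⊥ := by
      rw [eq_bot_iff, ← O.hO]
      refine le_OO inf_le_right ?_ ?_
      · intro g hg
        rw [mem_normalizer_iff_cj, cj_inf, mem_normalizer_iff_cj.1 (le_normalizer hg)]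
        congr 1
        refine le_antisymm ?_ ?_
        · rintro _ ⟨n, hn, rfl⟩
          exact hNn g (mem_sup_left hg) n hn
        · intro n hn
          rw [mem_cj]
          have h2 := hNn g⁻¹ (mem_sup_left (L.inv_mem hg)) n hn
          rwa [inv_inv] at h2
      · intro h2
        rw [← Nat.not_even_iff_odd, even_iff_two_dvd] at hodd
        exact hodd (h2.trans (card_dvd_of_le inf_le_left))
    apply O.not_cent
    intro l hl
    have h2 : z * l * z⁻¹ * l⁻¹ ∈ N ⊓ L := by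
      refine ⟨hN l (mem_sup_left hl), L.mul_mem ?_ (L.inv_mem hl)⟩
      have h2 := conj_mem_cj (g := z) hl
      rwa [O.norm_z] at h2
    rw [h1, mem_bot, mul_inv_eq_one, mul_inv_eq_iff_eq_mul] at h2
    exact h2.symm

/-- `M_c` normalises `L` -/
theorem norm (O : OP Om c z L) (hm : m ∈ MC O.u.w c z) : Cit.cj m L = L := by
  obtain ⟨g, hg, hne, hc⟩ := O.exists_g
  rcases O.C.cj (MC_le O.u.w hm) with h1 | h1
  · exact h1
  exfalso
  have hgc := O.lc hg
  have h2 : c ∈ CC Om (g * z * g⁻¹) := by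
    have h3 := CC.conj O.u.w O.hc g
    rwa [hgc, mul_inv_cancel_right] at h3
  apply O.nle
  intro l hl
  have h3 : m * l * m⁻¹ ∈ MC O.u.w c z := by
    refine O.u.factP O.hc h2 hne.symm hc ?_ ?_
    · have h4 : m * l * m⁻¹ ∈ centralizer {c} :=
        mul_mem (mul_mem (MC_le O.u.w hm) (O.C.le hl)) (inv_mem (MC_le O.u.w hm))
      exact mem_centralizer_singleton_iff.1 h4
    · exact h1 _ (conj_mem_cj hl) _ (O.mul_conj_mem hg)
  have h4 := mul_mem (mul_mem (inv_mem hm) h3) hm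
  have e : m⁻¹ * (m * l * m⁻¹) * m = l := by group
  rwa [e] at h4

/-- `Δ_c ≤ L` -/
theorem mem (O : OP Om c z L) (hd : DelC Om c z b) : b ∈ L := by
  have h := O.u.w
  have O' := O.del hd
  obtain ⟨K, hK⟩ := CC.inZ O'.hc
  by_contra hb
  have h1 : L ≤ centralizer {zz K} := by
    refine h.hyp.lemma_two (fun L hL => h.isPGroup hL) hK.1 ?_ O.hO (by rwa [hK.2])
    intro k hk
    rw [mem_normalizer_iff_cj]
    exact O.norm (RZ_le_MC h O.hc hd (hK.le_RZ hk))
  apply O'.not_cent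
  intro l hl
  have h2 := mem_centralizer_singleton_iff.1 (h1 hl)
  rwa [hK.2] at h2

theorem zL (O : OP Om c z L) : z ∈ L := O.mem (DelC.refl c z)

theorem cent_mem (O : OP Om c z L) {x : G} (hx : x ∈ L) (hx' : ∀ l ∈ L, x * l = l * x) : x ∈ MC O.u.w c z :=
  O.mem_of_comm hx (hx' z O.zL)

theorem not_cen_prod (O : OP Om c z L) (ht : c ∈ CC Om t) (hne : z ≠ t) (hzt : z * t = t * z)
    (h1 : ∀ l ∈ L, l * (z * t) = z * t * l) : False :=
  O.nle fun l hl => O.u.factP O.hc ht hne hzt (O.lc hl) (h1 l hl)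

theorem pi_one {x : ↥L} (h : QuotientGroup.mk' (center ↥L) x = 1) : ∀ l ∈ L, (x : G) * l = l * x := by
  have h1 := (QuotientGroup.eq_one_iff _).1 h
  intro l hl
  exact (congrArg Subtype.val (mem_center_iff.1 h1 ⟨l, hl⟩)).symm

theorem pi_eq {x y : ↥L} (h : QuotientGroup.mk' (center ↥L) x = QuotientGroup.mk' (center ↥L) y) :
    ∀ l ∈ L, (x : G) * (y : G)⁻¹ * l = l * ((x : G) * (y : G)⁻¹) := by
  have h1 : QuotientGroup.mk' (center ↥L) (x * y⁻¹) = 1 := by rw [map_mul, map_inv, h, mul_inv_cancel]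
  exact pi_one h1

theorem pi_z (O : OP Om c z L) (hz : z ∈ L) : QuotientGroup.mk' (center ↥L) ⟨z, hz⟩ ≠ 1 := by
  intro h1
  exact O.not_cent fun l hl => (pi_one h1 l hl).symm

theorem order_pi (O : OP Om c z L) (hz : z ∈ L) : orderOf (QuotientGroup.mk' (center ↥L) ⟨z, hz⟩) = 2 := by
  refine orderOf_eq_prime ?_ (O.pi_z hz)
  rw [pow_two, ← map_mul]
  have e : (⟨z, hz⟩ : ↥L) * ⟨z, hz⟩ = 1 := Subtype.ext O.z2
  rw [e, map_one]

theorem conj_CC (O : OP Om c z L) (hg : g ∈ L) : c ∈ CC Om (g * z * g⁻¹) := by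
  have h3 := CC.conj O.u.w O.hc g
  rwa [O.lc hg, mul_inv_cancel_right] at h3

/-- S1175 -/
theorem exists_se (O : OP Om c z L) (hcrit : CloEnd.Crit1175 (↥L ⧸ center ↥L)) :
    ∃ H : Subgroup (↥L ⧸ center ↥L), IsStronglyEmbedded H := by
  haveI : Fact (Nat.Prime 2) := ⟨Nat.prime_two⟩
  have h := O.u.w
  have hzL := O.zL
  have hz2 := O.z2
  have hzi : z⁻¹ = z := inv_eq_of_mul_eq_one_right hz2
  set π := QuotientGroup.mk' (center ↥L) with hπ
  have hsur : Function.Surjective π := QuotientGroup.mk'_surjective _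
  set M := (MC O.u.w c z).subgroupOf L with hM
  have hmem : ∀ d : ↥L, π d ∈ M.map π → (d : G) ∈ MC O.u.w c z := by
    rintro d ⟨m, hm, hmd⟩
    have h1 := pi_eq hmd.symm
    have h2 := O.cent_mem (mul_mem d.2 (inv_mem m.2)) h1
    have e : (d : G) = (d : G) * (m : G)⁻¹ * m := by group
    rw [e]
    exact mul_mem h2 hm
  obtain ⟨P, hP, hPz, hR⟩ := exists_sylC h (CC.inZ O.hc) (CC.mem_CX O.hc)
  obtain ⟨S, hS⟩ := (O.C.syl_inf hP).exists_sylow
  have hzP : z ∈ P := by
    obtain ⟨K, hK⟩ := CC.inZ O.hc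
    exact hR (hK.le_RZ (by rw [← hK.2]; exact h.hyp.zz_mem hK.1))
  refine hcrit (M.map π) ?_ (π ⟨z, hzL⟩) (O.order_pi hzL) ⟨⟨z, hzL⟩, mem_MC_of_comm h (CC.comm_z h O.hc).symm rfl, rfl⟩ ?_ ?_ ?_
  · intro h1
    apply O.nle
    intro l hl
    exact hmem ⟨l, hl⟩ (by rw [h1]; exact mem_top _)
  · refine ⟨S.mapSurjective hsur, ?_, ?_⟩
    · show π ⟨z, hzL⟩ ∈ ((S.mapSurjective hsur : Sylow 2 _) : Subgroup _)
      rw [Sylow.coe_mapSurjective]
      refine ⟨⟨z, hzL⟩, ?_, rfl⟩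
      show _ ∈ (S : Subgroup ↥L)
      rw [hS]
      exact ⟨hzP, hzL⟩
    · intro s hs
      have hs' : s ∈ (S : Subgroup ↥L).map π := by
        rw [← Sylow.coe_mapSurjective hsur S]; exact hs
      obtain ⟨t, ht, rfl⟩ := hs'
      have ht' : t ∈ (S : Subgroup ↥L) := ht
      rw [hS] at ht'
      show π t * π ⟨z, hzL⟩ = π ⟨z, hzL⟩ * π t
      rw [← map_mul, ← map_mul]
      congr 1
      exact Subtype.ext (hPz _ ht'.1)
  · intro g hg
    obtain ⟨d, rfl⟩ := hsur g
    rw [← map_inv, ← map_mul, ← map_mul] at hg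
    have h1 := hmem _ hg
    exact ⟨d, O.u.mem_MC_of_conj O.hc (DelC.refl _ _) (O.lc d.2) h1, rfl⟩
  · intro g hg hne y hy
    obtain ⟨d, rfl⟩ := hsur g
    obtain ⟨x, rfl⟩ := hsur y
    rw [← map_inv, ← map_mul, ← map_mul] at hg hne hy
    rw [mem_centralizer_singleton_iff] at hy
    have hcb := O.conj_CC d.2
    have hbL : (d : G) * z * (d : G)⁻¹ ∈ L := mul_mem (mul_mem d.2 hzL) (inv_mem d.2)
    set b := (d : G) * z * (d : G)⁻¹ with hb
    have hbd : d * ⟨z, hzL⟩ * d⁻¹ = (⟨b, hbL⟩ : ↥L) := rfl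
    rw [hbd] at hg hne hy
    have hzb : z ≠ b := by
      intro h1
      apply hne
      congr 1
      exact Subtype.ext h1.symm
    by_cases hc : z * b = b * z
    · -- commuting
      refine ⟨x, ?_, rfl⟩
      have h1 : π (x * (⟨z, hzL⟩ * ⟨b, hbL⟩)) = π ((⟨z, hzL⟩ * ⟨b, hbL⟩) * x) := by
        rw [map_mul, map_mul, map_mul, map_mul]
        exact hy
      -- `ζ = x (z b) x⁻¹ (z b)⁻¹` is central
      have h2 := pi_eq h1
      have hζL : (x : G) * (z * b) * (z * b * (x : G))⁻¹ ∈ L :=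
        mul_mem (mul_mem x.2 (mul_mem hzL hbL)) (inv_mem (mul_mem (mul_mem hzL hbL) x.2))
      have hζ := O.cent_mem hζL h2
      have hxc : (x : G) * c = c * x := O.lc x.2
      have hxi : (x : G)⁻¹ * c = c * (x : G)⁻¹ := by
        rw [inv_mul_eq_iff_eq_mul, ← mul_assoc, hxc, mul_inv_cancel_right]
      rcases O.u.prod_del O.hc hcb hzb hc with h3 | h3
      · refine O.u.mem_MC_of_conj O.hc h3 hxc ?_
        show (x : G) * (z * b) * (x : G)⁻¹ ∈ _
        have e : (x : G) * (z * b) * (x : G)⁻¹ = (x : G) * (z * b) * (z * b * (x : G))⁻¹ * (z * b) := by group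
        rw [e]
        exact mul_mem hζ (del_mem_MC h O.hc h3)
      · refine O.u.mem_MC_of_conj O.hc h3 hxc ?_
        show (x : G) * (z * b * c) * (x : G)⁻¹ ∈ _
        have e : (x : G) * (z * b * c) * (x : G)⁻¹ = (x : G) * (z * b) * (z * b * (x : G))⁻¹ * (z * b * c) := by
          calc (x : G) * (z * b * c) * (x : G)⁻¹ = (x : G) * (z * b) * (c * (x : G)⁻¹) := by group
            _ = (x : G) * (z * b) * ((x : G)⁻¹ * c) := by rw [hxi]
            _ = _ := by group
        rw [e]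
        exact mul_mem hζ (del_mem_MC h O.hc h3)
    · exfalso
      have h1 : π (⟨z, hzL⟩ * ⟨b, hbL⟩) = π (⟨b, hbL⟩ * ⟨z, hzL⟩) := by
        rw [map_mul, map_mul]
        exact hg
      have h2 := pi_eq h1
      have h3 : z * (b * z * b⁻¹) = z * b * (b * z)⁻¹ := by
        calc z * (b * z * b⁻¹) = z * b * z * b⁻¹ := by group
          _ = z * b * z⁻¹ * b⁻¹ := by rw [hzi]
          _ = _ := by group
      have hne' : z ≠ b * z * b⁻¹ := by
        intro h4
        apply hc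
        rw [eq_mul_inv_iff_mul_eq] at h4
        exact h4
      refine O.not_cen_prod (O.conj_CC hbL) hne' ?_ ?_
      · have h4 : z * (b * z * b⁻¹) * z = z * (z * (b * z * b⁻¹)) := by
          rw [h3]; exact h2 z hzL
        rw [mul_assoc] at h4
        exact (mul_left_cancel h4).symm
      · intro l hl
        rw [h3]
        exact (h2 l hl).symm

/-- one class of involutions -/
theorem exists_conj (O : OP Om c z L) {H : Subgroup (↥L ⧸ center ↥L)} (hH : IsStronglyEmbedded H)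
    (hd : DelC Om c z b) : ∃ d ∈ L, d * z * d⁻¹ = b := by
  have hzL := O.zL
  have hbL := O.mem hd
  have O' := O.del hd
  obtain ⟨g, hg⟩ := isConj_iff.1 (Cfsg.Agent.TwoFusion.StronglyEmbeddedBasic.isConj_of_involutions hH _ _
    (O.order_pi hzL) (O'.order_pi hbL))
  obtain ⟨d, rfl⟩ := QuotientGroup.mk'_surjective _ g
  rw [← map_mul, ← map_inv, ← map_mul] at hg
  have h1 := pi_eq hg
  refine ⟨d, d.2, ?_⟩
  by_contra hne
  have h2 : b * ((d : G) * z * (d : G)⁻¹) = (d : G) * z * (d : G)⁻¹ * b := by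
    have h3 := h1 b hbL
    change (d : G) * z * (d : G)⁻¹ * b⁻¹ * b = b * ((d : G) * z * (d : G)⁻¹ * b⁻¹) at h3
    have h4 : b * ((d : G) * z * (d : G)⁻¹ * b⁻¹) * b = (d : G) * z * (d : G)⁻¹ * b⁻¹ * b * b := by rw [h3]
    calc b * ((d : G) * z * (d : G)⁻¹) = b * ((d : G) * z * (d : G)⁻¹ * b⁻¹) * b := by group
      _ = (d : G) * z * (d : G)⁻¹ * b⁻¹ * b * b := h4
      _ = _ := by group
  refine O'.not_cen_prod (O.conj_CC d.2) (Ne.symm hne) h2 ?_
  intro l hl
  have h3 := h1 l hl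
  change (d : G) * z * (d : G)⁻¹ * b⁻¹ * l = l * ((d : G) * z * (d : G)⁻¹ * b⁻¹) at h3
  have h5 : b * ((d : G) * z * (d : G)⁻¹) = (d : G) * z * (d : G)⁻¹ * b⁻¹ := by
    have hbi : b⁻¹ = b := inv_eq_of_mul_eq_one_right O'.z2
    rw [hbi, h2]
  rw [h5]
  exact h3.symm

theorem norm_mem (O : OP Om c z L) {r l : G} (hr : r ∈ RZ Om z) (hl : l ∈ L) : r * l * r⁻¹ ∈ L := by
  have h1 := O.norm (RZ_le_MC O.u.w O.hc (DelC.refl c z) hr)
  have h2 := conj_mem_cj (g := r) hl
  rwa [h1] at h2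

/-- `R_z` and its conjugates under `L` commute modulo `L` -/
theorem comm_mem (O : OP Om c z L) (F : Frame Om z K1 K2 a b') {d r x : G} (hd : d ∈ L) (hr : r ∈ RZ Om z)
    (hx : x ∈ RZ Om z) (hrx : r * x * r⁻¹ = x ∨ r * x * r⁻¹ = z * x) :
    (d * r * d⁻¹) * x * (d * r * d⁻¹)⁻¹ * x⁻¹ ∈ L := by
  have h1 : d⁻¹ * (x * d * x⁻¹) ∈ L := mul_mem (inv_mem hd) (O.norm_mem hx hd)
  have h2 := O.norm_mem hr h1
  have h3 : r * x * r⁻¹ * x⁻¹ ∈ L := by
    rcases hrx with h4 | h4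
    · rw [h4, mul_inv_cancel]; exact one_mem _
    · rw [h4, mul_inv_cancel_right]; exact O.zL
  have h4 := O.norm_mem hx (inv_mem hd)
  have e : (d * r * d⁻¹) * x * (d * r * d⁻¹)⁻¹ * x⁻¹ =
      d * (r * (d⁻¹ * (x * d * x⁻¹)) * r⁻¹) * (r * x * r⁻¹ * x⁻¹) * (x * d⁻¹ * x⁻¹) := by group
  rw [e]
  exact mul_mem (mul_mem (mul_mem hd h2) h3) h4

/-- the axis of a line over `c` is in `L` -/
theorem a_mem (O : OP Om c z L) {H : Subgroup (↥L ⧸ center ↥L)} (hH : IsStronglyEmbedded H)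
    (F : Frame Om z K1 K2 a b') {s : G} (l : Lab Om z s c) {p : Fin 3 × Fin 3}
    (hp : Dir z a b' (s * c) p.1 p.2) : a p.1 ∈ L ∧ b' p.2 ∈ L := by
  have h := O.u.w
  obtain ⟨d, hd, hds⟩ := O.exists_conj hH l.del
  obtain ⟨th, -, hz, -, ⟨L1, hL1, hth⟩, ha, hb, -⟩ := l.exists_theta h F hp
  have hr : d⁻¹ * th * d ∈ RZ Om z := by
    have h1 := RZ_conj h d⁻¹ (hL1.le_RZ hth)
    rw [inv_inv, ← hds] at h1
    have e : d⁻¹ * (d * z * d⁻¹) * d = z := by group
    rwa [e] at h1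
  have hdr : d * (d⁻¹ * th * d) * d⁻¹ = th := by group
  have hinn := Inn.of_RZ (CC.inZ O.hc) h hr
  have key : ∀ {K : Subgroup G} {x : Fin 3 → G} {i : Fin 3}, Mem Om z K → Q3 K z x → Act z x x th (rf i) →
      x i ∈ L := by
    intro K x i hK q hA
    have h1 := O.comm_mem F hd hr (hK.le_RZ (q.mem (i + 1))) (hinn K hK _ (q.mem (i + 1)))
    rw [hdr] at h1
    have h2 : rf i (i + 1) = i + 2 := by rw [rf, Equiv.swap_apply_left]
    have h3 := hA (i + 1)
    rw [h2] at h3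
    have h4 : x (i + 2) * (x (i + 1))⁻¹ ∈ L := by
      rcases h3 with h5 | h5
      · rwa [h5] at h1
      · rw [h5] at h1
        have h6 := mul_mem O.zL h1
        rwa [mul_assoc, q.zzx] at h6
    rw [q.inv, ← mul_assoc, ← q.zc, mul_assoc, q.mul21, q.zzx] at h4
    exact h4
  exact ⟨key F.k1 F.qa ha, key F.k2 F.qb hb⟩

theorem k_le (O : OP Om c z L) {H : Subgroup (↥L ⧸ center ↥L)} (hH : IsStronglyEmbedded H)
    (F : Frame Om z K1 K2 a b') : K1 ≤ L ∧ K2 ≤ L := by
  have h := O.u.w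
  obtain ⟨s, l⟩ := O.hc
  obtain ⟨-, i, j, -, -, -, -, hd1, -⟩ := l.theta h F
  have hp : ((i, j) : Fin 3 × Fin 3) ∈ DC Om z a b' c := ⟨s, l, hd1⟩
  have key : ∀ p : Fin 3 × Fin 3, p ∈ DC Om z a b' c → a p.1 ∈ L ∧ b' p.2 ∈ L := by
    rintro p ⟨s, l, hs⟩
    exact O.a_mem hH F l hs
  rcases O.u.diag F c _ hp with h1 | h1
  · have h2 := key _ (h1 0)
    have h3 := key _ (h1 1)
    refine ⟨F.qa.le_of_mem ?_ h2.1 h3.1, F.qb.le_of_mem ?_ h2.2 h3.2⟩
    · simp
    · simp
  · have h2 := key _ (h1 0)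
    have h3 := key _ (h1 1)
    refine ⟨F.qa.le_of_mem ?_ h2.1 h3.1, F.qb.le_of_mem ?_ h2.2 h3.2⟩
    · simp
    · show j - 0 ≠ j - 1
      clear h1 h2 h3 hp hd1
      revert j; decide

theorem false (O : OP Om c z L) (hcrit : CloEnd.Crit1175 (↥L ⧸ center ↥L)) (hbend : CloEnd.Bend (↥L ⧸ center ↥L)) :
    False := by
  have h := O.u.w
  obtain ⟨H, hH⟩ := O.exists_se hcrit
  obtain ⟨K1, K2, a, b, F⟩ := (CC.inZ O.hc).exists_frame h
  obtain ⟨hK1, hK2⟩ := O.k_le hH F
  have hR : IsPGroup 2 (RZ Om z) := isPGroup_RZ h (CC.inZ O.hc)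
  set π := QuotientGroup.mk' (center ↥L) with hπ
  have hnc : ∀ {K : Subgroup G} {x : Fin 3 → G}, Q3 K z x → (hK : K ≤ L) →
      ∃ u ∈ (K.subgroupOf L).map π, ∃ v ∈ (K.subgroupOf L).map π, u * v ≠ v * u := by
    intro K x q hK
    refine ⟨π ⟨x 0, hK (q.mem 0)⟩, ⟨⟨x 0, hK (q.mem 0)⟩, q.mem 0, rfl⟩, π ⟨x 1, hK (q.mem 1)⟩,
      ⟨⟨x 1, hK (q.mem 1)⟩, q.mem 1, rfl⟩, ?_⟩
    rw [← map_mul, ← map_mul]
    intro h1
    have h2 := pi_eq h1
    have e : x 0 * x 1 * (x 1 * x 0)⁻¹ = z := by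
      have h3 : x 0 * x 1 = z * x 1 * x 0 := q.anti (by decide)
      rw [h3]; group
    apply O.not_cent
    intro l hl
    have h3 := h2 l hl
    change x 0 * x 1 * (x 1 * x 0)⁻¹ * l = l * (x 0 * x 1 * (x 1 * x 0)⁻¹) at h3
    rw [e] at h3
    exact h3.symm
  refine CloBen.false_of_concl (hbend H hH) (P := ((RZ Om z).subgroupOf L).map π)
    (Q := (K1.subgroupOf L).map π) (R := (K2.subgroupOf L).map π) (hR.comap_subtype.map π) ?_ ?_ ?_
    (hnc F.qa hK1) (hnc F.qb hK2)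
  · exact Subgroup.map_mono (comap_mono F.k1.le_RZ)
  · exact Subgroup.map_mono (comap_mono F.k2.le_RZ)
  · rintro _ ⟨u, hu, rfl⟩ _ ⟨v, hv, rfl⟩
    rw [← map_mul, ← map_mul]
    congr 1
    exact Subtype.ext (F.k1.comm F.k2 h F.ne hu hv)

end OP

/-- `O(L) = 1` for the components of a group with `O(H) = 1` -/
theorem CompOf.OO_eq_bot [Finite G] {H L : Subgroup G} (C : CompOf H L) (hO : OO H = ⊥) : OO L = ⊥ := by
  rw [eq_bot_iff, ← hO]
  refine LB.le_OO_of_subnormal ((OO_le L).trans C.le) ?_ (odd_OO L)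
  refine Cfsg.Agent.FixBN.SylSub.subnormal_trans (OO_le L) C.le ?_ C.sub
  intro h hh a ha
  have h1 := LB.cj_OO_eq (mem_normalizer_iff_cj.1 (le_normalizer hh) : Cit.cj h L = L)
  rw [← h1]
  exact conj_mem_cj ha

/-- **(O')** -/
theorem U10.comp_le [Finite G] {Om : Set (Subgroup G)} {c z : G} {L : Subgroup G} (U : U10 Om) (hc : c ∈ CC Om z)
    (C : CompOf (centralizer {c}) L) (hO : OO (centralizer {c}) = ⊥)
    (hcrit : CloEnd.Crit1175 (↥L ⧸ center ↥L)) (hbend : CloEnd.Bend (↥L ⧸ center ↥L)) : L ≤ MC U.w c z := by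
  by_contra hn
  exact (⟨U, hc, C, C.OO_eq_bot hO, hn⟩ : OP Om c z L).false hcrit hbend

/-- a component of the group `H` -/
theorem CompOf.of_isComponent {H : Subgroup G} {L : Subgroup ↥H} (hL : IsComponent L) : CompOf H (L.map H.subtype) where
  le := map_subtype_le L
  sub := by
    have e : (L.map H.subtype).subgroupOf H = L := comap_map_eq_self_of_injective H.subtype_injective L
    rw [e]; exact hL.1
  q := Cfsg.Agent.SignalizersComponents.QsBasic.isQuasisimple_of_mulEquiv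
    (L.equivMapOfInjective H.subtype H.subtype_injective) hL.2

universe u

/-- **(O')** for all components -/
theorem U10.comp_le' {G : Type u} [Group G] [Finite G] {Om : Set (Subgroup G)} {c z : G}
    (hB : ∀ (X : Type u) [Group X] [Finite X] [IsSimpleGroup X], CloEnd.Bend X)
    (hC : ∀ (X : Type u) [Group X] [Finite X] [IsSimpleGroup X], CloEnd.Crit1175 X) (U : U10 Om) (hc : c ∈ CC Om z)
    (hO : OO (centralizer {c}) = ⊥) (L : Subgroup (centralizer {c})) (hL : IsComponent L) :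
    L.map (centralizer {c}).subtype ≤ MC U.w c z := by
  have C := CompOf.of_isComponent hL
  haveI := C.q.2
  exact U.comp_le hc C hO (hC _) (hB _)

end Cfsg.Agent.Cit.Nil.RTwo

private theorem dce_3c78d6ebad0b : _root_.True := by
  try have : _root_.True := by simp only [_root_.Cfsg.Agent.Cit.Nil.RTwo.rf.eq_1]
  exact _root_.True.intro
end

-- part: Cit/Nil/Ind/Quo
section
prune_inst 0x100041004400000000000000000004001000000000000000004000000108800100000000300002001100a02000080000010000090000000020000200400000000000228010400000000000008801180c00000000000000000000000000000000000000000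
set_option linter.all false
open scoped Cfsg.Agent.FastGrp

/-!
# The frame of S1309, step (c): the quotient by the centre (helper500 #18448)

* `cm_of_map` : members which commute modulo a central subgroup commute;
* `exists_compl` : `Z ≤ Z(Y)` a 2-group with `|Y : Z|` odd has a normal complement;
* `three_lift` : `Three (K.map f) → Three K`;
* `quo` : ONE or THREE, if `F*(G) = L Z(G)`, `L` quasisimple.
-/

set_option autoImplicit false
set_option linter.style.haveILetI false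
set_option linter.unusedSectionVars false
set_option maxHeartbeats 400000

namespace Cfsg.Agent.Cit.Nil.Ind

open Subgroup Cfsg Cit IndDefs RTwo Three

universe u

section

variable {G G' : Type*} [Group G] [Group G'] [Finite G] {f : G →* G'} {Om : Set (Subgroup G)} {K L : Subgroup G}

/-- members which commute modulo a central subgroup commute -/
theorem cm_of_map (h : H8 Om) (hC : f.ker ≤ center G) (hKC : ∀ K ∈ Om, K ⊓ f.ker = ⊥) (hK : K ∈ Om) (hL : L ∈ Om)
    (hc : Cm (K.map f) (L.map f)) : Cm K L := by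
  -- `[K, L] ≤ ker`
  have hker : ∀ k ∈ K, ∀ l ∈ L, k * l * k⁻¹ * l⁻¹ ∈ f.ker := by
    intro k hk l hl
    have h1 := hc (f k) ⟨k, hk, rfl⟩ (f l) ⟨l, hl, rfl⟩
    rw [MonoidHom.mem_ker, map_mul, map_mul, map_mul, h1, map_inv, map_inv]
    group
  have hnor : ∀ {K L : Subgroup G}, K ∈ Om → L ∈ Om → (∀ k ∈ K, ∀ l ∈ L, k * l * k⁻¹ * l⁻¹ ∈ f.ker) →
      K ≤ normalizer (L : Set G) := by
    intro K L hK hL hker
    obtain ⟨x, hx⟩ := h.exists_q3 hK
    have key : ∀ i, x i ∈ normalizer (L : Set G) := by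
      intro i
      have h2 : IsPGroup 2 (zpowers (x i)) := (h.isPGroup hK).to_le (zpowers_le.2 (hx.mem i))
      have h4 : 4 ≤ orderOf (x i) := by
        have h5 : orderOf (x i) = 2 ^ (1 + 1) := by
          refine orderOf_eq_prime_pow ?_ ?_
          · rw [pow_one, pow_two, hx.sq]; exact hx.z1
          · rw [show (2 : ℕ) ^ (1 + 1) = 2 * 2 from rfl, pow_mul, pow_two (x i), hx.sq, pow_two, hx.z2]
        rw [h5]; norm_num
      refine h.hyp.h3 K hK L hL (x i) (hx.mem i) h2 h4 ?_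
      exact QuoCen.comm_of_central h.hyp hK hL hC (hKC K hK) (hx.mem i) h2 h4
        (hker _ (hx.mem i) _ (h.hyp.zz_mem hL))
    exact hx.le_of_mem (i := 0) (j := 1) (by decide) (key 0) (key 1)
  have hKL := hnor hK hL hker
  have hLK := hnor hL hK (fun l hl k hk => by
    have h1 := inv_mem (hker k hk l hl)
    have e : (k * l * k⁻¹ * l⁻¹)⁻¹ = l * k * l⁻¹ * k⁻¹ := by group
    rwa [e] at h1)
  intro k hk l hl
  have h1 : k * l * k⁻¹ * l⁻¹ ∈ K ⊓ f.ker := by
    refine ⟨?_, hker k hk l hl⟩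
    have h2 : l * k⁻¹ * l⁻¹ ∈ K := (mem_normalizer_iff.1 (hLK hl) _).1 (K.inv_mem hk)
    have e : k * l * k⁻¹ * l⁻¹ = k * (l * k⁻¹ * l⁻¹) := by group
    rw [e]; exact mul_mem hk h2
  rw [hKC K hK, mem_bot, mul_inv_eq_one, mul_inv_eq_iff_eq_mul] at h1
  exact h1

/-- a central 2-subgroup of odd index has a normal complement -/
theorem exists_compl {Y : Type*} [Group Y] [Finite Y] {Z : Subgroup Y} (hZ : Z ≤ center Y) (h2 : IsPGroup 2 Z)
    (ho : ¬ 2 ∣ Z.index) : ∃ N : Subgroup Y, N.Normal ∧ N ⊓ Z = ⊥ ∧ ∀ y, ∃ n ∈ N, ∃ z ∈ Z, y = n * z := by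
  haveI : Fact (Nat.Prime 2) := ⟨Nat.prime_two⟩
  haveI hZn : Z.Normal := ⟨fun z hz g => by
    rw [mem_center_iff.1 (hZ hz) g, mul_inv_cancel_right]; exact hz⟩
  have hcop : Nat.Coprime (Nat.card Z) Z.index := by
    obtain ⟨n, hn⟩ := IsPGroup.iff_card.1 h2
    rw [hn]
    exact Nat.Coprime.pow_left n ((Nat.Prime.coprime_iff_not_dvd Nat.prime_two).2 ho)
  obtain ⟨N, hN⟩ := exists_left_complement'_of_coprime hcop
  have hmul : ∀ y : Y, ∃ n ∈ N, ∃ z ∈ Z, y = n * z := by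
    intro y
    obtain ⟨⟨n, z⟩, h1⟩ := hN.surjective y
    exact ⟨n, n.2, z, z.2, h1.symm⟩
  refine ⟨N, ⟨?_⟩, hN.disjoint.eq_bot, hmul⟩
  intro n hn y
  obtain ⟨n', hn', z, hz, rfl⟩ := hmul y
  have h1 : z * n = n * z := (mem_center_iff.1 (hZ hz) n).symm
  have e : n' * z * n * (n' * z)⁻¹ = n' * (z * n * z⁻¹) * n'⁻¹ := by group
  rw [e, h1, mul_inv_cancel_right]
  exact mul_mem (mul_mem hn' hn) (inv_mem hn')

theorem q3_conj_mem {z k l : G} {x : Fin 3 → G} (hx : Q3 K z x) (hk : k ∈ K) (hl : l ∈ K) :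
    k * l * k⁻¹ = l ∨ k * l * k⁻¹ = z * l := by
  rcases hx.cov k hk with rfl | rfl | ⟨j, rfl | rfl⟩
  · left; group
  · left
    rcases hx.cov l hl with rfl | rfl | ⟨i, rfl | rfl⟩
    · group
    · group
    · rw [hx.zc, mul_inv_cancel_right]
    · rw [hx.zzx, hx.zinv, ← hx.zc]
  · exact q3_conj_cases hx hl j
  · have hzl : z * (x j * l * (x j)⁻¹) * z⁻¹ = x j * l * (x j)⁻¹ := by
      have hm : x j * l * (x j)⁻¹ ∈ K := mul_mem (mul_mem (hx.mem j) hl) (inv_mem (hx.mem j))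
      rcases hx.cov _ hm with h1 | h1 | ⟨i, h1 | h1⟩ <;> rw [h1]
      · group
      · group
      · rw [hx.zc, mul_inv_cancel_right]
      · rw [hx.zzx, hx.zinv, ← hx.zc]
    have e : z * x j * l * (z * x j)⁻¹ = z * (x j * l * (x j)⁻¹) * z⁻¹ := by group
    rw [e, hzl]
    exact q3_conj_cases hx hl j

/-- **lifting `Three` through a central 2-subgroup** -/
theorem three_lift (h : H8 Om) (hf : Function.Surjective f) (hC : f.ker ≤ center G) (h2 : IsPGroup 2 f.ker)
    (hKC : ∀ K ∈ Om, K ⊓ f.ker = ⊥) (hK : K ∈ Om) (h3 : IndDefs.Three (K.map f)) : IndDefs.Three K := by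
  haveI : Fact (Nat.Prime 2) := ⟨Nat.prime_two⟩
  haveI : Finite G' := Finite.of_surjective f hf
  obtain ⟨J', hJC', hKJ', hsub', ⟨e'⟩⟩ := h3
  have hz' : zz (K.map f) = f (zz K) := QuoCen.zz_map_of_inf h.hyp hK (hKC K hK)
  obtain ⟨x, hx⟩ := h.exists_q3 hK
  have hH := QuoCen.hyp_img_central h.hyp hf hC hKC
  have hK' : K.map f ∈ img f Om := ⟨K, hK, rfl⟩
  have hcen : ∀ c ∈ f.ker, ∀ g : G, g * c = c * g := fun c hc g => mem_center_iff.1 (hC hc) g
  have hcardK' : Nat.card (K.map f) = 8 := by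
    rw [← Nat.card_congr (QuoCen.equivMap (hKC K hK)).toEquiv, h.card K hK]
  -- the order of `J'`
  have h16 : ¬ 16 ∣ Nat.card J' := by
    intro h16
    have h1 := Subgroup.card_eq_card_quotient_mul_card_subgroup (oddCore ↥J')
    rw [Nat.card_congr e'.toEquiv, Transfer.SL23Recog.card_sl23] at h1
    have h4 : (Nat.card ↥(oddCore ↥J')).Coprime 2 := Lib.Cores.pPrimeCore_coprime 2
    have h5 : ¬ 2 ∣ Nat.card ↥(oddCore ↥J') := (Nat.Prime.coprime_iff_not_dvd Nat.prime_two).1 h4.symm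
    rw [h1] at h16
    omega
  -- `K'` is normal in `J'`
  have hKn : ∀ j ∈ J', ∀ k ∈ K.map f, j * k * j⁻¹ ∈ K.map f := by
    have h1 : ((K.map f).subgroupOf J').IsSubnormal := by
      exact (hH.sub _ hK').comap (inclusion hJC')
    have h4 : (K.map f).subgroupOf J' ≤ pCore 2 ↥J' := by
      refine Cfsg.Agent.PLocal.SubnormalCore.le_pCore_of_isSubnormal h1 ?_
      exact ((h.isPGroup hK).map f).comap_subtype
    have h5 : (K.map f).subgroupOf J' = pCore 2 ↥J' := by
      refine Subgroup.eq_of_le_of_card_ge h4 ?_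
      rw [Nat.card_congr (subgroupOfEquivOfLe hKJ').toEquiv, hcardK']
      obtain ⟨n, hn⟩ := IsPGroup.iff_card.1 (Lib.Cores.pCore_isPGroup (G := ↥J') 2)
      rw [hn]
      by_contra hlt
      push Not at hlt
      have h6 : 4 ≤ n := by
        by_contra h7
        have h8 : n ≤ 3 := by omega
        have h9 : 2 ^ n ≤ 2 ^ 3 := Nat.pow_le_pow_right (by norm_num) h8
        omega
      apply h16
      have h7 : (16 : ℕ) ∣ 2 ^ n := by
        rw [show (16 : ℕ) = 2 ^ 4 from rfl]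
        exact pow_dvd_pow 2 h6
      rw [← hn] at h7
      exact h7.trans (card_subgroup_dvd_card _)
    have h6 : ((K.map f).subgroupOf J').Normal := by rw [h5]; exact Lib.Cores.pCore_normal 2
    intro j hj k hk
    exact mem_subgroupOf.1 (h6.conj_mem ⟨k, hKJ' hk⟩ (mem_subgroupOf.2 hk) ⟨j, hj⟩)
  obtain ⟨J2, hJ2⟩ : ∃ J2 : Subgroup G, J2 = J'.comap f := ⟨_, rfl⟩
  have mJ2 : ∀ g, g ∈ J2 ↔ f g ∈ J' := fun g => by rw [hJ2, mem_comap]
  have hkerJ2 : f.ker ≤ J2 := by
    intro c hc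
    rw [mJ2, MonoidHom.mem_ker.1 hc]; exact one_mem _
  -- conjugation by `J2`
  have hcj : ∀ g ∈ J2, ∀ k ∈ K, ∃ k' ∈ K, ∃ c ∈ f.ker, g * k * g⁻¹ = k' * c := by
    intro g hg k hk
    obtain ⟨k', hk', e⟩ := hKn (f g) ((mJ2 g).1 hg) (f k) ⟨k, hk, rfl⟩
    refine ⟨k', hk', k'⁻¹ * (g * k * g⁻¹), ?_, by group⟩
    rw [MonoidHom.mem_ker, map_mul, map_inv, e, map_mul, map_mul, map_inv]
    group
  have hcom : ∀ g ∈ J2, ∃ k0 ∈ K, ∃ k1 ∈ K, ∃ c0 ∈ f.ker, ∃ c1 ∈ f.ker, g * x 0 * g⁻¹ = k0 * c0 ∧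
      g * x 1 * g⁻¹ = k1 * c1 ∧ g * zz K * g⁻¹ = k0 * k1 * k0⁻¹ * k1⁻¹ := by
    intro g hg
    obtain ⟨k0, hk0, c0, hc0, e0⟩ := hcj g hg _ (hx.mem 0)
    obtain ⟨k1, hk1, c1, hc1, e1⟩ := hcj g hg _ (hx.mem 1)
    refine ⟨k0, hk0, k1, hk1, c0, hc0, c1, hc1, e0, e1, ?_⟩
    have h1 := hx.conj_ne (i := 0) (j := 1) (by decide)
    have h4 : zz K = x 0 * x 1 * (x 0)⁻¹ * (x 1)⁻¹ := by rw [h1, mul_inv_cancel_right]
    have h5 : g * zz K * g⁻¹ = (g * x 0 * g⁻¹) * (g * x 1 * g⁻¹) * (g * x 0 * g⁻¹)⁻¹ * (g * x 1 * g⁻¹)⁻¹ := by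
      rw [h4]; group
    rw [h5, e0, e1]
    have a0 := hcen c0 hc0
    have a1 := hcen c1 hc1
    calc k0 * c0 * (k1 * c1) * (k0 * c0)⁻¹ * (k1 * c1)⁻¹
        = k0 * (c0 * (k1 * c1)) * c0⁻¹ * k0⁻¹ * c1⁻¹ * k1⁻¹ := by group
      _ = k0 * ((k1 * c1) * c0) * c0⁻¹ * k0⁻¹ * c1⁻¹ * k1⁻¹ := by rw [a0 (k1 * c1)]
      _ = k0 * k1 * (c1 * k0⁻¹) * c1⁻¹ * k1⁻¹ := by group
      _ = k0 * k1 * (k0⁻¹ * c1) * c1⁻¹ * k1⁻¹ := by rw [a1 k0⁻¹]
      _ = _ := by group
  -- `J2 ≤ C(z)`
  have hJ2z : J2 ≤ centralizer {zz K} := by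
    intro g hg
    obtain ⟨k0, hk0, k1, hk1, -, -, -, -, -, -, e⟩ := hcom g hg
    have h1 : g * zz K * g⁻¹ = zz K := by
      rcases q3_conj_mem hx hk0 hk1 with h4 | h4
      · rw [h4, mul_inv_cancel] at e
        exfalso
        apply hx.z1
        have : zz K = g⁻¹ * (g * zz K * g⁻¹) * g := by group
        rw [this, e]; group
      · rw [h4, mul_inv_cancel_right] at e
        exact e
    rw [mem_centralizer_singleton_iff, ← mul_inv_eq_iff_eq_mul, h1]
  -- `K` is normal in `J2`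
  have hKJ2 : K ≤ J2 := fun k hk => (mJ2 k).2 (hKJ' ⟨k, hk, rfl⟩)
  have hnor : ∀ g ∈ J2, cj g K = K := by
    intro g hg
    have hgz : g * zz K = zz K * g := mem_centralizer_singleton_iff.1 (hJ2z hg)
    by_contra hne
    have hzz : zz K = zz (cj g K) := by rw [h.hyp.zz_cj hK, hgz, mul_inv_cancel_right]
    have hc := h.comm hK (h.hyp.conj K hK g) hzz (Ne.symm hne)
    obtain ⟨k0, hk0, k1, hk1, c0, hc0, c1, hc1, e0, e1, e⟩ := hcom g hg
    have h4 : ∀ {k c : G} {i : Fin 3}, k ∈ K → c ∈ f.ker → g * x i * g⁻¹ = k * c → k = 1 ∨ k = zz K := by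
      intro k c i hk hc' e'
      have h5 : ∀ l ∈ K, l * k = k * l := by
        intro l hl
        have h6 := hc l hl _ (conj_mem_cj (hx.mem i))
        rw [e', ← mul_assoc, mul_assoc k c l, ← hcen c hc' l, ← mul_assoc] at h6
        exact mul_right_cancel h6
      exact hx.cent hk (i := 0) (j := 1) (by decide) (h5 _ (hx.mem 0)).symm (h5 _ (hx.mem 1)).symm
    have h5 : k0 * k1 * k0⁻¹ * k1⁻¹ = 1 := by
      rcases h4 hk0 hc0 e0 with h6 | h6
      · rw [h6]; group
      · have h7 : zz K * k1 = k1 * zz K := by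
          rcases h4 hk1 hc1 e1 with h8 | h8 <;> rw [h8]
          rw [mul_one, one_mul]
        rw [h6, h7]; group
    rw [h5] at e
    apply hx.z1
    have : zz K = g⁻¹ * (g * zz K * g⁻¹) * g := by group
    rw [this, e]; group
  haveI hKnorm : (K.subgroupOf J2).Normal := by
    refine ⟨fun k hk g => mem_subgroupOf.2 ?_⟩
    have h1 := conj_mem_cj (g := (g : G)) (mem_subgroupOf.1 hk)
    rw [hnor g g.2] at h1
    exact h1
  obtain ⟨q, hq⟩ : ∃ q : ↥J2 →* ↥J2 ⧸ K.subgroupOf J2, q = QuotientGroup.mk' (K.subgroupOf J2) := ⟨_, rfl⟩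
  have hqs : Function.Surjective q := by rw [hq]; exact QuotientGroup.mk'_surjective _
  have hqk : q.ker = K.subgroupOf J2 := by rw [hq]; exact QuotientGroup.ker_mk' _
  obtain ⟨A, hA⟩ : ∃ A, A = (f.ker.subgroupOf J2).map q := ⟨_, rfl⟩
  obtain ⟨N, hNn, hNA, hNm⟩ : ∃ N : Subgroup (↥J2 ⧸ K.subgroupOf J2), N.Normal ∧ N ⊓ A = ⊥ ∧
      ∀ y, ∃ n ∈ N, ∃ z ∈ A, y = n * z := by
    refine exists_compl ?_ ?_ ?_
    · rw [hA]
      rintro _ ⟨c, hc, rfl⟩
      rw [mem_center_iff]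
      intro g
      obtain ⟨g, rfl⟩ := hqs g
      rw [← map_mul, ← map_mul]
      congr 1
      exact Subtype.ext (hcen c (mem_subgroupOf.1 hc) g)
    · rw [hA]
      exact (h2.comap_subtype (K := J2)).map q
    · intro h4
      -- `|J' : K'|` is odd
      let g : ↥J2 →* ↥J' :=
        { toFun := fun y => ⟨f y, (mJ2 y).1 y.2⟩
          map_one' := Subtype.ext (map_one f)
          map_mul' := fun a b => Subtype.ext (map_mul f _ _) }
      have hg : Function.Surjective g := by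
        rintro ⟨y, hy⟩
        obtain ⟨w, rfl⟩ := hf y
        exact ⟨⟨w, (mJ2 w).2 hy⟩, rfl⟩
      have h5 : ((K.map f).subgroupOf J').comap g ≤ f.ker.subgroupOf J2 ⊔ q.ker := by
        intro y hy
        rw [mem_comap, mem_subgroupOf] at hy
        obtain ⟨k, hk, e⟩ := hy
        have e' : f k = f y := e
        have h6 : (⟨k, hKJ2 hk⟩ : ↥J2) ∈ q.ker := by rw [hqk]; exact mem_subgroupOf.2 hk
        have h7 : y * (⟨k, hKJ2 hk⟩ : ↥J2)⁻¹ ∈ f.ker.subgroupOf J2 := by
          rw [mem_subgroupOf, MonoidHom.mem_ker]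
          show f ((y : G) * k⁻¹) = 1
          rw [map_mul, map_inv, e', mul_inv_cancel]
        have h8 := mul_mem (mem_sup_left h7 : _ ∈ f.ker.subgroupOf J2 ⊔ q.ker) (mem_sup_right h6)
        rwa [inv_mul_cancel_right] at h8
      have h6 := index_dvd_of_le h5
      rw [index_comap_of_surjective _ hg] at h6
      have h7 : A.index = (f.ker.subgroupOf J2 ⊔ q.ker).index := by
        rw [hA, index_map, MonoidHom.range_eq_top.2 hqs, index_top, mul_one]
      rw [← h7] at h6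
      have h8 := (h4.trans h6)
      have h9 := ((K.map f).subgroupOf J').card_mul_index
      rw [Nat.card_congr (subgroupOfEquivOfLe hKJ').toEquiv, hcardK'] at h9
      obtain ⟨m, hm⟩ := h8
      apply h16
      rw [← h9, hm]
      exact ⟨m, by ring⟩
  obtain ⟨J, hJ⟩ : ∃ J : Subgroup G, J = (N.comap q).map J2.subtype := ⟨_, rfl⟩
  have mJ : ∀ g, g ∈ J ↔ ∃ hg : g ∈ J2, q ⟨g, hg⟩ ∈ N := by
    intro g
    rw [hJ]
    constructor
    · rintro ⟨y, hy, rfl⟩
      exact ⟨y.2, hy⟩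
    · rintro ⟨hg, hy⟩
      exact ⟨⟨g, hg⟩, hy, rfl⟩
  have hJJ2 : J ≤ J2 := fun g hg => ((mJ g).1 hg).1
  have hKJ : K ≤ J := by
    intro k hk
    refine (mJ k).2 ⟨hKJ2 hk, ?_⟩
    have h1 : (⟨k, hKJ2 hk⟩ : ↥J2) ∈ q.ker := by rw [hqk]; exact mem_subgroupOf.2 hk
    rw [MonoidHom.mem_ker.1 h1]; exact one_mem _
  have hJker : J ⊓ f.ker = ⊥ := by
    rw [eq_bot_iff]
    rintro y ⟨hy, hyk⟩
    obtain ⟨hy2, hyN⟩ := (mJ y).1 hy
    have h1 : q ⟨y, hy2⟩ ∈ N ⊓ A := by
      refine ⟨hyN, ?_⟩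
      rw [hA]
      exact ⟨⟨y, hy2⟩, mem_subgroupOf.2 hyk, rfl⟩
    rw [hNA, mem_bot] at h1
    have h4 : (⟨y, hy2⟩ : ↥J2) ∈ q.ker := h1
    rw [hqk] at h4
    have h5 : y ∈ K ⊓ f.ker := ⟨mem_subgroupOf.1 h4, hyk⟩
    rwa [hKC K hK] at h5
  have hJmap : J.map f = J' := by
    refine le_antisymm ?_ ?_
    · rintro _ ⟨y, hy, rfl⟩
      exact (mJ2 y).1 (hJJ2 hy)
    · intro w hw
      obtain ⟨y, rfl⟩ := hf w
      have hy := (mJ2 y).2 hw
      obtain ⟨n, hn, c, hc, e⟩ := hNm (q ⟨y, hy⟩)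
      rw [hA] at hc
      obtain ⟨c, hc, rfl⟩ := hc
      refine ⟨y * (c : G)⁻¹, (mJ _).2 ⟨mul_mem hy (inv_mem c.2), ?_⟩, ?_⟩
      · have h1 : (⟨y * (c : G)⁻¹, mul_mem hy (inv_mem c.2)⟩ : ↥J2) = ⟨y, hy⟩ * c⁻¹ := rfl
        rw [h1, map_mul, e, map_inv, mul_inv_cancel_right]
        exact hn
      · rw [map_mul, map_inv, MonoidHom.mem_ker.1 (mem_subgroupOf.1 hc), inv_one, mul_one]
  have hJn : ∀ m ∈ J2, ∀ j ∈ J, m * j * m⁻¹ ∈ J := by
    intro m hm j hj
    obtain ⟨hj2, hjN⟩ := (mJ j).1 hj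
    refine (mJ _).2 ⟨mul_mem (mul_mem hm hj2) (inv_mem hm), ?_⟩
    have h1 := hNn.conj_mem _ hjN (q ⟨m, hm⟩)
    rw [← map_mul, ← map_inv, ← map_mul] at h1
    exact h1
  have hsub2 : (J2.subgroupOf (centralizer {zz K})).IsSubnormal := by
    have hmem : ∀ y : ↥(centralizer ({zz K} : Set G)), f y ∈ centralizer ({zz (K.map f)} : Set G') := by
      intro y
      rw [hz', mem_centralizer_singleton_iff, ← map_mul, ← map_mul, mem_centralizer_singleton_iff.1 y.2]
    let g : ↥(centralizer ({zz K} : Set G)) →* ↥(centralizer ({zz (K.map f)} : Set G')) :=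
      { toFun := fun y => ⟨f y, hmem y⟩
        map_one' := Subtype.ext (map_one f)
        map_mul' := fun a b => Subtype.ext (map_mul f _ _) }
    have h1 := hsub'.comap g
    convert h1 using 1
    ext y
    rw [mem_subgroupOf, mJ2, mem_comap, mem_subgroupOf]
    rfl
  refine ⟨J, hJJ2.trans hJ2z, hKJ, subnStep hJJ2 hsub2 hJn, ?_⟩
  have e2 : J ≃* J' := (QuoCen.equivMap hJker).trans (MulEquiv.subgroupCongr hJmap)
  exact ⟨(QuotientGroup.congr (oddCore ↥J) (oddCore ↥J') e2 (Lib.Cores.map_equiv_pPrimeCore e2 2)).trans e'⟩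

end

section

variable {G : Type u} [Group G] [Finite G] {Om : Set (Subgroup G)} {L : Subgroup G}

/-- `C_G(L) = Z(G)` -/
theorem centralizer_eq (huni : ∀ L', IsComponent L' → L' = L) (hcore : pPrimeCore 2 G = ⊥)
    (hZ : pCore 2 G = center G) : centralizer (L : Set G) = center G := by
  refine le_antisymm ?_ (fun g hg => mem_centralizer_iff.2 fun y _ => (mem_center_iff.1 hg y))
  intro g hg
  have h1 : g ∈ centralizer (generalizedFittingSubgroup G : Set G) := by
    have h2 : generalizedFittingSubgroup G ≤ centralizer ({g} : Set G) := by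
      refine sup_le ?_ ?_
      · rw [SignalizersComponents.Components.layer_le_iff]
        intro L' hL' y hy
        rw [huni L' hL'] at hy
        rw [mem_centralizer_singleton_iff]
        exact mem_centralizer_iff.1 hg y hy
      · intro y hy
        rw [mem_centralizer_singleton_iff]
        have h3 : y ∈ center G := by rw [← hZ]; exact ThreePrime.Pump.fitting_le_pCore hcore hy
        exact (mem_center_iff.1 h3 g).symm
    rw [mem_centralizer_iff]
    intro y hy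
    exact mem_centralizer_singleton_iff.1 (h2 hy)
  rw [← hZ]
  exact ThreePrime.Pump.fitting_le_pCore hcore (TwoFusion.FStarControl.centralizer_genFitting_le_fitting h1)

/-- **the frame, step (c)** -/
theorem quo (hSC : SC.{u}) (t : T0 Om) (top : sSup Om = ⊤) (conn : ∀ K ∈ Om, ∀ L ∈ Om, L ∈ comp Om K)
    (ih : ∀ (H : Type u) [Group H] [Finite H] (Om' : Set (Subgroup H)), Nat.card H < Nat.card G → T0 Om' →
      ∀ K ∈ Om', TStat Om' K)
    (hL : IsComponent L) (hN : L.Normal) (huni : ∀ L', IsComponent L' → L' = L) (hZ : pCore 2 G = center G)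
    (_hzL : ∀ K ∈ Om, zz K ∈ L) (hz : ∀ K ∈ Om, zz K ∉ center G) : ∀ K ∈ Om, ONE Om K ∨ THREE Om K := by
  haveI : Fact (Nat.Prime 2) := ⟨Nat.prime_two⟩
  intro K hK
  by_contra hcon
  push Not at hcon
  obtain ⟨hone, hthree⟩ := hcon
  have h : H8 Om := ⟨t.hyp, t.card⟩
  -- the pair
  obtain ⟨K1, hK1, K2, hK2, hc12, M, hM, y, hy, hne⟩ : ∃ K₁ ∈ comp Om K, ∃ K₂ ∈ comp Om K, Cm K₁ K₂ ∧
      ∃ M ∈ comp Om K, ∃ y ∈ M, zz K₁ * zz K₂ * y ≠ y * (zz K₁ * zz K₂) := by
    by_contra hcon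
    apply hone
    intro K1 hK1 K2 hK2 hc M hM y hy
    by_contra hne
    exact hcon ⟨K1, hK1, K2, hK2, hc, M, hM, y, hy, hne⟩
  have hK1O := comp_sub hK hK1
  have hK2O := comp_sub hK hK2
  -- the quotient
  obtain ⟨f, hfd⟩ : ∃ f : G →* G ⧸ center G, f = QuotientGroup.mk' (center G) := ⟨_, rfl⟩
  have hf : Function.Surjective f := by rw [hfd]; exact QuotientGroup.mk'_surjective _
  have hfk : f.ker = center G := by rw [hfd]; exact QuotientGroup.ker_mk' _
  have hC : f.ker ≤ center G := hfk.le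
  have h2 : IsPGroup 2 f.ker := by rw [hfk, ← hZ]; exact Lib.Cores.pCore_isPGroup 2
  have hKC : ∀ K ∈ Om, K ⊓ f.ker = ⊥ := by
    intro K hK
    obtain ⟨x, hx⟩ := h.exists_q3 hK
    have hzf : zz K ∉ f.ker := by rw [hfk]; exact hz K hK
    rw [eq_bot_iff]
    rintro k ⟨hk, hkf⟩
    rw [mem_bot]
    rcases hx.cov k hk with h1 | h1 | ⟨i, h1 | h1⟩
    · exact h1
    · exact absurd (h1 ▸ hkf) hzf
    · exfalso
      apply hzf
      rw [← hx.sq i, ← h1]
      exact mul_mem hkf hkf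
    · exfalso
      apply hzf
      have e : zz K = k * k := by
        rw [h1]
        calc zz K = zz K * (zz K * (x i * x i)) := by rw [hx.sq, hx.z2, mul_one]
          _ = zz K * (zz K * x i) * x i := by group
          _ = zz K * (x i * zz K) * x i := by rw [hx.zc]
          _ = _ := by group
      rw [e]
      exact mul_mem hkf hkf
  have hzm : ∀ K ∈ Om, zz (K.map f) = f (zz K) := fun K hK => QuoCen.zz_map_of_inf h.hyp hK (hKC K hK)
  -- the image of `L`
  have hCL : centralizer (L : Set G) = center G := centralizer_eq huni t.core hZ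
  have hperf : Group.IsPerfect L := hL.2.1
  have hCL' : centralizer ((L.map f : Subgroup (G ⧸ center G)) : Set (G ⧸ center G)) = ⊥ := by
    rw [eq_bot_iff]
    intro w hw
    obtain ⟨g, rfl⟩ := hf w
    obtain ⟨X, hX⟩ : ∃ X : Subgroup G, X = (centralizer ((L.map f : Subgroup (G ⧸ center G)) : Set (G ⧸ center G))).comap f :=
      ⟨_, rfl⟩
    have hgX : g ∈ X := by rw [hX]; exact hw
    have h1 : ⁅X, L⁆ ≤ f.ker := by
      rw [commutator_le]
      intro y hy l hl
      rw [hX, mem_comap, mem_centralizer_iff] at hy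
      have h3 := hy (f l) ⟨l, hl, rfl⟩
      rw [MonoidHom.mem_ker, commutatorElement_def, map_mul, map_mul, map_mul, ← h3, map_inv, map_inv]
      group
    have h3 : ⁅⁅X, L⁆, L⁆ = ⊥ := by
      rw [commutator_eq_bot_iff_le_centralizer]
      intro y hy
      rw [mem_centralizer_iff]
      intro l _
      exact mem_center_iff.1 (hC (h1 hy)) l
    have h4 := SignalizersComponents.Components.commutator_eq_bot_of_commutator_commutator_eq_bot hperf h3
    rw [commutator_eq_bot_iff_le_centralizer, hCL, ← hfk] at h4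
    exact MonoidHom.mem_ker.1 (h4 hgX)
  have hLn : (L.map f).Normal := hN.map f hf
  -- `L' ≃ L/Z(L)`
  obtain ⟨g, hg⟩ : ∃ g : ↥L →* ↥(L.map f), g = f.subgroupMap L := ⟨_, rfl⟩
  have hgs : Function.Surjective g := by rw [hg]; exact f.subgroupMap_surjective L
  have hgk : g.ker = center ↥L := by
    ext y
    rw [MonoidHom.mem_ker, mem_center_iff, hg]
    constructor
    · intro h1 w
      have h3 : (y : G) ∈ f.ker := congrArg Subtype.val h1
      exact Subtype.ext (mem_center_iff.1 (hC h3) w)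
    · intro h1
      have h3 : (y : G) ∈ centralizer (L : Set G) := by
        rw [mem_centralizer_iff]
        intro w hw
        exact congrArg Subtype.val (h1 ⟨w, hw⟩)
      rw [hCL, ← hfk] at h3
      exact Subtype.ext (MonoidHom.mem_ker.1 h3)
  have hsimp : IsSimpleGroup ↥(L.map f) := by
    have hs : IsSimpleGroup (↥L ⧸ center ↥L) := hL.2.2
    have e : ↥(L.map f) ≃* ↥L ⧸ center ↥L :=
      ((QuotientGroup.quotientMulEquivOfEq hgk).symm.trans (QuotientGroup.quotientKerEquivOfSurjective g hgs)).symm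
    exact e.isSimpleGroup
  have hna : ¬ IsMulCommutative ↥(L.map f) := by
    intro hcm
    have h1 : L.map f ≤ centralizer ((L.map f : Subgroup (G ⧸ center G)) : Set (G ⧸ center G)) := by
      intro a ha
      rw [mem_centralizer_iff]
      intro b hb
      exact congrArg Subtype.val (hcm.is_comm.comm (⟨b, hb⟩ : ↥(L.map f)) ⟨a, ha⟩)
    rw [hCL', le_bot_iff] at h1
    have h3 : Nontrivial ↥(L.map f) := hsimp.toNontrivial
    rw [h1] at h3
    exact not_nontrivial _ h3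
  have hF : generalizedFittingSubgroup (G ⧸ center G) = L.map f :=
    FixBN.BTheorem.genFitting_eq hLn hsimp hna hCL'
  refine hSC (G ⧸ center G) (img f Om) { t0 := ?_, top := ?_, conn := ?_, simple := ?_, na := ?_, ih := ?_, three := ?_, two := ?_ }
  · refine ⟨QuoCen.hyp_img_central h.hyp hf hC hKC, ?_, ?_⟩
    · rintro _ ⟨K, hK, rfl⟩
      rw [← Nat.card_congr (QuoCen.equivMap (hKC K hK)).toEquiv, t.card K hK]
    · exact ONType.Cz.oddCore_quotient_central t.core (center G) le_rfl (by rw [← hfk]; exact h2)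
  · rw [eq_top_iff]
    intro w _
    obtain ⟨g, rfl⟩ := hf w
    have h1 : (⊤ : Subgroup G) ≤ (sSup (img f Om)).comap f := by
      rw [← top]
      refine sSup_le fun K hK => ?_
      rw [← map_le_iff_le_comap]
      exact le_sSup ⟨K, hK, rfl⟩
    exact h1 (mem_top g)
  · rintro _ ⟨K, hK, rfl⟩ _ ⟨M, hM, rfl⟩
    have h1 : ∀ A B, Adj Om A B → Adj (img f Om) (A.map f) (B.map f) := fun A B hAB =>
      ⟨⟨A, hAB.1, rfl⟩, ⟨B, hAB.2.1, rfl⟩, fun hc => hAB.2.2 (cm_of_map h hC hKC hAB.1 hAB.2.1 hc)⟩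
    exact Relation.ReflTransGen.lift (Subgroup.map f) h1 _ _ (conn K hK M hM)
  · rw [hF]; exact hsimp
  · rw [hF]; exact hna
  · intro H _ _ Om' hlt ht
    refine ih H Om' (lt_of_lt_of_le hlt ?_) ht
    exact Nat.card_le_card_of_surjective f hf
  · rintro _ ⟨K', hK', rfl⟩ h3
    apply hthree
    exact ⟨K', conn K hK K' hK', three_lift h hf hC h2 hKC hK' h3⟩
  · refine ⟨K1.map f, ⟨K1, hK1O, rfl⟩, K2.map f, ⟨K2, hK2O, rfl⟩, ?_, ?_⟩
    · rintro _ ⟨a, ha, rfl⟩ _ ⟨b, hb, rfl⟩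
      rw [← map_mul, ← map_mul, hc12 a ha b hb]
    · rw [hzm K1 hK1O, hzm K2 hK2O]
      intro e
      apply hne
      have h1 : zz K1 * zz K2 ∈ f.ker := by
        rw [MonoidHom.mem_ker, map_mul, e, ← map_mul, h.hyp.zz_mul hK2O, map_one]
      exact (mem_center_iff.1 (hC h1) y).symm

end

end Cfsg.Agent.Cit.Nil.Ind
end

-- part: Cit/Nil/Ind
section
set_option linter.all false
open scoped Cfsg.Agent.FastGrp

/-!
# The frame of S1309: the induction

`ind` : from the simple case `SC` (IndDefs.lean) the statement `TStat Om K` holds for all `K ∈ Om`, `T0 Om`.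
-/

set_option autoImplicit false

namespace Cfsg.Agent.Cit.Nil.Ind

open Subgroup Cfsg Cit Nil.IndDefs

universe u

theorem ind_aux (hev : ∀ (G : Type u) [Group G] [Finite G], Comp.EvQ G) (hSC : SC.{u}) (n : ℕ) : ∀ (G : Type u) [Group G] [Finite G]
    (Om : Set (Subgroup G)), Nat.card G < n → T0 Om → ∀ K ∈ Om, TStat Om K := by
  induction n with
  | zero => intro G _ _ Om h; omega
  | succ n ih =>
    intro G _ _ Om hn t K hK
    by_cases hB : SubB.BB Om K = ⊤
    · have hcomp : ∀ L ∈ Om, L ∈ comp Om K := fun L hL => SubB.mem_comp_of_le t hK hL (by rw [hB]; exact le_top)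
      have conn : ∀ K₁ ∈ Om, ∀ L ∈ Om, L ∈ comp Om K₁ := fun K₁ hK₁ L hL =>
        comp_trans (comp_symm (hcomp K₁ hK₁)) (hcomp L hL)
      have top : sSup Om = ⊤ := by
        rw [eq_top_iff, ← hB]
        exact sSup_le_sSup (comp_sub hK)
      by_cases hN : NIL K
      · exact Or.inl hN
      · obtain ⟨hZ, L, hL, hLn, huni, hzL, hz⟩ := Red.exists_comp t top conn (hev G) (hev _) hK hN
        exact Or.inr (quo hSC t top conn (fun H _ _ Om' hlt t' => ih H Om' (by omega) t') hL hLn huni hZ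
          hzL hz K hK)
    · refine SubB.tStat_of_BB t hK (ih _ _ ?_ (SubB.t0_restr t (SubB.isSubnormal_BB t hK)) _
        (subgroupOf_mem_restr hK (SubB.le_BB mem_comp_self)))
      have h1 : Nat.card (SubB.BB Om K) < Nat.card G := by
        refine lt_of_le_of_ne (Nat.le_of_dvd Nat.card_pos (card_subgroup_dvd_card _)) fun h => hB ?_
        exact Subgroup.eq_top_of_card_eq _ h
      omega

/-- **the frame** -/
theorem ind (hev : ∀ (G : Type u) [Group G] [Finite G], Comp.EvQ G) (hSC : SC.{u}) (G : Type u) [Group G] [Finite G] (Om : Set (Subgroup G))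
    (t : T0 Om) : ∀ K ∈ Om, TStat Om K :=
  ind_aux hev hSC (Nat.card G + 1) G Om (Nat.lt_succ_self _) t

end Cfsg.Agent.Cit.Nil.Ind
end

-- part: Cit/Nil/RTwoM/AN/QuoA
section
prune_inst 0x200044005022100000180000200004401000000200400000004000000848800120050001307002101110a0e0400a806003100009423000002a00820040000000040122e010741c0011000040c801180c00000000000000000000000000000000000000000
set_option linter.all false
open scoped Cfsg.Agent.FastGrp

/-!
# The quotient of a world by the centraliser of its members (abstract part)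

`QM Om f` : `Hyp Om`, all members have order 8, `f : M →* Y` surjective, `ker f = C(⟨Om⟩)`, `f (zz K) ≠ 1`.

* `fib` : `f (zz K) = f (zz L)` : `K = L` or `K`, `L` commute; `map_inj`; `cm_lift`; `as_lift`;
* `hyp_img` : `Hyp (img f Om)`.
-/

set_option autoImplicit false
set_option linter.style.haveILetI false
set_option linter.unusedSectionVars false

namespace Cfsg.Agent.Cit.Nil.RTwoM.Quo

open Subgroup Cfsg Cit IndDefs RTwo

/-- the quotient situation -/
structure QM {M Y : Type*} [Group M] [Group Y] (Om : Set (Subgroup M)) (f : M →* Y) : Prop where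
  hyp : Hyp Om
  card : ∀ K ∈ Om, Nat.card K = 8
  surj : Function.Surjective f
  ker : ∀ g, f g = 1 ↔ ∀ K ∈ Om, ∀ k ∈ K, g * k = k * g
  no : ∀ K ∈ Om, f (zz K) ≠ 1

namespace QM

variable {M Y : Type*} [Group M] [Group Y] [Finite M] {Om : Set (Subgroup M)} {f : M →* Y} {K L : Subgroup M}
  (q : QM Om f) {g x y : M}

include q

theorem h8 : Three.H8 Om := ⟨q.hyp, q.card⟩

theorem inj (hK : K ∈ Om) {k : M} (hk : k ∈ K) (h1 : f k = 1) : k = 1 := by
  obtain ⟨x, hx⟩ := q.h8.exists_q3 hK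
  have hzf := q.no K hK
  rcases hx.cov k hk with h2 | h2 | ⟨i, h2 | h2⟩
  · exact h2
  · exact absurd (h2 ▸ h1) hzf
  · exfalso
    apply hzf
    rw [← hx.sq i, ← h2, map_mul, h1, one_mul]
  · exfalso
    apply hzf
    have e : zz K = k * k := by
      rw [h2]
      calc zz K = zz K * (zz K * (x i * x i)) := by rw [hx.sq, hx.z2, mul_one]
        _ = zz K * (zz K * x i) * x i := by group
        _ = zz K * (x i * zz K) * x i := by rw [hx.zc]
        _ = _ := by group
    rw [e, map_mul, h1, one_mul]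

theorem inf_ker (hK : K ∈ Om) : K ⊓ f.ker = ⊥ := by
  rw [eq_bot_iff]
  rintro k ⟨hk, hkf⟩
  rw [mem_bot]
  exact q.inj hK hk hkf

theorem zz_map (hK : K ∈ Om) : zz (K.map f) = f (zz K) := QuoCen.zz_map_of_inf q.hyp hK (q.inf_ker hK)

theorem card_map (hK : K ∈ Om) : Nat.card (K.map f) = 8 := by
  rw [← Nat.card_congr (QuoCen.equivMap (q.inf_ker hK)).toEquiv, q.card K hK]

/-- two members over the same point of `Y` -/
theorem fib (hK : K ∈ Om) (hL : L ∈ Om) (h : f (zz K) = f (zz L)) : K = L ∨ Cm K L := by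
  by_cases hne : K = L
  · exact Or.inl hne
  right
  refine q.hyp.comm_of_zz_comm hK hL (q.h8.isPGroup hK) (q.h8.isPGroup hL) ?_ hne
  intro a ha
  have h1 : f (zz L * (zz K)⁻¹) = 1 := by rw [map_mul, map_inv, h, mul_inv_cancel]
  have h2 := (q.ker _).1 h1 K hK a ha
  have h3 := q.hyp.comm_zz hK (le_normalizer ha)
  calc a * zz L = a * (zz L * (zz K)⁻¹) * zz K := by group
    _ = (zz L * (zz K)⁻¹) * a * zz K := by rw [h2]
    _ = (zz L * (zz K)⁻¹) * (a * zz K) := by group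
    _ = zz L * a := by rw [h3]; group

theorem map_inj (hK : K ∈ Om) (hL : L ∈ Om) (h : K.map f ≤ L.map f) : K = L := by
  obtain ⟨x, hx⟩ := q.h8.exists_q3 hK
  have h0 : K.map f = L.map f := by
    haveI : Finite Y := Finite.of_surjective f q.surj
    exact eq_of_le_of_card_ge h (by rw [q.card_map hK, q.card_map hL])
  have h1 : f (zz K) = f (zz L) := by rw [← q.zz_map hK, ← q.zz_map hL, h0]
  rcases q.fib hK hL h1 with h2 | h2
  · exact h2
  exfalso
  have key : ∀ i, ∀ k ∈ K, x i * k = k * x i := by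
    intro i k hk
    obtain ⟨l, hl, e⟩ := h ⟨x i, hx.mem i, rfl⟩
    have h3 : f (x i * l⁻¹) = 1 := by rw [map_mul, map_inv, e, mul_inv_cancel]
    have h4 := (q.ker _).1 h3 K hK k hk
    have h5 := h2 k hk l hl
    calc x i * k = (x i * l⁻¹) * (l * k) := by group
      _ = (x i * l⁻¹) * (k * l) := by rw [h5]
      _ = ((x i * l⁻¹) * k) * l := by group
      _ = (k * (x i * l⁻¹)) * l := by rw [h4]
      _ = k * x i := by group
  have h3 := hx.conj_ne (i := 0) (j := 1) (by decide)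
  rw [key 0 _ (hx.mem 1), mul_inv_cancel_right] at h3
  have h4 : zz K = 1 := by
    have h5 := hx.mem 1
    exact (mul_eq_right.1 h3.symm)
  exact hx.z1 h4

theorem cj_eq (hK : K ∈ Om) (h : cj (f g) (K.map f) ≤ K.map f) : cj g K = K := by
  refine q.map_inj (q.hyp.conj K hK g) hK ?_
  rw [cj_map]
  exact h

/-- members which commute in `Y` commute -/
theorem cm_lift (hK : K ∈ Om) (h : Cm (K.map f) (L.map f)) : Cm K L := by
  intro k hk l hl
  have h1 : cj l K = K := by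
    refine q.cj_eq hK ?_
    intro m hm
    have hm' : (f l)⁻¹ * m * f l ∈ K.map f := mem_cj.1 hm
    have h2 := h _ hm' (f l) ⟨l, hl, rfl⟩
    have h3 : m = (f l)⁻¹ * m * f l := by
      calc m = f l * ((f l)⁻¹ * m * f l) * (f l)⁻¹ := by group
        _ = (f l)⁻¹ * m * f l := by rw [← h2]; group
    rw [h3]
    exact hm'
  have h2 : l * k * l⁻¹ * k⁻¹ ∈ K := mul_mem (by
    have h3 := conj_mem_cj (g := l) hk
    rwa [h1] at h3) (inv_mem hk)
  have h3 : f (l * k * l⁻¹ * k⁻¹) = 1 := by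
    rw [map_mul, map_mul, map_mul, ← h (f k) ⟨k, hk, rfl⟩ (f l) ⟨l, hl, rfl⟩, map_inv, map_inv]
    group
  have h4 := q.inj hK h2 h3
  rw [mul_inv_eq_one, mul_inv_eq_iff_eq_mul] at h4
  exact h4.symm

/-- exact lifting of an action -/
theorem as_lift (hK : K ∈ Om) (hy : y ∈ K) (h : ∀ k ∈ K, f (g * k * g⁻¹) = f (y * k * y⁻¹)) :
    ∀ k ∈ K, g * k * g⁻¹ = y * k * y⁻¹ := by
  have h1 : cj g K = K := by
    refine q.cj_eq hK ?_
    rw [← cj_map]
    rintro _ ⟨m, hm, rfl⟩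
    have hm' : g⁻¹ * m * g ∈ K := mem_cj.1 hm
    refine ⟨y * (g⁻¹ * m * g) * y⁻¹, mul_mem (mul_mem hy hm') (inv_mem hy), ?_⟩
    rw [← h _ hm']
    congr 1
    group
  intro k hk
  have h2 : g * k * g⁻¹ * (y * k * y⁻¹)⁻¹ ∈ K := by
    have h3 := conj_mem_cj (g := g) hk
    rw [h1] at h3
    exact mul_mem h3 (inv_mem (mul_mem (mul_mem hy hk) (inv_mem hy)))
  have h3 := q.inj hK h2 (by rw [map_mul, map_inv, h k hk, mul_inv_cancel])
  exact mul_inv_eq_one.1 h3

/-- the action of a preimage on a member -/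
theorem cj_lift (hK : K ∈ Om) (hL : L ∈ Om) (h : cj (f g) (K.map f) = L.map f) : cj g K = L := by
  refine q.map_inj (q.hyp.conj K hK g) hL ?_
  rw [cj_map, h]

/-- **`Hyp` passes to `Y`** -/
theorem hyp_img : Hyp (img f Om) := by
  haveI : Fact (Nat.Prime 2) := ⟨Nat.prime_two⟩
  haveI : Finite Y := Finite.of_surjective f q.surj
  refine ⟨?_, ?_, ?_, ?_, ?_, ?_⟩
  · rintro _ ⟨K, hK, rfl⟩ g'
    obtain ⟨g, rfl⟩ := q.surj g'
    exact ⟨cj g K, q.hyp.conj K hK g, cj_map f g K⟩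
  · rintro _ ⟨K, hK, rfl⟩
    exact HasQS.of_equiv (QuoCen.equivMap (q.inf_ker hK)) (q.hyp.quat K hK)
  · rintro _ ⟨K, hK, rfl⟩ t ⟨k, hk, rfl⟩ ht2
    rw [q.zz_map hK]
    rw [QuoCen.orderOf_map (q.inf_ker hK) hk] at ht2
    rw [q.hyp.uniq K hK k hk ht2]
  · rintro _ ⟨K, hK, rfl⟩
    rw [q.zz_map hK]
    -- the members over the point, and their product
    obtain ⟨A, hA⟩ : ∃ A : Set (Subgroup M), A = {L | L ∈ Om ∧ f (zz L) = f (zz K)} := ⟨_, rfl⟩
    have mA : ∀ L, L ∈ A ↔ L ∈ Om ∧ f (zz L) = f (zz K) := fun L => by rw [hA]; rfl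
    obtain ⟨R, hR⟩ : ∃ R : Subgroup M, R = sSup A := ⟨_, rfl⟩
    obtain ⟨N, hN⟩ : ∃ N : Subgroup M, N = (centralizer {f (zz K)}).comap f := ⟨_, rfl⟩
    have mN : ∀ g, g ∈ N ↔ f g * f (zz K) = f (zz K) * f g := fun g => by
      rw [hN, mem_comap, mem_centralizer_singleton_iff]
    have hKA : K ∈ A := (mA K).2 ⟨hK, rfl⟩
    have hKR : K ≤ R := by rw [hR]; exact le_sSup hKA
    have hAN : ∀ L ∈ A, L ≤ N := by
      intro L hL l hl
      obtain ⟨h1, h2⟩ := (mA L).1 hL
      rw [mN, ← h2, ← map_mul, ← map_mul, q.hyp.comm_zz h1 (le_normalizer hl)]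
    have hRN : R ≤ N := by rw [hR]; exact sSup_le hAN
    have hNA : ∀ g ∈ N, ∀ L ∈ A, cj g L ∈ A := by
      intro g hg L hL
      obtain ⟨h1, h2⟩ := (mA L).1 hL
      refine (mA _).2 ⟨q.hyp.conj L h1 g, ?_⟩
      rw [q.hyp.zz_cj h1, map_mul, map_mul, h2, (mN g).1 hg, map_inv, mul_inv_cancel_right]
    have hNR : N ≤ normalizer (R : Set M) := by
      intro g hg
      have key : ∀ g ∈ N, cj g R ≤ R := by
        intro g hg
        have h1 : R ≤ R.comap (MulAut.conj g).toMonoidHom := by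
          conv_lhs => rw [hR]
          refine sSup_le fun L hL x hx => ?_
          have h2 : g * x * g⁻¹ ∈ cj g L := conj_mem_cj hx
          have h3 : cj g L ≤ R := by rw [hR]; exact le_sSup (hNA g hg L hL)
          exact h3 h2
        intro x hx
        have hx' : g⁻¹ * x * g ∈ R := mem_cj.1 hx
        have h2 := h1 hx'
        have h3 : g * (g⁻¹ * x * g) * g⁻¹ ∈ R := h2
        have h4 : g * (g⁻¹ * x * g) * g⁻¹ = x := by group
        rwa [h4] at h3
      rw [mem_normalizer_iff_cj]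
      refine le_antisymm (key g hg) ?_
      have h1 := cj_mono g (key g⁻¹ (inv_mem hg))
      rwa [cj_cj_inv] at h1
    have hRK : R ≤ normalizer (K : Set M) := by
      rw [hR]
      refine sSup_le fun L hL => ?_
      obtain ⟨h1, h2⟩ := (mA L).1 hL
      rcases q.fib h1 hK h2 with h3 | h3
      · rw [h3]; exact le_normalizer
      · exact (Ind.Red.Cm_iff_le.1 h3).trans (centralizer_le_normalizer _)
    have h1 : (K.subgroupOf N).IsSubnormal := by
      refine IsSubnormal.trans (H := K.subgroupOf N) (K := R.subgroupOf N) (fun x hx => hKR hx) ?_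
        ((normal_subgroupOf_iff_le_normalizer hRN).2 hNR).isSubnormal
      have h2 : (K.subgroupOf R).Normal := (normal_subgroupOf_iff_le_normalizer hKR).2 hRK
      let e : (R.subgroupOf N) →* R :=
        { toFun := fun x => ⟨((x : N) : M), x.2⟩
          map_one' := rfl
          map_mul' := fun _ _ => rfl }
      convert h2.isSubnormal.comap e using 1
      ext x
      rfl
    let φ : N →* centralizer {f (zz K)} :=
      { toFun := fun x => ⟨f x, mem_centralizer_singleton_iff.2 ((mN _).1 x.2)⟩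
        map_one' := by apply Subtype.ext; simp
        map_mul' := fun x y => by apply Subtype.ext; simp }
    have hφ : Function.Surjective φ := by
      rintro ⟨x, hx⟩
      obtain ⟨g, rfl⟩ := q.surj x
      exact ⟨⟨g, (mN g).2 (mem_centralizer_singleton_iff.1 hx)⟩, rfl⟩
    convert h1.map hφ using 1
    ext x
    simp only [mem_subgroupOf, mem_map]
    constructor
    · rintro ⟨k, hk, hkx⟩
      exact ⟨⟨k, hAN K hKA hk⟩, hk, Subtype.ext hkx⟩
    · rintro ⟨k, hk, rfl⟩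
      exact ⟨k, hk, rfl⟩
  · rintro _ ⟨K, hK, rfl⟩ _ ⟨L, hL, rfl⟩ hKL
    rw [q.zz_map hK, q.zz_map hL] at hKL
    rcases q.fib hK hL hKL with h1 | h1
    · left; rw [h1]
    · right
      have h2 : ⁅K.map f, L.map f⁆ = ⊥ := by
        rw [commutator_eq_bot_iff_le_centralizer]
        rintro _ ⟨k, hk, rfl⟩
        rw [mem_centralizer_iff]
        rintro _ ⟨l, hl, rfl⟩
        rw [← map_mul, ← map_mul, h1 k hk l hl]
      rw [h2]
      exact bot_le
  · rintro _ ⟨K, hK, rfl⟩ _ ⟨L, hL, rfl⟩ _ ⟨y, hy, rfl⟩ hy2 hy4 hyz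
    rw [q.zz_map hL] at hyz
    rw [QuoCen.orderOf_map (q.inf_ker hK) hy] at hy4
    obtain ⟨x, hx⟩ := q.h8.exists_q3 hK
    have hyy : y * y = zz K := by
      rcases hx.cov y hy with h1 | h1 | ⟨i, h1 | h1⟩
      · rw [h1, orderOf_one] at hy4; omega
      · rw [h1, q.hyp.orderOf_zz hK] at hy4; omega
      · rw [h1, hx.sq]
      · rw [h1]
        calc zz K * x i * (zz K * x i) = zz K * (x i * zz K) * x i := by group
          _ = zz K * (zz K * x i) * x i := by rw [hx.zc]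
          _ = (zz K * zz K) * (x i * x i) := by group
          _ = zz K := by rw [hx.z2, hx.sq, one_mul]
    have hy2' : IsPGroup 2 (zpowers y) := (q.h8.isPGroup hK).to_le (zpowers_le.2 hy)
    have htt := q.hyp.zz_mul hL
    have htz := q.hyp.zz_inv hL
    -- `c = [y, t]` centralises all members
    obtain ⟨c, hc⟩ : ∃ c, c = zz L * y * (zz L)⁻¹ * y⁻¹ := ⟨_, rfl⟩
    have hfc : f c = 1 := by
      rw [hc, map_mul, map_mul, map_mul, map_inv, map_inv, ← hyz]
      group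
    have hcK := (q.ker c).1 hfc
    have h1 : y * zz L = zz L * y := by
      have e1 : zz L * y * (zz L)⁻¹ = c * y := by rw [hc]; group
      have e2 : c * y ∈ cj (zz L) K := by rw [← e1]; exact conj_mem_cj hy
      -- the involution of `K^t` is `z c²`; `t` has order two, so `c * c = 1`
      have e3 : c * c = 1 := by
        have e4 : zz L * (c * y) * (zz L)⁻¹ = y := by
          rw [← e1]
          calc zz L * (zz L * y * (zz L)⁻¹) * (zz L)⁻¹ = (zz L * zz L) * y * (zz L * zz L)⁻¹ := by group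
            _ = y := by rw [htt]; group
        have e5 : zz L * c * (zz L)⁻¹ = c := by
          rw [← hcK L hL _ (q.hyp.zz_mem hL)]; group
        have e6 : c * (c * y) = y := by
          calc c * (c * y) = (zz L * c * (zz L)⁻¹) * (zz L * y * (zz L)⁻¹) := by rw [e5, e1]
            _ = zz L * (c * y) * (zz L)⁻¹ := by group
            _ = y := e4
        rw [← mul_assoc] at e6
        exact mul_eq_right.1 e6
      have e7 : (c * y) * (c * y) = zz K := by
        calc (c * y) * (c * y) = c * (y * c) * y := by group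
          _ = c * (c * y) * y := by rw [hcK K hK y hy]
          _ = (c * c) * (y * y) := by group
          _ = zz K := by rw [e3, one_mul, hyy]
      have e8 : zz (cj (zz L) K) = zz K := by
        symm
        refine q.hyp.uniq _ (q.hyp.conj K hK _) _ ?_ (q.hyp.orderOf_zz hK)
        rw [← e7]
        exact mul_mem e2 e2
      have e9 : c = 1 := by
        rcases q.fib (q.hyp.conj K hK (zz L)) hK (by rw [e8]) with h2 | h2
        · rw [h2] at e2
          have h3 : c ∈ K := by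
            have := mul_mem e2 (inv_mem hy)
            rwa [mul_inv_cancel_right] at this
          exact q.inj hK h3 hfc
        · exfalso
          -- `y` is central in `K`
          have h3 : ∀ k ∈ K, y * k = k * y := by
            intro k hk
            have h4 := h2 _ e2 k hk
            have h5 := hcK K hK k hk
            have h6 : c * (y * k) = c * (k * y) := by
              calc c * (y * k) = c * y * k := by group
                _ = k * (c * y) := h4
                _ = (k * c) * y := by group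
                _ = (c * k) * y := by rw [h5]
                _ = c * (k * y) := by group
            exact mul_left_cancel h6
          rcases hx.cent hy (i := 0) (j := 1) (by decide) (h3 _ (hx.mem 0)) (h3 _ (hx.mem 1)) with h4 | h4
          · rw [h4, orderOf_one] at hy4; omega
          · rw [h4, q.hyp.orderOf_zz hK] at hy4; omega
      rw [e9, one_mul, mul_inv_eq_iff_eq_mul] at e1
      exact e1.symm
    have h2 := q.hyp.h3 K hK L hL y hy hy2' hy4 h1
    rw [mem_normalizer_iff_cj] at h2 ⊢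
    rw [← cj_map, h2]

end QM

end Cfsg.Agent.Cit.Nil.RTwoM.Quo
end

-- part: Cit/Nil/RTwoM/AN/QuoF
section
set_option linter.all false
open scoped Cfsg.Agent.FastGrp

/-!
# The quotient of a world by the centraliser of its members: the simple normal subgroup

`QT Om f` : `T0 Om`, `Om` connected, not nil, `f` surjective with kernel `C(⟨Om⟩)`.

* `QT.data` : the component of `⟨Om⟩`;
* `QT.qm` : `QM Om f`;
* `QT.fsimp` : the image of the component is a `FSimp` of `Y` which contains all `f (zz K)`.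
-/

set_option autoImplicit false
set_option linter.style.haveILetI false
set_option linter.unusedSectionVars false

namespace Cfsg.Agent.Cit.Nil.RTwoM.Quo

open Subgroup Cfsg Cit IndDefs RTwo

universe u

/-- the quotient situation, with the input of the induction -/
structure QT {M Y : Type*} [Group M] [Group Y] [Finite M] (Om : Set (Subgroup M)) (f : M →* Y) : Prop where
  t0 : T0 Om
  conn : ∀ K ∈ Om, ∀ L ∈ Om, L ∈ comp Om K
  nn : ∃ K ∈ Om, ¬ NIL K
  surj : Function.Surjective f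
  ker : ∀ g, f g = 1 ↔ ∀ K ∈ Om, ∀ k ∈ K, g * k = k * g

/-- the output of `exists_comp` for `⟨Om⟩` -/
structure Dat {M : Type*} [Group M] (Om : Set (Subgroup M)) (L : Subgroup M) : Prop where
  comp : IsComponent L
  nor : L.Normal
  le : L ≤ sSup Om
  mem : ∀ J ∈ Om, zz J ∈ L
  ncen : ∀ J ∈ Om, ¬ ∀ K ∈ Om, ∀ k ∈ K, zz J * k = k * zz J
  cen : ∀ g ∈ sSup Om, (∀ x ∈ L, g * x = x * g) → ∀ b ∈ sSup Om, g * b = b * g

namespace QT

variable {M Y : Type u} [Group M] [Group Y] [Finite M] {Om : Set (Subgroup M)} {f : M →* Y} {K L : Subgroup M}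
  (q : QT Om f) {g x y : M}

theorem cen_sSup (h : ∀ K ∈ Om, ∀ k ∈ K, g * k = k * g) : ∀ b ∈ sSup Om, g * b = b * g := by
  have h1 : sSup Om ≤ centralizer {g} := sSup_le fun K hK k hk => mem_centralizer_singleton_iff.2 (h K hK k hk).symm
  intro b hb
  exact (mem_centralizer_singleton_iff.1 (h1 hb)).symm

include q

theorem data (hev : ∀ (G : Type u) [Group G] [Finite G], Comp.EvQ G) : ∃ L, Dat Om L := by
  haveI : Fact (Nat.Prime 2) := ⟨Nat.prime_two⟩
  obtain ⟨K, hK, hN⟩ := q.nn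
  have t := q.t0
  obtain ⟨B, hB⟩ : ∃ B : Subgroup M, B = sSup Om := ⟨_, rfl⟩
  have hle : ∀ L ∈ Om, L ≤ B := fun L hL => by rw [hB]; exact le_sSup hL
  have hBn : B.Normal := by
    refine ⟨fun x hx g => ?_⟩
    have h1 : B ≤ B.comap (MulAut.conj g).toMonoidHom := by
      conv_lhs => rw [hB]
      refine sSup_le fun L hL x hx => ?_
      have h2 : g * x * g⁻¹ ∈ cj g L := conj_mem_cj hx
      exact hle _ (t.hyp.conj L hL g) h2
    exact h1 hx
  have hBs : B.IsSubnormal := hBn.isSubnormal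
  have tB := Ind.SubB.t0_restr t hBs
  have hmap : ∀ L ∈ Om, (L.subgroupOf B).map B.subtype = L := fun L hL => map_subgroupOf_eq_of_le (hle L hL)
  have hres : ∀ L ∈ Om, L.subgroupOf B ∈ restr Om B := fun L hL => subgroupOf_mem_restr hL (hle L hL)
  have hcov : ∀ A ∈ restr Om B, ∃ L ∈ Om, A = L.subgroupOf B := by
    intro A hA
    refine ⟨_, mem_restr.1 hA, ?_⟩
    rw [subgroupOf, comap_map_eq_self_of_injective B.subtype_injective]
  have topB : sSup (restr Om B) = ⊤ := by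
    rw [eq_top_iff]
    rintro ⟨b, hb⟩ _
    have h1 : B ≤ (sSup (restr Om B)).map B.subtype := by
      conv_lhs => rw [hB]
      refine sSup_le fun L hL => ?_
      conv_lhs => rw [← hmap L hL]
      exact Subgroup.map_mono (le_sSup (hres L hL))
    obtain ⟨x, hx, hxb⟩ := h1 hb
    have h2 : x = ⟨b, hb⟩ := Subtype.ext hxb
    rwa [← h2]
  have connB : ∀ A ∈ restr Om B, ∀ C ∈ restr Om B, C ∈ comp (restr Om B) A := by
    intro A hA C hC
    obtain ⟨L, hL, rfl⟩ := hcov A hA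
    obtain ⟨L', hL', rfl⟩ := hcov C hC
    exact Ind.SubB.subgroupOf_mem_comp (fun N hN' => hle N (comp_sub hL hN')) (q.conn L hL L' hL')
  have hNB : ¬ NIL (K.subgroupOf B) := by
    intro h
    apply hN
    have h1 := zz_map t.hyp (hres K hK)
    rw [hmap K hK] at h1
    rw [NIL, ← h1]
    have h2 : pCore 2 B ≤ (pCore 2 M).comap B.subtype := by
      rw [← map_le_iff_le_comap]
      exact SignalizersComponents.CompBasic.subnormal_pGroup_le_pCore
        (Subgroup.IsSubnormal.trans' (Lib.Cores.pCore_normal 2).isSubnormal hBs)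
        ((Lib.Cores.pCore_isPGroup 2).map _)
    exact h2 h
  obtain ⟨hpc, L, hL, hLn, huni, hzL, hzc⟩ := Ind.Red.exists_comp tB topB connB (hev B) (hev _) (hres K hK) hNB
  have hCL := Ind.centralizer_eq huni tB.core hpc
  have hzz : ∀ J (hJ : J ∈ Om), ∃ h : zz J ∈ B, (⟨zz J, h⟩ : B) = zz (J.subgroupOf B) := by
    intro J hJ
    refine ⟨hle J hJ (t.hyp.zz_mem hJ), Subtype.ext ?_⟩
    have h1 := zz_map t.hyp (hres J hJ)
    rw [hmap J hJ] at h1
    exact h1.symm
  refine ⟨L.map B.subtype, ⟨SignalizersComponents.Components.isComponent_map_subtype hBs hL, ⟨?_⟩, ?_, ?_, ?_, ?_⟩⟩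
  · -- normal
    intro x hx g
    have h1 := SignalizersComponents.Components.isComponent_conj g
      (SignalizersComponents.Components.isComponent_map_subtype hBs hL)
    have h2 : (L.map B.subtype).map (MulAut.conj g).toMonoidHom ≤ B := by
      rintro _ ⟨y, ⟨w, -, rfl⟩, rfl⟩
      exact hBn.conj_mem _ w.2 g
    have h3 := SignalizersComponents.Components.isComponent_subgroupOf h2 h1
    have h4 := huni _ h3
    have h5 : (L.map B.subtype).map (MulAut.conj g).toMonoidHom = L.map B.subtype := by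
      rw [← map_subgroupOf_eq_of_le h2, h4]
    rw [← h5]
    exact ⟨x, hx, rfl⟩
  · rw [← hB]; exact map_subtype_le L
  · intro J hJ
    obtain ⟨h1, h2⟩ := hzz J hJ
    refine ⟨⟨zz J, h1⟩, ?_, rfl⟩
    rw [h2]
    exact hzL _ (hres J hJ)
  · intro J hJ h
    obtain ⟨h1, h2⟩ := hzz J hJ
    apply hzc _ (hres J hJ)
    rw [← h2, mem_center_iff]
    rintro ⟨b, hb⟩
    apply Subtype.ext
    have h3 := cen_sSup h b (by rw [← hB]; exact hb)
    exact h3.symm
  · intro g hg h b hb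
    rw [← hB] at hg hb
    have h1 : (⟨g, hg⟩ : B) ∈ centralizer (L : Set B) := by
      rw [mem_centralizer_iff]
      intro x hx
      exact Subtype.ext (h x ⟨x, hx, rfl⟩).symm
    rw [hCL] at h1
    exact congrArg Subtype.val (mem_center_iff.1 h1 ⟨b, hb⟩).symm

theorem qm (hev : ∀ (G : Type u) [Group G] [Finite G], Comp.EvQ G) : QM Om f where
  hyp := q.t0.hyp
  card := q.t0.card
  surj := q.surj
  ker := q.ker
  no K hK h := by
    obtain ⟨L, hL⟩ := q.data hev
    exact hL.ncen K hK ((q.ker _).1 h)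

/-- an element centralising the component is in the kernel -/
theorem ker_of_cen (hev : ∀ (G : Type u) [Group G] [Finite G], Comp.EvQ G) (hL : Dat Om L)
    (h : ∀ x ∈ L, g * x = x * g) : f g = 1 := by
  have qm := q.qm hev
  rw [q.ker]
  intro K hK k hk
  have h1 := qm.as_lift (g := g) hK (one_mem K) (fun k hk => by
    have hc : f (g * k * g⁻¹ * k⁻¹) = 1 := by
      rw [q.ker]
      have hcB : g * k * g⁻¹ * k⁻¹ ∈ sSup Om := by
        refine mul_mem ?_ (inv_mem ((le_sSup hK : K ≤ sSup Om) hk))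
        exact (le_sSup (q.t0.hyp.conj K hK g) : cj g K ≤ sSup Om) (conj_mem_cj hk)
      have hcL : ∀ x ∈ L, g * k * g⁻¹ * k⁻¹ * x = x * (g * k * g⁻¹ * k⁻¹) := by
        intro x hx
        have h2 : k⁻¹ * x * k ∈ L := by
          have := hL.nor.conj_mem x hx k⁻¹
          rwa [inv_inv] at this
        have h3 := h _ h2
        have h4 := h _ hx
        calc g * k * g⁻¹ * k⁻¹ * x = g * k * g⁻¹ * (k⁻¹ * x * k) * k⁻¹ := by group
          _ = g * k * g⁻¹ * ((k⁻¹ * x * k) * g) * g⁻¹ * k⁻¹ := by group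
          _ = g * k * g⁻¹ * (g * (k⁻¹ * x * k)) * g⁻¹ * k⁻¹ := by rw [h3]
          _ = (g * x) * (k * g⁻¹ * k⁻¹) := by group
          _ = (x * g) * (k * g⁻¹ * k⁻¹) := by rw [h4]
          _ = x * (g * k * g⁻¹ * k⁻¹) := by group
      have h2 := hL.cen _ hcB hcL
      intro K' hK' k' hk'
      exact h2 k' ((le_sSup hK' : K' ≤ sSup Om) hk')
    rw [one_mul, inv_one, mul_one]
    have h2 : f (g * k * g⁻¹) = f (g * k * g⁻¹ * k⁻¹) * f k := by rw [← map_mul]; congr 1; group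
    rw [h2, hc, one_mul]) k hk
  rw [one_mul, inv_one, mul_one] at h1
  exact mul_inv_eq_iff_eq_mul.1 h1

/-- **the simple normal subgroup of `Y`** -/
theorem fsimp (hev : ∀ (G : Type u) [Group G] [Finite G], Comp.EvQ G) :
    ∃ X : Subgroup Y, ROne.FSimp X ∧ (∀ K ∈ Om, f (zz K) ∈ X) ∧ 2 ∣ Nat.card X := by
  obtain ⟨L, hL⟩ := q.data hev
  have qm := q.qm hev
  have hperf : Group.IsPerfect L := hL.comp.2.1
  have hLn := hL.nor
  have hkerL : ∀ c, f c = 1 → ∀ x ∈ L, c * x = x * c := fun c hc x hx =>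
    cen_sSup ((q.ker c).1 hc) x (hL.le hx)
  have hCX : centralizer ((L.map f : Subgroup Y) : Set Y) = ⊥ := by
    rw [eq_bot_iff]
    intro w hw
    obtain ⟨g, rfl⟩ := q.surj w
    obtain ⟨X, hX⟩ : ∃ X : Subgroup M, X = (centralizer ((L.map f : Subgroup Y) : Set Y)).comap f := ⟨_, rfl⟩
    have hgX : g ∈ X := by rw [hX]; exact hw
    have h1 : ⁅X, L⁆ ≤ f.ker := by
      rw [commutator_le]
      intro y hy l hl
      rw [hX, mem_comap, mem_centralizer_iff] at hy
      have h3 := hy (f l) ⟨l, hl, rfl⟩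
      rw [MonoidHom.mem_ker, commutatorElement_def, map_mul, map_mul, map_mul, ← h3, map_inv, map_inv]
      group
    have h3 : ⁅⁅X, L⁆, L⁆ = ⊥ := by
      rw [commutator_eq_bot_iff_le_centralizer]
      intro y hy
      rw [mem_centralizer_iff]
      intro l hl
      exact (hkerL y (MonoidHom.mem_ker.1 (h1 hy)) l hl).symm
    have h4 := SignalizersComponents.Components.commutator_eq_bot_of_commutator_commutator_eq_bot hperf h3
    rw [commutator_eq_bot_iff_le_centralizer] at h4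
    rw [mem_bot]
    exact q.ker_of_cen hev hL fun x hx => (mem_centralizer_iff.1 (h4 hgX) x hx).symm
  have hXn : (L.map f).Normal := hLn.map f q.surj
  obtain ⟨g, hg⟩ : ∃ g : ↥L →* ↥(L.map f), g = f.subgroupMap L := ⟨_, rfl⟩
  have hgs : Function.Surjective g := by rw [hg]; exact f.subgroupMap_surjective L
  have hgk : g.ker = center ↥L := by
    ext y
    rw [MonoidHom.mem_ker, mem_center_iff, hg]
    constructor
    · intro h1 w
      have h3 : f (y : M) = 1 := congrArg Subtype.val h1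
      exact Subtype.ext (hkerL _ h3 w w.2).symm
    · intro h1
      have h3 := q.ker_of_cen hev hL (g := (y : M)) fun x hx => (congrArg Subtype.val (h1 ⟨x, hx⟩)).symm
      exact Subtype.ext h3
  have hsimp : IsSimpleGroup ↥(L.map f) := by
    have hs : IsSimpleGroup (↥L ⧸ center ↥L) := hL.comp.2.2
    have e : ↥(L.map f) ≃* ↥L ⧸ center ↥L :=
      ((QuotientGroup.quotientMulEquivOfEq hgk).symm.trans (QuotientGroup.quotientKerEquivOfSurjective g hgs)).symm
    exact e.isSimpleGroup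
  refine ⟨L.map f, ⟨hXn, hsimp, ?_, hCX⟩, fun K hK => ⟨_, hL.mem K hK, rfl⟩, ?_⟩
  · intro hcm
    have h1 : L.map f ≤ centralizer ((L.map f : Subgroup Y) : Set Y) := by
      intro a ha
      rw [mem_centralizer_iff]
      intro b hb
      exact hcm b hb a ha
    rw [hCX, le_bot_iff] at h1
    have h3 : Nontrivial ↥(L.map f) := hsimp.toNontrivial
    rw [h1] at h3
    exact not_nontrivial _ h3
  · obtain ⟨K, hK, -⟩ := q.nn
    have h1 : f (zz K) ∈ L.map f := ⟨_, hL.mem K hK, rfl⟩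
    have h2 : orderOf (⟨f (zz K), h1⟩ : ↥(L.map f)) = 2 := by
      rw [Subgroup.orderOf_mk, QuoCen.orderOf_map (qm.inf_ker hK) (q.t0.hyp.zz_mem hK), q.t0.hyp.orderOf_zz hK]
    rw [← h2]
    exact orderOf_dvd_natCard _

end QT

end Cfsg.Agent.Cit.Nil.RTwoM.Quo
end

-- part: Cit/Nil/CompR/SecMap
section
prune_inst 0x100045005422100000180000200004403000000200400000004000000948800120050001307002101110a4e0400a8060029800094038000020008a0040000000040122e010741c0011000040c801180c00000000000000000000000000000000000000000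
set_option linter.all false
open scoped Cfsg.Agent.FastGrp

/-!
# S1309 (n6), COMP, `r = 2`, the section of a block: transfer of `W2` along a homomorphism

`WMap f O₁ O₂` : `O₂` is the image of `O₁`, `f` is injective on the members, and separates the points.

* `WMap.of_central`, `WMap.of_inj` : central quotients, inclusions;
* the notions `Mem`, `InZ`, `Inn`, `CX`, `RZ`, `TI`, `Lab`, `CC`, `Frame`, `DC`, `Sw` under `f`.
-/

set_option autoImplicit false
set_option linter.unusedSectionVars false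

namespace Cfsg.Agent.Cit.Nil.CompR

open Subgroup Cfsg Cfsg.Agent.Cit Cfsg.Agent.Cit.Nil.RTwo

variable {G₁ G₂ : Type*} [Group G₁] [Group G₂]

/-- see the head of the file -/
structure WMap (f : G₁ →* G₂) (O₁ : Set (Subgroup G₁)) (O₂ : Set (Subgroup G₂)) : Prop where
  w1 : W2 O₁
  w2 : W2 O₂
  im : O₂ = img f O₁
  inf : ∀ K ∈ O₁, K ⊓ f.ker = ⊥
  inj : ∀ K ∈ O₁, ∀ L ∈ O₁, f (zz K) = f (zz L) → zz K = zz L

namespace WMap

variable [Finite G₁] [Finite G₂] {f : G₁ →* G₂} {O₁ : Set (Subgroup G₁)} {O₂ : Set (Subgroup G₂)}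
  {K L K1 K2 : Subgroup G₁} {z t g x y c : G₁} {a b : Fin 3 → G₁} {v : Fin 3 × Fin 3} (m : WMap f O₁ O₂)

include m

theorem zz_map (hK : K ∈ O₁) : zz (K.map f) = f (zz K) := QuoCen.zz_map_of_inf m.w1.hyp hK (m.inf K hK)

theorem inj_on (hK : K ∈ O₁) (hx : x ∈ K) (hy : y ∈ K) (h : f x = f y) : x = y := by
  have h1 : x * y⁻¹ ∈ K ⊓ f.ker := mem_inf.2 ⟨mul_mem hx (inv_mem hy), by
    rw [MonoidHom.mem_ker, map_mul, map_inv, h, mul_inv_cancel]⟩
  rw [m.inf K hK, mem_bot, mul_inv_eq_one] at h1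
  exact h1

theorem mem (hK : Mem O₁ z K) : Mem O₂ (f z) (K.map f) := by
  obtain ⟨hK, rfl⟩ := hK
  refine ⟨?_, m.zz_map hK⟩
  rw [m.im]; exact ⟨K, hK, rfl⟩

theorem inZ (hz : InZ O₁ z) : InZ O₂ (f z) := by
  obtain ⟨K, hK⟩ := hz; exact ⟨_, m.mem hK⟩

theorem lift_inZ {y : G₂} (hy : InZ O₂ y) : ∃ z, InZ O₁ z ∧ f z = y := by
  obtain ⟨L, hL, rfl⟩ := hy
  rw [m.im] at hL
  obtain ⟨K, hK, rfl⟩ := hL
  exact ⟨zz K, ⟨K, hK, rfl⟩, (m.zz_map hK).symm⟩

theorem eq_of (hz : InZ O₁ z) (ht : InZ O₁ t) (h : f z = f t) : z = t := by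
  obtain ⟨K, hK, rfl⟩ := hz
  obtain ⟨L, hL, rfl⟩ := ht
  exact m.inj K hK L hL h

theorem lift_mem {L' : Subgroup G₂} (hL : Mem O₂ (f z) L') (hz : InZ O₁ z) : ∃ K, Mem O₁ z K ∧ K.map f = L' := by
  obtain ⟨hL, h1⟩ := hL
  rw [m.im] at hL
  obtain ⟨K, hK, rfl⟩ := hL
  refine ⟨K, ⟨hK, ?_⟩, rfl⟩
  rw [m.zz_map hK] at h1
  exact m.eq_of ⟨K, hK, rfl⟩ hz h1

/-- `f g` commutes with `f z` -/
theorem com (hz : InZ O₁ z) (h : f g * f z = f z * f g) : g * z = z * g := by
  have h1 := m.eq_of (hz.conj m.w1 g) hz (by rw [map_mul, map_mul, map_inv, h, mul_inv_cancel_right])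
  rwa [mul_inv_eq_iff_eq_mul] at h1

theorem map_inj (hK : K ∈ O₁) (hL : L ∈ O₁) (h : K.map f = L.map f) : K = L := by
  have hz : zz K = zz L := m.inj K hK L hL (by rw [← m.zz_map hK, ← m.zz_map hL, h])
  by_contra hne
  have mK : Mem O₁ (zz K) K := ⟨hK, rfl⟩
  have mL : Mem O₁ (zz K) L := ⟨hL, hz.symm⟩
  obtain ⟨q, hq⟩ := m.w1.exists_q3 mK
  have h1 : f (q 1) ∈ L.map f := by rw [← h]; exact ⟨q 1, hq.mem 1, rfl⟩
  obtain ⟨l, hl, h2⟩ := h1
  have h3 := mK.comm mL m.w1 hne (hq.mem 0) hl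
  refine hq.not_comm (m.inj_on hK (mul_mem (hq.mem 0) (hq.mem 1)) (mul_mem (hq.mem 1) (hq.mem 0)) ?_)
  rw [map_mul, map_mul, ← h2, ← map_mul, h3, map_mul]

theorem cj_eq_iff (hK : K ∈ O₁) : cj (f g) (K.map f) = K.map f ↔ cj g K = K := by
  rw [← cj_map]
  exact ⟨fun h => m.map_inj (m.w1.hyp.conj K hK g) hK h, fun h => by rw [h]⟩

theorem sw (hz : InZ O₁ z) (h : Sw O₁ z g) : Sw O₂ (f z) (f g) := by
  intro L' hL' h1
  obtain ⟨K, hK, rfl⟩ := m.lift_mem hL' hz
  exact h K hK ((m.cj_eq_iff hK.1).1 h1)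

theorem sw_up (h : Sw O₂ (f z) (f g)) : Sw O₁ z g := by
  intro K hK h1
  exact h _ (m.mem hK) ((m.cj_eq_iff hK.1).2 h1)

theorem inn (hz : InZ O₁ z) (h : Inn O₁ z g) : Inn O₂ (f z) (f g) := by
  intro L' hL' y hy
  obtain ⟨K, hK, rfl⟩ := m.lift_mem hL' hz
  obtain ⟨k, hk, rfl⟩ := hy
  rcases h K hK k hk with h1 | h1
  · left; rw [← map_inv, ← map_mul, ← map_mul, h1]
  · right; rw [← map_inv, ← map_mul, ← map_mul, h1, map_mul]

theorem inn_up (hz : InZ O₁ z) (h : Inn O₂ (f z) (f g)) : Inn O₁ z g := by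
  have hgz : g * z = z * g := m.com hz (h.comm_z (m.inZ hz) m.w2)
  intro K hK k hk
  -- `g` normalises `K`
  have hgK : cj g K = K := by
    rw [← m.cj_eq_iff hK.1]
    refine eq_of_le_of_card_ge ?_ (by rw [card_cj])
    intro y hy
    rw [mem_cj] at hy
    obtain ⟨k', hk', h1⟩ := hy
    have h2 : y = f g * f k' * (f g)⁻¹ := by rw [h1]; group
    rcases h _ (m.mem hK) (f k') ⟨k', hk', rfl⟩ with h3 | h3
    · rw [h2, h3]; exact ⟨k', hk', rfl⟩
    · rw [h2, h3, ← map_mul]; exact ⟨z * k', mul_mem (hK.zmem m.w1) hk', rfl⟩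
  have h1 : g * k * g⁻¹ ∈ K := by rw [← hgK]; exact conj_mem_cj hk
  rcases h _ (m.mem hK) (f k) ⟨k, hk, rfl⟩ with h3 | h3
  · left
    exact m.inj_on hK.1 h1 hk (by rw [map_mul, map_mul, map_inv, h3])
  · right
    exact m.inj_on hK.1 h1 (mul_mem (hK.zmem m.w1) hk) (by rw [map_mul, map_mul, map_inv, h3, map_mul])

theorem cx (hz : InZ O₁ z) (h : x ∈ CX O₁ z) : f x ∈ CX O₂ (f z) := by
  rw [mem_CX]
  intro L' hL' y hy
  obtain ⟨K, hK, rfl⟩ := m.lift_mem hL' hz
  obtain ⟨k, hk, rfl⟩ := hy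
  rw [← map_mul, mem_CX.1 h K hK k hk, map_mul]

theorem cx_up (hz : InZ O₁ z) (h : f x ∈ CX O₂ (f z)) : x ∈ CX O₁ z := by
  rw [mem_CX]
  intro K hK k hk
  have h1 := m.inn_up hz (Inn.of_CX h) K hK k hk
  have h2 : x * k * x⁻¹ ∈ K := by
    rcases h1 with h1 | h1 <;> rw [h1]
    · exact hk
    · exact mul_mem (hK.zmem m.w1) hk
  have h3 := m.inj_on hK.1 h2 hk (by
    rw [map_mul, map_mul, map_inv, mem_CX.1 h _ (m.mem hK) (f k) ⟨k, hk, rfl⟩, mul_inv_cancel_right])
  rwa [mul_inv_eq_iff_eq_mul] at h3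

theorem rz (h : x ∈ RZ O₁ z) : f x ∈ RZ O₂ (f z) := by
  have h1 : RZ O₁ z ≤ (RZ O₂ (f z)).comap f := RZ_le fun K hK k hk => (m.mem hK).le_RZ ⟨k, hk, rfl⟩
  exact h1 h

theorem ti (h : TI O₁ z t) : TI O₂ (f z) (f t) :=
  ⟨m.inZ h.1, m.inZ h.2.1, fun e => h.2.2.1 (m.eq_of h.1 h.2.1 e), by rw [← map_mul, h.2.2.2.1, map_mul],
    m.inn h.1 h.2.2.2.2⟩

theorem ti_up (hz : InZ O₁ z) (ht : InZ O₁ t) (h : TI O₂ (f z) (f t)) : TI O₁ z t :=
  ⟨hz, ht, fun e => h.2.2.1 (by rw [e]), m.com ht h.2.2.2.1, m.inn_up hz h.2.2.2.2⟩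

theorem lab (h : Lab O₁ z t c) : Lab O₂ (f z) (f t) (f c) :=
  ⟨m.ti h.ti, by rw [← map_mul, h.sq, map_one], m.cx h.ti.1 h.cz, m.cx h.ti.2.1 h.ct,
    by rw [← map_mul]; exact m.rz h.wz, by rw [← map_mul]; exact m.rz h.wt⟩

theorem lab_up {c' : G₂} (hz : InZ O₁ z) (ht : InZ O₁ t) (h : Lab O₂ (f z) (f t) c') : ∃ c, Lab O₁ z t c ∧ f c = c' := by
  obtain ⟨c, hc⟩ := (m.ti_up hz ht h.ti).exists_lab m.w1
  exact ⟨c, hc, (m.lab hc).unique m.w2 h⟩

theorem cc (h : c ∈ CC O₁ z) : f c ∈ CC O₂ (f z) := by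
  obtain ⟨t, h⟩ := h; exact ⟨_, m.lab h⟩

theorem cc_up {c' : G₂} (hz : InZ O₁ z) (h : c' ∈ CC O₂ (f z)) : ∃ c ∈ CC O₁ z, f c = c' := by
  obtain ⟨t', h⟩ := h
  obtain ⟨t, ht, rfl⟩ := m.lift_inZ h.ti.2.1
  obtain ⟨c, hc, rfl⟩ := m.lab_up hz ht h
  exact ⟨c, ⟨t, hc⟩, rfl⟩

theorem q3 (hK : Mem O₁ z K) (hq : Q3 K z a) : Q3 (K.map f) (f z) (fun i => f (a i)) where
  mem i := ⟨a i, hq.mem i, rfl⟩
  sq i := by rw [← map_mul, hq.sq]
  mul i := by rw [← map_mul, hq.mul]
  z2 := by rw [← map_mul, hq.z2, map_one]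
  z1 h := hq.z1 (m.inj_on hK.1 (hK.zmem m.w1) (one_mem K) (by rw [h, map_one]))
  cov := by
    rintro _ ⟨k, hk, rfl⟩
    rcases hq.cov k hk with h | h | ⟨i, h | h⟩
    · left; rw [h, map_one]
    · right; left; rw [h]
    · right; right; exact ⟨i, Or.inl (by rw [h])⟩
    · right; right; exact ⟨i, Or.inr (by rw [h, map_mul])⟩

theorem frame (F : Frame O₁ z K1 K2 a b) :
    Frame O₂ (f z) (K1.map f) (K2.map f) (fun i => f (a i)) (fun i => f (b i)) where
  k1 := m.mem F.k1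
  k2 := m.mem F.k2
  ne h := F.ne (m.map_inj F.k1.1 F.k2.1 h)
  qa := m.q3 F.k1 F.qa
  qb := m.q3 F.k2 F.qb

theorem dc {p : Fin 3 × Fin 3} (h : p ∈ DC O₁ z a b c) :
    p ∈ DC O₂ (f z) (fun i => f (a i)) (fun i => f (b i)) (f c) := by
  obtain ⟨t, ht, hd⟩ := h
  refine ⟨f t, m.lab ht, ?_⟩
  rcases hd with hd | hd
  · left; rw [← map_mul, hd, map_mul]
  · right; rw [← map_mul, hd, map_mul, map_mul]

end WMap

/-! ### Central quotients and inclusions -/

section of

variable [Finite G₁] [Finite G₂] {f : G₁ →* G₂} {O₁ : Set (Subgroup G₁)}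

theorem card_map_of_inf {K : Subgroup G₁} (hK : K ⊓ f.ker = ⊥) : Nat.card (K.map f) = Nat.card K :=
  (Nat.card_congr (QuoCen.equivMap hK).toEquiv).symm

theorem inf_ker_of (h : W2 O₁) {K : Subgroup G₁} (hK : K ∈ O₁) (hz : zz K ∉ f.ker) : K ⊓ f.ker = ⊥ := by
  have mK : Mem O₁ (zz K) K := ⟨hK, rfl⟩
  obtain ⟨x, hx⟩ := h.exists_q3 mK
  rw [eq_bot_iff]
  rintro k ⟨hk, hkf⟩
  rw [mem_bot]
  rcases hx.cov k hk with h1 | h1 | ⟨i, h1 | h1⟩
  · exact h1
  · exact absurd (h1 ▸ hkf) hz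
  · exfalso
    apply hz
    rw [← hx.sq i, ← h1]
    exact mul_mem hkf hkf
  · exfalso
    apply hz
    have e : zz K = k * k := by
      rw [h1]
      calc zz K = zz K * (zz K * (x i * x i)) := by rw [hx.sq, hx.z2, mul_one]
        _ = zz K * (zz K * x i) * x i := by group
        _ = zz K * (x i * zz K) * x i := by rw [hx.zc]
        _ = _ := by group
    rw [e]
    exact mul_mem hkf hkf

/-- points which agree modulo the centre are equal -/
theorem zz_eq_of_central (h : W2 O₁) (hC : f.ker ≤ center G₁) {K L : Subgroup G₁} (hK : K ∈ O₁) (hL : L ∈ O₁)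
    (he : f (zz K) = f (zz L)) : zz K = zz L := by
  have h1 : zz L * (zz K)⁻¹ ∈ f.ker := by rw [MonoidHom.mem_ker, map_mul, map_inv, he, mul_inv_cancel]
  have h2 : zz L = zz L * (zz K)⁻¹ * zz K := by group
  have mK : Mem O₁ (zz K) K := ⟨hK, rfl⟩
  have mL : Mem O₁ (zz L) L := ⟨hL, rfl⟩
  refine (mL.inZ.eq_of_cent mK h fun k hk => ?_).symm
  have h3 := mem_center_iff.1 (hC h1) k
  calc zz L * k = zz L * (zz K)⁻¹ * (zz K * k) := by group
    _ = zz L * (zz K)⁻¹ * (k * zz K) := by rw [mK.comm_z h hk]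
    _ = (k * (zz L * (zz K)⁻¹)) * zz K := by rw [h3]; group
    _ = k * zz L := by rw [mul_assoc, ← h2]

theorem WMap.of_central (h : W2 O₁) (hf : Function.Surjective f) (hC : f.ker ≤ center G₁)
    (hz : ∀ K ∈ O₁, zz K ∉ f.ker) : WMap f O₁ (img f O₁) := by
  have hi : ∀ K ∈ O₁, K ⊓ f.ker = ⊥ := fun K hK => inf_ker_of h hK (hz K hK)
  have hzm : ∀ K ∈ O₁, zz (K.map f) = f (zz K) := fun K hK => QuoCen.zz_map_of_inf h.hyp hK (hi K hK)
  have hinj : ∀ K ∈ O₁, ∀ L ∈ O₁, f (zz K) = f (zz L) → zz K = zz L := fun K hK L hL =>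
    zz_eq_of_central h hC hK hL
  have h8 : Three.H8 O₁ := ⟨h.hyp, h.card⟩
  refine ⟨h, ⟨QuoCen.hyp_img_central h.hyp hf hC hi, ?_, ?_, ?_⟩, rfl, hi, hinj⟩
  · rintro _ ⟨K, hK, rfl⟩
    rw [card_map_of_inf (hi K hK), h.card K hK]
  · rintro _ ⟨K, hK, rfl⟩
    obtain ⟨L, hL, hne, hzL, hall⟩ := h.two K hK
    refine ⟨L.map f, ⟨L, hL, rfl⟩, ?_, by rw [hzm L hL, hzm K hK, hzL], ?_⟩
    · intro he
      have mK : Mem O₁ (zz K) K := ⟨hK, rfl⟩
      have mL : Mem O₁ (zz K) L := ⟨hL, hzL⟩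
      obtain ⟨q, hq⟩ := h.exists_q3 mK
      have h1 : f (q 1) ∈ L.map f := by rw [he]; exact ⟨q 1, hq.mem 1, rfl⟩
      obtain ⟨l, hl, h2⟩ := h1
      have h3 := mK.comm mL h hne.symm (hq.mem 0) hl
      have h4 : f (q 0 * q 1) = f (q 1 * q 0) := by rw [map_mul, map_mul, ← h2, ← map_mul, h3, map_mul]
      have h5 : (q 0 * q 1) * (q 1 * q 0)⁻¹ ∈ K ⊓ f.ker :=
        mem_inf.2 ⟨mul_mem (mul_mem (hq.mem 0) (hq.mem 1)) (inv_mem (mul_mem (hq.mem 1) (hq.mem 0))), by
          rw [MonoidHom.mem_ker, map_mul, map_inv, h4, mul_inv_cancel]⟩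
      rw [hi K hK, mem_bot, mul_inv_eq_one] at h5
      exact hq.not_comm h5
    · rintro _ ⟨M, hM, rfl⟩ hz2
      rw [hzm M hM, hzm K hK] at hz2
      rcases hall M hM (hinj M hM K hK hz2) with h1 | h1
      · left; rw [h1]
      · right; rw [h1]
  · rintro _ ⟨K, hK, rfl⟩ _ ⟨L, hL, rfl⟩ hc
    rw [hzm K hK, hzm L hL, h.one K hK L hL (Ind.cm_of_map h8 hC hi hK hL hc)]

end of

/-- the restriction to a subgroup containing all members -/
theorem w2_restr {G : Type*} [Group G] [Finite G] {Om : Set (Subgroup G)} (h : W2 Om) {B : Subgroup G}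
    (hB : ∀ K ∈ Om, K ≤ B) : WMap B.subtype (restr Om B) Om := by
  have hyp := h.hyp.restr B
  have hzm : ∀ K ∈ restr Om B, ((zz K : ↥B) : G) = zz (K.map B.subtype) := fun K hK => zz_map h.hyp hK
  have hker : B.subtype.ker = ⊥ := B.ker_subtype
  refine ⟨⟨hyp, ?_, ?_, ?_⟩, h, ?_, ?_, ?_⟩
  · intro K hK
    rw [← h.card _ hK, card_map_of_injective B.subtype_injective]
  · intro K hK
    obtain ⟨L, hL, hne, hzL, hall⟩ := h.two _ hK
    refine ⟨L.subgroupOf B, subgroupOf_mem_restr hL (hB L hL), ?_, ?_, ?_⟩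
    · rintro rfl
      exact hne (map_subgroupOf_eq_of_le (hB L hL)).symm
    · apply Subtype.ext
      rw [hzm _ (subgroupOf_mem_restr hL (hB L hL)), hzm K hK, map_subgroupOf_eq_of_le (hB L hL), hzL]
    · intro M hM hz
      have h1 : zz (M.map B.subtype) = zz (K.map B.subtype) := by rw [← hzm M hM, ← hzm K hK, hz]
      rcases hall _ hM h1 with h2 | h2
      · left; exact map_injective B.subtype_injective h2
      · right
        apply map_injective B.subtype_injective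
        rw [h2, map_subgroupOf_eq_of_le (hB L hL)]
  · intro K hK L hL hc
    apply Subtype.ext
    rw [hzm K hK, hzm L hL]
    refine h.one _ hK _ hL ?_
    rintro _ ⟨k, hk, rfl⟩ _ ⟨l, hl, rfl⟩
    exact congrArg Subtype.val (hc k hk l hl)
  · ext K
    constructor
    · intro hK
      exact ⟨K.subgroupOf B, subgroupOf_mem_restr hK (hB K hK), map_subgroupOf_eq_of_le (hB K hK)⟩
    · rintro ⟨L, hL, rfl⟩
      exact hL
  · intro K _
    rw [hker, inf_bot_eq]
  · intro K _ L _ h1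
    exact B.subtype_injective h1

end Cfsg.Agent.Cit.Nil.CompR
end
end
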